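import Groth.Agent.L14.Chev.Cell.Open

/-!
The big cell meets the normalizer of the torus in the torus.
-/

set_option autoImplicit false
universe u

open CategoryTheory CategoryTheory.Limits AlgebraicGeometry MonoidalCategory CartesianMonoidalCategory MonObj
open Groth.L14.RankOne Groth.L25 Groth.L14.Chart

set_option backward.isDefEq.respectTransparency.types false
set_option linter.style.haveILetI false
set_option linter.unusedSectionVars false

noncomputable section

namespace Groth.L14.Chev.Cell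

variable {S : Scheme.{u}} {G : Over S} [GrpObj G] {D : Red.SplitRed G} {b : D.P.Base} {n m : ℕ}
  {eneg : Fin n → D.idx} {epos : Fin m → D.idx} {R : Type u} [CommRing R] {j : Spec (CommRingCat.of R) ⟶ S}
  [IsOpenImmersion j] {C : Type u} [CommRing C] [Algebra R C]

theorem eq_zero_of_single_eq {c : D.M} (hc : c ≠ 0) {a : C}
    (h : MonoidAlgebra.of C (Multiplicative D.M) (Multiplicative.ofAdd c) *
      algebraMap C (MonoidAlgebra C (Multiplicative D.M)) a = algebraMap C (MonoidAlgebra C (Multiplicative D.M)) a) :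
    a = 0 := by
  classical
  have := congrArg (fun p : MonoidAlgebra C (Multiplicative D.M) => p.coeff 1) h
  simpa [MonoidAlgebra.coe_algebraMap, Finsupp.single_apply, hc] using this.symm

theorem comp_cellMap_eq_torus (hneg : RedSub.Enumerates (RedSub.negRoots D.P b) eneg)
    (hpos : RedSub.Enumerates (RedSub.posRoots D.P b) epos) (t₀ : Sp j C ⟶ cellSpace D n m)
    (hnorm : ∀ (X' : Over S) (y : X' ⟶ Sp j C) (t : X' ⟶ D.T), ∃ t' : X' ⟶ D.T,
      (y ≫ t₀ ≫ RedSub.cellMap D eneg epos) * (t ≫ D.i) * (y ≫ t₀ ≫ RedSub.cellMap D eneg epos)⁻¹ = t' ≫ D.i) :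
    t₀ ≫ RedSub.cellMap D eneg epos = (t₀ ≫ snd _ _ ≫ fst _ _) ≫ D.i := by
  haveI := isMonHom_i (D := D)
  haveI : ∀ c, IsMonHom (D.u c) := fun c => (D.rootHom c).1
  obtain ⟨lam, hl⟩ := hasLam b
  obtain ⟨χ, y, z, e, et⟩ := exists_coords t₀ hneg.1 hpos.1
  have hT : t₀ ≫ snd _ _ ≫ fst _ _ = tpt D j χ := by rw [et]; simp
  let A := MonoidAlgebra C (Multiplicative D.M)
  let inc : C →ₐ[R] A := IsScalarTower.toAlgHom R C A
  let σ : Multiplicative D.M →* A := MonoidAlgebra.of C (Multiplicative D.M)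
  let σi : Multiplicative D.M →* A := σ.comp (invMonoidHom : Multiplicative D.M →* Multiplicative D.M)
  have hσi : σ * σi = 1 := MonoidHom.ext fun k => by
    show σ k * σ k⁻¹ = 1
    rw [← map_mul, mul_inv_cancel, map_one]
  obtain ⟨t', h⟩ := hnorm _ (mor j inc) (tpt D j σ)
  obtain ⟨σ', rfl⟩ := exists_tpt j t'
  rw [e] at h
  simp only [MonObj.comp_mul, mor_rootProd, ← Category.assoc (mor j inc) (tpt D j χ), mor_tpt] at h
  have hz := conj_rootProd j D.rootHom σi (List.ofFn epos) (fun c => inc (z c))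
  have hy := conj_rootProd j D.rootHom σ' (List.ofFn eneg) (fun c => inc (y c))
  rw [mul_inv_eq_iff_eq_mul] at h
  have hs : (tpt D j σi ≫ D.i) = (tpt D j σ ≫ D.i)⁻¹ := by
    rw [eq_inv_iff_mul_eq_one, ← MonObj.mul_comp, ← tpt_mul, mul_comm, hσi, tpt_one, MonObj.one_comp]
  rw [hs, inv_inv] at hz
  have h2 : rootProd j D.u (List.ofFn eneg) (fun c => inc (y c)) *
      ((tpt D j (((inc : C →* A).comp χ) * σ) ≫ D.i) *
        rootProd j D.u (List.ofFn epos) (fun c => σi (Multiplicative.ofAdd (D.P.root c)) * inc (z c))) =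
      rootProd j D.u (List.ofFn eneg) (fun c => σ' (Multiplicative.ofAdd (D.P.root c)) * inc (y c)) *
        ((tpt D j (σ' * ((inc : C →* A).comp χ)) ≫ D.i) * rootProd j D.u (List.ofFn epos) (fun c => inc (z c))) := by
    rw [← hy, ← hz, tpt_mul, tpt_mul, MonObj.mul_comp, MonObj.mul_comp]
    refine Eq.trans ?_ (h.trans ?_)
    · group
    · group
  obtain ⟨hχ, hy', hz'⟩ := cell_injective D.rootHom (mu := lam) (nodup_list hneg) (nodup_list hpos)
    (fun c hc => (hl c).2 ((mem_list_iff hneg c).1 hc)) (fun c hc => (hl c).1 ((mem_list_iff hpos c).1 hc)) h2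
  have hσ : σ' = σ := MonoidHom.ext fun k => by
    have := DFunLike.congr_fun hχ k
    simp only [MonoidHom.mul_apply, MonoidHom.comp_apply] at this
    rw [mul_comm (σ' k)] at this
    exact (((Group.isUnit k).map χ).map (inc : C →* A)).mul_left_cancel this.symm
  rw [hT, e, rootProd_eq_one j fun c hc => ?_, rootProd_eq_one j fun c hc => ?_, _root_.one_mul, _root_.mul_one]
  · refine eq_zero_of_single_eq (neg_ne_zero.2 (D.P.ne_zero c)) ?_
    exact hz' c hc
  · refine eq_zero_of_single_eq (D.P.ne_zero c) ?_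
    have := hy' c hc
    rw [hσ] at this
    exact this.symm

end Groth.L14.Chev.Cell
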