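import Groth.Agent.L14.Chev.Cell.Regular
import Groth.Agent.L24.RootD.Weyl

/-!
A root datum with a base is reduced.
-/

set_option autoImplicit false
universe u

open CategoryTheory AlgebraicGeometry
open Groth.L24.RootD (IsSimple)

set_option backward.isDefEq.respectTransparency.types false
set_option linter.style.haveILetI false
set_option linter.unusedSectionVars false

noncomputable section

namespace Groth.L14.Chev.Cell

variable {κ M N : Type} [Finite κ] [AddCommGroup M] [AddCommGroup N] [Module.Free ℤ M] [Module.Free ℤ N]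
  (P : RootPairing κ ℤ M N) (b : P.Base)

theorem two_smul_simple_notMem {a : κ} (ha : a ∈ b.support) : (2 : ℤ) • P.root a ∉ Set.range P.root := by
  classical
  rintro ⟨g, hg⟩
  haveI : IsAddTorsionFree N := .of_isTorsionFree ℤ _
  have h2 := P.smul_coroot_eq_of_root_eq_smul a g 2 hg
  obtain ⟨l, hl, hlg⟩ := (Finsupp.mem_span_image_iff_linearCombination ℤ).1 (b.coroot_mem_span_int g)
  have h : Finsupp.linearCombination ℤ P.coroot ((2 : ℤ) • l - Finsupp.single a 1) = 0 := by
    simp [hlg, h2]
  have hmem : ((2 : ℤ) • l - Finsupp.single a 1) ∈ Finsupp.supported ℤ ℤ (b.support : Set κ) :=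
    Submodule.sub_mem _ (Submodule.smul_mem _ _ hl) (Finsupp.single_mem_supported ℤ _ ha)
  have := congrArg (· a) (linearIndepOn_iff.1 b.linearIndepOn_coroot _ hmem h)
  simp at this
  omega

include b in
theorem two_smul_notMem (c : κ) : (2 : ℤ) • P.root c ∉ Set.range P.root := by
  haveI := Chart.RootCombo.isCrystallographic P
  haveI : IsAddTorsionFree M := .of_isTorsionFree ℤ _
  have hΔ := IsSimple.of_base b
  have hind : ∀ i : κ, RootD.IsIndiv P i → (2 : ℤ) • P.root i ∉ Set.range P.root := by
    rintro i hi ⟨k, hk⟩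
    obtain ⟨g, -, a, ha, hga⟩ := hΔ.exists_conj_simple' hi
    refine two_smul_simple_notMem P b ha ⟨g⁻¹ • k, ?_⟩
    rw [Groth.L24.RootD.root_smul, hk, ← hga, Groth.L24.RootD.root_smul,
      ← Groth.L24.RootD.smul_zsmul_M, inv_smul_smul]
  refine hind c fun m hm => ?_
  have hmi : RootD.IsIndiv P m := fun k hk => by
    have : P.root c = (4 : ℤ) • P.root k := by rw [← hm, ← hk, smul_smul]; norm_num
    rcases Groth.L24.RootD.multiple_of_root this with h | h | h | h <;> omega
  exact hind m hmi ⟨c, hm.symm⟩

include b in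
/-- Proportional roots are equal or opposite. -/
theorem eq_or_neg_of_dep {a c : κ} {p q : ℤ} (hp : p ≠ 0) (h : p • P.root c = q • P.root a) :
    c = a ∨ P.root c = -P.root a := by
  haveI : IsAddTorsionFree M := .of_isTorsionFree ℤ _
  have hdep : ¬ LinearIndependent ℤ ![P.root a, P.root c] := fun hli => by
    have := LinearIndependent.pair_iff.1 hli q (-p) (by rw [neg_smul, h, add_neg_cancel])
    omega
  have h2 := Chart.RootCombo.two_zsmul_of_not_indep P hdep
  have hprod := (Chart.RootCombo.not_indep_iff P).1 hdep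
  have hmem := Chart.RootCombo.pairs P c a
  simp only [Set.mem_insert_iff, Set.mem_singleton_iff, Prod.mk.injEq] at hmem
  have h4 : P.pairing c a = 2 ∨ P.pairing c a = -2 ∨ P.pairing c a = 1 ∨ P.pairing c a = -1 ∨ P.pairing c a = 4 ∨
      P.pairing c a = -4 := by
    rcases hmem with h | h | h | h | h | h | h | h | h | h | h | h | h | h | h | h | h <;>
      rw [h.1] <;> rw [h.1, h.2] at hprod <;> omega
  have hcancel : ∀ x y : M, (2 : ℤ) • x = (2 : ℤ) • y → x = y := fun x y e => smul_right_injective M two_ne_zero e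
  rcases h4 with e | e | e | e | e | e <;> rw [e] at h2
  · exact Or.inl (P.root.injective (hcancel _ _ h2))
  · exact Or.inr (hcancel _ _ (by rw [h2, neg_smul, smul_neg]))
  · rw [one_smul] at h2
    exact absurd ⟨a, h2.symm⟩ (two_smul_notMem P b c)
  · rw [neg_one_smul] at h2
    exact absurd ⟨P.reflectionPerm a a, by rw [Groth.L24.RootD.root_neg, h2]⟩ (two_smul_notMem P b c)
  · have : P.root c = (2 : ℤ) • P.root a := hcancel _ _ (by rw [h2, smul_smul]; norm_num)
    exact absurd ⟨c, this⟩ (two_smul_notMem P b a)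
  · have : P.root (P.reflectionPerm c c) = (2 : ℤ) • P.root a := hcancel _ _ (by
      rw [Groth.L24.RootD.root_neg, smul_neg, h2, smul_smul, ← neg_smul]; norm_num)
    exact absurd ⟨_, this⟩ (two_smul_notMem P b a)

end Groth.L14.Chev.Cell
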