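import Groth.Agent.L14.Chev.Cell.Inject
import Mathlib.RingTheory.Ideal.Maps

/-!
Points which have a limit under conjugation by a cocharacter.
-/

set_option autoImplicit false
universe u

open CategoryTheory CategoryTheory.Limits AlgebraicGeometry MonoidalCategory CartesianMonoidalCategory MonObj
open Groth.L14.RankOne Groth.L25 Groth.L14.Chart
open Polynomial (toLaurent toLaurentAlg X)
open LaurentPolynomial (T)

set_option backward.isDefEq.respectTransparency.types false
set_option linter.style.haveILetI false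
set_option linter.unusedSectionVars false

noncomputable section

namespace Groth.L14.Chev.Cell

variable {S : Scheme.{u}} {G : Over S} [GrpObj G] {D : Red.SplitRed G}
  {R : Type u} [CommRing R] (j : Spec (CommRingCat.of R) ⟶ S)
  {C : Type u} [CommRing C] [Algebra R C] {C' : Type u} [CommRing C'] [Algebra R C'] (mu : D.M →+ ℤ)

/-- The value of the character of a functional at a unit. -/
def unitChar (u : Cˣ) : Multiplicative D.M →* C where
  toFun m := ((u ^ mu m.toAdd : Cˣ) : C)
  map_one' := by simp
  map_mul' a b := by rw [← Units.val_mul, ← zpow_add, ← map_add]; rfl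

variable (D) in
/-- Conjugation by a torus point. -/
def conjT (χ : Multiplicative D.M →* C) (g : Sp j C ⟶ G) : Sp j C ⟶ G :=
  (tpt D j χ ≫ D.i) * g * (tpt D j χ ≫ D.i)⁻¹

theorem mor_conjT (h : C →ₐ[R] C') (χ : Multiplicative D.M →* C) (g : Sp j C ⟶ G) :
    mor j h ≫ conjT D j χ g = conjT D j ((h : C →* C').comp χ) (mor j h ≫ g) := by
  rw [conjT, conjT, MonObj.comp_mul, MonObj.comp_mul, GrpObj.comp_inv, ← Category.assoc, mor_tpt]

theorem conjT_mul (χ ψ : Multiplicative D.M →* C) (g : Sp j C ⟶ G) :
    conjT D j (χ * ψ) g = conjT D j χ (conjT D j ψ g) := by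
  haveI := isMonHom_i (D := D)
  simp only [conjT, tpt_mul, MonObj.mul_comp]
  group

theorem conjT_one (g : Sp j C ⟶ G) : conjT D j 1 g = g := by
  haveI := isMonHom_i (D := D)
  simp [conjT, tpt_one, MonObj.one_comp]

/-- `γ` extends the orbit of `p` under conjugation by the cocharacter over the affine line. -/
def Attracted (p : Sp j C ⟶ G) (γ : Sp j (Polynomial C) ⟶ G) : Prop :=
  mor j (toLau (R := R)) ≫ γ = conjT D j (chiLam C mu) (mor j (lauC (R := R)) ≫ p)

/-- Evaluation of Laurent polynomials at a unit. -/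
def lauEval (f : C →ₐ[R] C') (u : C'ˣ) : LaurentPolynomial C →ₐ[R] C' :=
  { LaurentPolynomial.eval₂ (f : C →+* C') u with
    commutes' := fun r => by
      show LaurentPolynomial.eval₂ (f : C →+* C') u _ = _
      rw [IsScalarTower.algebraMap_apply R C (LaurentPolynomial C)]
      exact (LaurentPolynomial.eval₂_C (f : C →+* C') u _).trans (f.commutes r) }

/-- Evaluation of polynomials at an element. -/
def polEval (f : C →ₐ[R] C') (x : C') : Polynomial C →ₐ[R] C' :=
  { Polynomial.eval₂RingHom (f : C →+* C') x with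
    commutes' := fun r => by
      show Polynomial.eval₂ (f : C →+* C') x (algebraMap R (Polynomial C) r) = _
      rw [IsScalarTower.algebraMap_apply R C (Polynomial C)]
      exact (Polynomial.eval₂_C (f : C →+* C') x).trans (f.commutes r) }

theorem polEval_polC (f : C →ₐ[R] C') (x : C') : (polEval f x).comp polC = f :=
  AlgHom.ext fun r => Polynomial.eval₂_C (f : C →+* C') x

theorem lauEval_toLau (f : C →ₐ[R] C') (u : C'ˣ) : (lauEval f u).comp toLau = polEval f (u : C') :=
  AlgHom.ext fun p => LaurentPolynomial.eval₂_toLaurent (f : C →+* C') u p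

theorem lauEval_lauC (f : C →ₐ[R] C') (u : C'ˣ) : (lauEval f u).comp lauC = f :=
  AlgHom.ext fun r => LaurentPolynomial.eval₂_C (f : C →+* C') u r

theorem lauEval_chiLam (f : C →ₐ[R] C') (u : C'ˣ) :
    (lauEval f u : LaurentPolynomial C →* C').comp (chiLam C mu) = unitChar mu u :=
  MonoidHom.ext fun m => LaurentPolynomial.eval₂_T (f : C →+* C') u _

variable {j mu}

theorem Attracted.eval_unit {p : Sp j C ⟶ G} {γ : Sp j (Polynomial C) ⟶ G} (h : Attracted j mu p γ)
    (f : C →ₐ[R] C') (u : C'ˣ) : mor j (polEval f (u : C')) ≫ γ = conjT D j (unitChar mu u) (mor j f ≫ p) := by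
  have := congrArg (fun s => mor j (lauEval f u) ≫ s) h
  simp only [mor_conjT, ← Category.assoc, ← mor_comp, lauEval_toLau, lauEval_lauC, lauEval_chiLam] at this
  exact this

theorem unitChar_one : unitChar mu (1 : Cˣ) = 1 := MonoidHom.ext fun m => by simp [unitChar]

theorem Attracted.eval_one {p : Sp j C ⟶ G} {γ : Sp j (Polynomial C) ⟶ G} (h : Attracted j mu p γ)
    (f : C →ₐ[R] C') : mor j (polEval f 1) ≫ γ = mor j f ≫ p := by
  have := h.eval_unit f 1
  rwa [unitChar_one, conjT_one, Units.val_one] at this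

theorem Attracted.map {p : Sp j C ⟶ G} {γ : Sp j (Polynomial C) ⟶ G} (h : Attracted j mu p γ) (f : C →ₐ[R] C') :
    Attracted j mu (mor j f ≫ p) (mor j (polEval ((polC (C := C')).comp f) X) ≫ γ) := by
  let u : (LaurentPolynomial C')ˣ := (LaurentPolynomial.isUnit_T (R := C') 1).unit
  have hu : ((u : (LaurentPolynomial C')ˣ) : LaurentPolynomial C') = T 1 := rfl
  have hχ : unitChar mu u = chiLam C' mu := by
    refine MonoidHom.ext fun m => ?_
    have hT : ∀ n : ℕ, (T 1 : LaurentPolynomial C') ^ n = T (n : ℤ) := fun n => by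
      rw [LaurentPolynomial.T_pow, _root_.mul_one]
    show ((u ^ mu m.toAdd : _) : LaurentPolynomial C') = T (mu m.toAdd)
    obtain ⟨n, hn | hn⟩ := Int.eq_nat_or_neg (mu m.toAdd)
    · rw [hn, zpow_natCast, Units.val_pow_eq_pow_val, hu, hT]
    · rw [hn, zpow_neg, zpow_natCast, ← _root_.mul_one ((↑((u ^ n)⁻¹)) : LaurentPolynomial C'),
        ← LaurentPolynomial.T_zero, ← add_neg_cancel (n : ℤ), LaurentPolynomial.T_add, ← hT, ← hu,
        ← Units.val_pow_eq_pow_val, ← _root_.mul_assoc, Units.inv_mul, _root_.one_mul]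
  have he : (toLau (R := R) (C := C')).comp (polEval ((polC (C := C')).comp f) X) =
      polEval ((lauC (R := R) (C := C')).comp f) (u : LaurentPolynomial C') := by
    refine AlgHom.coe_ringHom_injective (Polynomial.ringHom_ext (fun r => ?_) ?_)
    · show toLaurent (Polynomial.eval₂ ((polC.comp f : C →ₐ[R] Polynomial C') : C →+* Polynomial C') X (Polynomial.C r)) =
        Polynomial.eval₂ ((lauC.comp f : C →ₐ[R] LaurentPolynomial C') : C →+* LaurentPolynomial C') _ (Polynomial.C r)
      rw [Polynomial.eval₂_C, Polynomial.eval₂_C]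
      exact Polynomial.toLaurent_C _
    · show toLaurent (Polynomial.eval₂ _ X X) = Polynomial.eval₂ _ _ X
      rw [Polynomial.eval₂_X, Polynomial.eval₂_X, Polynomial.toLaurent_X, hu]
  rw [Attracted, ← Category.assoc, ← mor_comp, he, h.eval_unit, hχ, ← Category.assoc, ← mor_comp]

variable [IsOpenImmersion j]

theorem Attracted.zero_fixed {p : Sp j C ⟶ G} {γ : Sp j (Polynomial C) ⟶ G} (h : Attracted j mu p γ)
    (f : C →ₐ[R] C') (u : C'ˣ) : conjT D j (unitChar mu u) (mor j (polEval f 0) ≫ γ) = mor j (polEval f 0) ≫ γ := by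
  haveI := reductive_affine D
  let γ' : Sp j (Polynomial C') ⟶ G := mor j (polEval ((polC (C := C')).comp f) X) ≫ γ
  have h' : Attracted j mu (mor j f ≫ p) γ' := h.map f
  let a : C'ˣ →* (Polynomial C')ˣ := Units.map (Polynomial.C : C' →+* Polynomial C')
  let σ : Polynomial C' →ₐ[R] Polynomial C' := polEval polC ((a u : Polynomial C') * X)
  let T1 : (LaurentPolynomial C')ˣ := (LaurentPolynomial.isUnit_T (R := C') 1).unit
  let w : (LaurentPolynomial C')ˣ := Units.map (algebraMap C' (LaurentPolynomial C') : C' →* LaurentPolynomial C') u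
  have hT1 : polEval (lauC (R := R) (C := C')) (T1 : LaurentPolynomial C') = toLau := by
    refine AlgHom.coe_ringHom_injective (Polynomial.ringHom_ext (fun r => ?_) ?_)
    · show Polynomial.eval₂ _ _ (Polynomial.C r) = toLaurent (Polynomial.C r)
      rw [Polynomial.eval₂_C, Polynomial.toLaurent_C]
      rfl
    · show Polynomial.eval₂ _ _ X = toLaurent (X : Polynomial C')
      rw [Polynomial.eval₂_X, Polynomial.toLaurent_X]
      rfl
  have hσ : (toLau (R := R) (C := C')).comp σ = polEval lauC ((w * T1 : (LaurentPolynomial C')ˣ) : LaurentPolynomial C') := by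
    refine AlgHom.coe_ringHom_injective (Polynomial.ringHom_ext (fun r => ?_) ?_)
    · show toLaurent (Polynomial.eval₂ _ _ (Polynomial.C r)) = Polynomial.eval₂ _ _ (Polynomial.C r)
      rw [Polynomial.eval₂_C, Polynomial.eval₂_C]
      exact Polynomial.toLaurent_C _
    · show toLaurent (Polynomial.eval₂ _ _ X) = Polynomial.eval₂ _ _ X
      rw [Polynomial.eval₂_X, Polynomial.eval₂_X, map_mul, Polynomial.toLaurent_X, Units.val_mul]
      exact congrArg (· * T 1) (Polynomial.toLaurent_C _)
  have hw : ∀ x : (LaurentPolynomial C')ˣ, unitChar mu (w * x) = unitChar mu w * unitChar mu x := fun x =>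
    MonoidHom.ext fun m => by
      show (((w * x) ^ mu m.toAdd : _) : LaurentPolynomial C') = _
      rw [mul_zpow, Units.val_mul]
      rfl
  have hwc : ((toLau (R := R) (C := C')).comp polC : C' →* LaurentPolynomial C').comp (unitChar mu u) = unitChar mu w := by
    refine MonoidHom.ext fun m => ?_
    show toLaurent (Polynomial.C ((u ^ mu m.toAdd : C'ˣ) : C')) = ((w ^ mu m.toAdd : _) : LaurentPolynomial C')
    rw [Polynomial.toLaurent_C, show w ^ mu m.toAdd =
      Units.map (algebraMap C' (LaurentPolynomial C') : C' →* LaurentPolynomial C') (u ^ mu m.toAdd) from (map_zpow _ _ _).symm]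
    rfl
  have key : mor j σ ≫ γ' = conjT D j ((polC : C' →ₐ[R] Polynomial C').toMonoidHom.comp (unitChar mu u)) γ' := by
    refine pt_eq_of_injective _ (toLau_injective (R := R)) ?_
    rw [mor_conjT, ← Category.assoc, ← mor_comp, hσ, h'.eval_unit, hw, conjT_mul, ← h'.eval_unit, hT1]
    exact congrArg (fun χ => conjT D j χ _) hwc.symm
  have h0 := congrArg (fun s => mor j (polEval (AlgHom.id R C') 0) ≫ s) key
  have e1 : (polEval (AlgHom.id R C') 0).comp σ = polEval (AlgHom.id R C') 0 := by
    refine AlgHom.coe_ringHom_injective (Polynomial.ringHom_ext (fun r => ?_) ?_) <;>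
      simp [σ, polEval, a, polC]
  have e2 : (polEval (AlgHom.id R C') 0).comp (polEval ((polC (C := C')).comp f) X) = polEval f 0 := by
    refine AlgHom.coe_ringHom_injective (Polynomial.ringHom_ext (fun r => ?_) ?_) <;>
      simp [polEval, polC]
  simp only [mor_conjT, γ', ← Category.assoc, ← mor_comp, e2] at h0
  rw [← AlgHom.comp_assoc, e1, e2] at h0
  refine Eq.trans ?_ h0.symm
  refine congrArg (fun χ => conjT D j χ _) (MonoidHom.ext fun m => ?_)
  simp [polEval, polC]

end Groth.L14.Chev.Cell
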