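import Groth.Agent.L14.Chev.Cell.BorelGroup
import Groth.Agent.L14.Chev.Cell.Reduced
import Groth.Agent.L14.Chev.Cell.Scale

/-!
A subgroup of points normalised by the torus which meets a unipotent group contains a root group.
-/

set_option autoImplicit false
universe u

open CategoryTheory CategoryTheory.Limits AlgebraicGeometry MonoidalCategory CartesianMonoidalCategory MonObj
open Groth.L14.RankOne Groth.L25 Groth.L14.Chart

set_option backward.isDefEq.respectTransparency.types false
set_option linter.style.haveILetI false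
set_option linter.unusedSectionVars false
set_option maxHeartbeats 1000000

noncomputable section

namespace Groth.L14.Chev.Cell

section Functional

variable {M : Type} [AddCommGroup M] [Module.Finite ℤ M] [Module.Free ℤ M]

theorem exists_dual_ne {x : M} (hx : x ≠ 0) : ∃ g : Module.Dual ℤ M, g x ≠ 0 := by
  by_contra! h
  exact hx ((Module.forall_dual_apply_eq_zero_iff ℤ x).1 h)

/-- Linearly independent vectors are separated by functionals. -/
theorem exists_functional_sep {c d : M} (h : ∀ p q : ℤ, p ≠ 0 → p • d ≠ q • c) :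
    ∃ f : M →+ ℤ, f c = 0 ∧ f d ≠ 0 := by
  by_cases hc : c = 0
  · obtain ⟨g, hg⟩ := exists_dual_ne (x := d) fun hd => h 1 0 one_ne_zero (by simp [hd])
    exact ⟨g.toAddMonoidHom, by simp [hc], hg⟩
  obtain ⟨g1, hg1⟩ := exists_dual_ne hc
  by_contra! hno
  refine h (g1 c) (g1 d) hg1 (sub_eq_zero.1 ((Module.forall_dual_apply_eq_zero_iff ℤ _).1 fun g2 => ?_))
  have h2 := hno (g1 c • g2.toAddMonoidHom - g2 c • g1.toAddMonoidHom) (by simp [mul_comm])
  simp only [AddMonoidHom.sub_apply, AddMonoidHom.smul_apply, LinearMap.toAddMonoidHom_coe, smul_eq_mul] at h2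
  simp only [map_sub, map_smul, smul_eq_mul]
  linarith

end Functional

theorem exists_unit_zpow_ne_one {K : Type u} [Field K] [Infinite K] {k : ℤ} (hk : k ≠ 0) :
    ∃ u : Kˣ, ((u ^ k : Kˣ) : K) ≠ 1 := by
  have hp : Polynomial.X * (Polynomial.X ^ k.natAbs - 1 : Polynomial K) ≠ 0 :=
    mul_ne_zero Polynomial.X_ne_zero
      (by simpa using Polynomial.X_pow_sub_C_ne_zero (Int.natAbs_pos.2 hk) (1 : K))
  obtain ⟨x, hx⟩ := (Set.Finite.infinite_compl (Polynomial.finite_setOfPred_isRoot hp)).nonempty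
  simp only [Set.mem_compl_iff, Set.mem_ofPred_eq, Polynomial.IsRoot, Polynomial.eval_mul, Polynomial.eval_X,
    Polynomial.eval_sub, Polynomial.eval_pow, Polynomial.eval_one, mul_eq_zero, not_or, sub_eq_zero] at hx
  refine ⟨Units.mk0 x hx.1, fun h => hx.2 ?_⟩
  have h1 := congrArg Units.val (pow_natAbs_eq_one.2 (Units.ext h))
  rwa [Units.val_pow_eq_pow_val] at h1

variable {S : Scheme.{u}} {G : Over S} [GrpObj G] {D : Red.SplitRed G} {R : Type u} [CommRing R]
  {j : Spec (CommRingCat.of R) ⟶ S} [IsOpenImmersion j]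
  {K : Type u} [Field K] [IsAlgClosed K] [Algebra R K]

/-- A torus point killing one root but not an independent one. -/
theorem exists_char_sep (b : D.P.Base) {c d : D.idx} (hne : d ≠ c) (hop : D.P.root d ≠ -D.P.root c) :
    ∃ χ : Multiplicative D.M →* K, χ (Multiplicative.ofAdd (D.P.root c)) = 1 ∧
      χ (Multiplicative.ofAdd (D.P.root d)) ≠ 1 := by
  haveI : Finite D.idx := Finite.of_fintype _
  obtain ⟨f, hfc, hfd⟩ := exists_functional_sep (c := D.P.root c) (d := D.P.root d) fun p q hp e =>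
    (eq_or_neg_of_dep D.P b hp e).elim hne hop
  obtain ⟨u, hu⟩ := exists_unit_zpow_ne_one (K := K) hfd
  exact ⟨unitChar f u, by simp [unitChar, hfc], hu⟩

/-- The characters of a root take every non-zero value. -/
theorem exists_char_eq (c : D.idx) {w : K} (hw : w ≠ 0) :
    ∃ χ : Multiplicative D.M →* K, χ (Multiplicative.ofAdd (D.P.root c)) = w := by
  obtain ⟨g, hg⟩ := exists_dual_ne (D.P.ne_zero c)
  obtain ⟨z, hz⟩ := IsAlgClosed.exists_pow_nat_eq w (Int.natAbs_pos.2 hg)
  have hz0 : z ≠ 0 := fun h => hw (by rw [← hz, h, zero_pow (Int.natAbs_pos.2 hg).ne'])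
  rcases Int.natAbs_eq (g (D.P.root c)) with e | e
  · refine ⟨unitChar g.toAddMonoidHom (Units.mk0 z hz0), ?_⟩
    show ((Units.mk0 z hz0 ^ g (D.P.root c) : Kˣ) : K) = w
    rw [e, zpow_natCast, Units.val_pow_eq_pow_val]
    exact hz
  · refine ⟨unitChar g.toAddMonoidHom (Units.mk0 z hz0)⁻¹, ?_⟩
    show ((((Units.mk0 z hz0)⁻¹) ^ g (D.P.root c) : Kˣ) : K) = w
    rw [e, inv_zpow', neg_neg, zpow_natCast, Units.val_pow_eq_pow_val]
    exact hz

/-- A subgroup containing the torus and one non-trivial point of a root group contains the root group. -/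
theorem root_mem_of_single {H : Subgroup (Sp j K ⟶ G)}
    (hT : ∀ χ : Multiplicative D.M →* K, tpt D j χ ≫ D.i ∈ H) {c : D.idx} {x : K} (hx : x ≠ 0)
    (h : gp j x ≫ D.u c ∈ H) (y : K) : gp j y ≫ D.u c ∈ H := by
  haveI : ∀ c, IsMonHom (D.u c) := fun c => (D.rootHom c).1
  by_cases hy : y = 0
  · rw [hy, gp_zero, MonObj.one_comp]
    exact one_mem H
  obtain ⟨χ, hχ⟩ := exists_char_eq (D := D) c (div_ne_zero hy hx)
  have := mul_mem (mul_mem (hT χ) h) (inv_mem (hT χ))
  rw [conj_root j D.rootHom, hχ, div_mul_cancel₀ _ hx] at this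
  exact this

variable {Ψ : Set D.idx} {lv : D.idx → ℕ}

/-- A subgroup containing the torus and a non-trivial point of a unipotent group contains a root group. -/
theorem exists_root_mem (b : D.P.Base) (hF : Filt D Ψ lv) {l : List D.idx} (hnd : l.Nodup)
    (hl : ∀ c, c ∈ l ↔ c ∈ Ψ) {H : Subgroup (Sp j K ⟶ G)}
    (hT : ∀ χ : Multiplicative D.M →* K, tpt D j χ ≫ D.i ∈ H) {g : Sp j K ⟶ G} (hgH : g ∈ H)
    {mu : D.M →+ ℤ} (hmu : ∀ c ∈ Ψ, 0 < mu (D.P.root c))
    (hg : g ∈ gen j K D.u Ψ lv 0) (hg1 : g ≠ 1) : ∃ c ∈ Ψ, ∀ y : K, gp j y ≫ D.u c ∈ H := by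
  classical
  haveI : ∀ c, IsMonHom (D.u c) := fun c => (D.rootHom c).1
  have hop : ∀ c ∈ Ψ, ∀ d ∈ Ψ, D.P.root d ≠ -D.P.root c := fun c hc d hd e =>
    hF.ne c hc d hd 1 1 le_rfl le_rfl (by rw [one_nsmul, one_nsmul, e, add_neg_cancel])
  have hmu' : ∀ c ∈ l, 0 < mu (D.P.root c) := fun c hc => hmu c ((hl c).1 hc)
  let N := Finset.univ.sup lv + 1
  suffices main : ∀ e k, N ≤ k + e → ∀ g ∈ H, g ∈ gen j K D.u Ψ lv k → g ≠ 1 → ∃ c ∈ Ψ, ∀ y : K, gp j y ≫ D.u c ∈ H from
    main N 0 (by omega) g hgH hg hg1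
  intro e
  induction e with
  | zero =>
    intro k hk g _ hg hg1
    rw [gen_eq_bot (n := k) fun c => lt_of_lt_of_le (Nat.lt_succ_of_le (Finset.le_sup (Finset.mem_univ c))) hk,
      Subgroup.mem_bot] at hg
    exact absurd hg hg1
  | succ e ih =>
    intro k hk
    have IH := ih (k + 1) (by omega)
    suffices inner : ∀ s : ℕ, ∀ g ∈ H, ∀ x : D.idx → K, (∀ c, x c ≠ 0 → k ≤ lv c) →
        ∀ r ∈ gen j K D.u Ψ lv (k + 1), g = rootProd j D.u l x * r → g ≠ 1 →
          (l.toFinset.filter fun c => x c ≠ 0 ∧ lv c = k).card ≤ s → ∃ c ∈ Ψ, ∀ y : K, gp j y ≫ D.u c ∈ H by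
      intro g hgH hg hg1
      obtain ⟨x, hx, r, hr, e⟩ := exists_rootProd_succ D.rootHom hF hnd hl hg
      exact inner _ g hgH x hx r hr e hg1 le_rfl
    intro s
    induction s with
    | zero =>
      intro g hgH x hx r hr e hg1 hs
      refine IH g hgH ?_ hg1
      rw [e]
      refine mul_mem (rootProd_mem_gen D.rootHom fun c hc hxc => ⟨(hl c).1 hc, ?_⟩) hr
      have h0 := Finset.eq_empty_iff_forall_notMem.1 (Finset.card_eq_zero.1 (Nat.le_zero.1 hs)) c
      simp only [Finset.mem_filter, List.mem_toFinset, hc, true_and, hxc, ne_eq, not_false_iff] at h0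
      exact Nat.lt_of_le_of_ne (hx c hxc) (Ne.symm h0)
    | succ s ihs =>
      intro g hgH x hx r hr e hg1 hs
      by_cases hs' : (l.toFinset.filter fun c => x c ≠ 0 ∧ lv c = k).card ≤ s
      · exact ihs g hgH x hx r hr e hg1 hs'
      obtain ⟨c, hc⟩ := Finset.card_pos.1 (Nat.pos_of_ne_zero fun h => hs' (h ▸ Nat.zero_le s))
      obtain ⟨hcl, hxc, hck⟩ : c ∈ l ∧ x c ≠ 0 ∧ lv c = k := by simpa using hc
      have hcΨ := (hl c).1 hcl
      -- conjugates of the element by torus points
      have hconj : ∀ χ : Multiplicative D.M →* K, conjT D j χ g * g⁻¹ ∈ H := fun χ =>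
        mul_mem (mul_mem (mul_mem (hT χ) hgH) (inv_mem (hT χ))) (inv_mem hgH)
      let G0 := gen j K D.u Ψ lv 0
      have hnorm : ∀ {z : Sp j K ⟶ G}, z ∈ G0 → ∀ {n : ℕ}, ∀ h ∈ gen j K D.u Ψ lv n,
          z * h * z⁻¹ ∈ gen j K D.u Ψ lv n := fun hz _ h hh => (conj_mem_gen D.rootHom hF hz h hh).1
      have hP : ∀ z : D.idx → K, rootProd j D.u l z ∈ G0 := fun z =>
        rootProd_mem_gen D.rootHom fun d hd _ => ⟨(hl d).1 hd, Nat.zero_le _⟩
      by_cases htwo : ∃ d ∈ l.toFinset.filter (fun c => x c ≠ 0 ∧ lv c = k), d ≠ c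
      · obtain ⟨d, hd, hdc⟩ := htwo
        obtain ⟨hdl, hxd, hdk⟩ : d ∈ l ∧ x d ≠ 0 ∧ lv d = k := by simpa using hd
        obtain ⟨χ, hχc, hχd⟩ := exists_char_sep (K := K) b hdc (hop c hcΨ d ((hl d).1 hdl))
        let z : D.idx → K := fun a => (χ (Multiplicative.ofAdd (D.P.root a)) - 1) * x a
        obtain ⟨k₂, hk₂, e₂⟩ := rootProd_add (j := j) D.rootHom hF (n := k) (fun a ha => (hl a).1 ha) z x
          fun a _ => hx a
        have hsum : z + x = fun a => χ (Multiplicative.ofAdd (D.P.root a)) * x a := funext fun a => by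
          simp only [z, Pi.add_apply]; ring
        rw [hsum] at e₂
        let r' := rootProd j D.u l x * k₂ * (conjT D j χ r * r⁻¹) * (rootProd j D.u l x)⁻¹
        have e' : conjT D j χ g * g⁻¹ = rootProd j D.u l z * r' := by
          have : conjT D j χ g = rootProd j D.u l (fun a => χ (Multiplicative.ofAdd (D.P.root a)) * x a) * conjT D j χ r := by
            rw [e, ← conj_rootProd j D.rootHom]
            simp only [conjT]
            group
          rw [this, e₂, e]
          simp only [r']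
          group
        refine ihs _ (hconj χ) z (fun a ha => hx a (right_ne_zero_of_mul ha)) r' ?_ e' ?_ ?_
        · exact hnorm (hP x) _ (mul_mem hk₂ (mul_mem (conjT_mem_gen χ hr) (inv_mem hr))) |> fun h => by
            simpa only [r', _root_.mul_assoc] using h
        · intro h1
          have hzg : rootProd j D.u l z ∈ gen j K D.u Ψ lv (k + 1) := by
            rw [h1, eq_comm, mul_eq_one_iff_eq_inv] at e'
            rw [e']
            refine inv_mem ?_
            exact hnorm (hP x) _ (mul_mem hk₂ (mul_mem (conjT_mem_gen χ hr) (inv_mem hr))) |> fun h => by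
              simpa only [r', _root_.mul_assoc] using h
          obtain ⟨w, hw, ew⟩ := exists_rootProd D.rootHom hF hnd hl hzg
          have hwz : w d = z d := by
            exact rootProd_injective_of_pos D.rootHom hnd hmu' ew d hdl
          have hzd : z d ≠ 0 := mul_ne_zero (sub_ne_zero.2 hχd) hxd
          have := hw d (hwz ▸ hzd)
          omega
        · refine Nat.le_of_lt_succ (lt_of_lt_of_le (Finset.card_lt_card ((Finset.ssubset_iff_of_subset fun a ha => ?_).2
            ⟨c, hc, fun h => ?_⟩)) hs)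
          · simp only [Finset.mem_filter] at ha ⊢
            exact ⟨ha.1, right_ne_zero_of_mul ha.2.1, ha.2.2⟩
          · simp only [Finset.mem_filter, z, hχc, sub_self, zero_mul, ne_eq, not_true, false_and, and_false] at h
      · push Not at htwo
        -- the part of level `k` is a single root point
        obtain ⟨r₁, hr₁, e₁⟩ : ∃ r₁ ∈ gen j K D.u Ψ lv (k + 1), g = (gp j (x c) ≫ D.u c) * r₁ := by
          obtain ⟨k₂, hk₂, e₂⟩ := rootProd_add (j := j) D.rootHom hF (n := k) (fun a ha => (hl a).1 ha)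
            (Pi.single c (x c)) (x - Pi.single c (x c)) fun a _ ha => hx a fun h => by
              by_cases hac : a = c
              · subst hac; simp at ha
              · simp [h, hac] at ha
          rw [add_sub_cancel, rootProd_single j (x := Pi.single c (x c)) hnd hcl fun d hd => Pi.single_eq_of_ne hd _,
            Pi.single_eq_same] at e₂
          refine ⟨rootProd j D.u l (x - Pi.single c (x c)) * k₂ * r,
            mul_mem (mul_mem (rootProd_mem_gen D.rootHom fun a ha ha' => ⟨(hl a).1 ha, ?_⟩) hk₂) hr,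
            by rw [e, e₂]; group⟩
          by_cases hac : a = c
          · subst hac; simp at ha'
          · have hxa : x a ≠ 0 := by simpa [hac] using ha'
            exact Nat.lt_of_le_of_ne (hx a hxa) fun hk' => hac (htwo a (by simp [ha, hxa, ← hk']))
        by_cases hfix : ∀ χ : Multiplicative D.M →* K, χ (Multiplicative.ofAdd (D.P.root c)) = 1 → conjT D j χ r₁ = r₁
        · have hr1 : r₁ = 1 := by
            obtain ⟨w, hw, ew⟩ := exists_rootProd D.rootHom hF hnd hl hr₁
            rw [← ew]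
            refine rootProd_eq_one j fun d hd => ?_
            by_contra hwd
            have hdc : d ≠ c := fun h => by
              have := hw d hwd
              subst h; omega
            obtain ⟨χ, hχc, hχd⟩ := exists_char_sep (K := K) b hdc (hop c hcΨ d ((hl d).1 hd))
            have h2 := hfix χ hχc
            rw [← ew, conjT, conj_rootProd j D.rootHom] at h2
            exact hχd (mul_right_cancel₀ hwd ((rootProd_injective_of_pos D.rootHom hnd hmu' h2 d hd).trans (_root_.one_mul _).symm))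
          refine ⟨c, hcΨ, root_mem_of_single hT hxc ?_⟩
          rwa [e₁, hr1, _root_.mul_one] at hgH
        · push Not at hfix
          obtain ⟨χ, hχc, hχr⟩ := hfix
          have e' : conjT D j χ g * g⁻¹ = (gp j (x c) ≫ D.u c) * (conjT D j χ r₁ * r₁⁻¹) * (gp j (x c) ≫ D.u c)⁻¹ := by
            have hU : conjT D j χ (gp j (x c) ≫ D.u c) = gp j (x c) ≫ D.u c := by
              rw [conjT, conj_root j D.rootHom, hχc, _root_.one_mul]
            simp only [conjT] at hU ⊢
            rw [e₁]
            calc _ = ((tpt D j χ ≫ D.i) * (gp j (x c) ≫ D.u c) * (tpt D j χ ≫ D.i)⁻¹) *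
                  ((tpt D j χ ≫ D.i) * r₁ * (tpt D j χ ≫ D.i)⁻¹ * r₁⁻¹) * (gp j (x c) ≫ D.u c)⁻¹ := by group
              _ = _ := by rw [hU]
          refine IH _ (hconj χ) ?_ ?_
          · rw [e']
            exact hnorm (gp_mem_gen hcΨ (Nat.zero_le _) _) _ (mul_mem (conjT_mem_gen χ hr₁) (inv_mem hr₁))
          · rw [e', ne_eq, conj_eq_one_iff, mul_inv_eq_one]
            exact hχr

end Groth.L14.Chev.Cell
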