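import Groth.Agent.L14.Chev.Cell.BruhatCover
import Groth.Agent.L14.Chev.Cell.Isolate

/-!
Bruhat cells of different Weyl group elements are disjoint.
-/

set_option autoImplicit false
universe u

open CategoryTheory CategoryTheory.Limits AlgebraicGeometry MonoidalCategory CartesianMonoidalCategory MonObj
open Groth.L14.RankOne Groth.L25 Groth.L14.Chart
open Groth.L08.Borel (ptOf exists_pt_mem exists_pt_lift)

set_option backward.isDefEq.respectTransparency.types false
set_option linter.style.haveILetI false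
set_option linter.unusedSectionVars false
set_option maxHeartbeats 1000000

noncomputable section

namespace Groth.L14.Chev.Cell

variable {S : Scheme.{u}} {R : Type u} [CommRing R] {j : Spec (CommRingCat.of R) ⟶ S}
  {K : Type u} [Field K] [IsAlgClosed K] [Algebra R K]

/-- A point over an algebraically closed field in the image of a morphism lifts. -/
theorem exists_lift_of_mem_range {P X : Over S} [LocallyOfFiniteType P.hom] [LocallyOfFiniteType X.hom]
    (f : P ⟶ X) (g : Sp j K ⟶ X) (h : g.left (IsLocalRing.closedPoint K) ∈ Set.range f.left) :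
    ∃ t : Sp j K ⟶ P, t ≫ f = g := by
  let q := qK j K
  let fK := (Over.pullback q).map f
  haveI : LocallyOfFiniteType (Red.bc q P).hom := MorphismProperty.pullback_snd _ _ ‹LocallyOfFiniteType P.hom›
  haveI : LocallyOfFiniteType (Red.bc q X).hom := MorphismProperty.pullback_snd _ _ ‹LocallyOfFiniteType X.hom›
  obtain ⟨y, rfl⟩ : ∃ y, ptBC j K y = g := ⟨_, (ptBC j K).apply_symm_apply g⟩
  rw [ptBC_closedPoint] at h
  have hpb : IsPullback (pullback.fst P.hom q) fK.left f.left (pullback.fst X.hom q) := by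
    refine IsPullback.of_bot ?_ (by simp only [fK, Over.pullback_map_left, pullback.lift_fst]) (IsPullback.of_hasPullback X.hom q)
    have h2 : fK.left ≫ pullback.snd X.hom q = pullback.snd P.hom q := Over.w fK
    rw [h2, Over.w f]
    exact IsPullback.of_hasPullback P.hom q
  have hmem : ptOf y ∈ Set.range fK.left := by
    obtain ⟨p, hp⟩ := h
    obtain ⟨z, -, hz⟩ := Scheme.exists_preimage_of_isPullback hpb p (ptOf y) hp
    exact ⟨z, hz⟩
  obtain ⟨t, ht⟩ := exists_pt_lift fK y hmem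
  exact ⟨ptBC j K t, by rw [← ptBC_comp, ht]⟩

variable {G : Over S} [GrpObj G] {D : Red.SplitRed G}

omit [IsAlgClosed K] in
theorem wordChar_root {C : Type u} [CommRing C] (l : List D.idx) (ψ : Multiplicative D.M →* C) (c : D.idx) :
    wordChar l ψ (Multiplicative.ofAdd (D.P.root c)) =
      ψ (Multiplicative.ofAdd (D.P.root ((RedSub.wordPerm D.P l).symm c))) := by
  induction l generalizing c with
  | nil => rfl
  | cons a l ih =>
    show reflChar a (wordChar l ψ) _ = _
    rw [reflChar_root, ih]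
    refine congrArg (fun d => ψ (Multiplicative.ofAdd (D.P.root d))) ?_
    apply (RedSub.wordPerm D.P (a :: l)).injective
    rw [Equiv.apply_symm_apply, wordPerm_cons, Equiv.apply_symm_apply, D.P.reflectionPerm_self]

/-- Characters determine the roots. -/
theorem root_eq_of_chars (b : D.P.Base) {c d : D.idx}
    (h : ∀ χ : Multiplicative D.M →* K, χ (Multiplicative.ofAdd (D.P.root c)) = χ (Multiplicative.ofAdd (D.P.root d))) :
    c = d := by
  by_contra hne
  by_cases hop : D.P.root d = -D.P.root c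
  · obtain ⟨g, hg⟩ := exists_dual_ne (D.P.ne_zero c)
    obtain ⟨u, hu⟩ := exists_unit_zpow_ne_one (K := K) (k := g (D.P.root c) + g (D.P.root c)) (by omega)
    have h1 := h (unitChar g.toAddMonoidHom u)
    rw [hop] at h1
    apply hu
    have h1' : ((u ^ g (D.P.root c) : Kˣ) : K) = ((u ^ g (-D.P.root c) : Kˣ) : K) := h1
    rw [map_neg] at h1'
    rw [zpow_add, Units.val_mul]
    nth_rewrite 2 [h1']
    rw [← Units.val_mul, ← zpow_add, add_neg_cancel, zpow_zero, Units.val_one]
  · obtain ⟨χ, hc, hd⟩ := exists_char_sep (K := K) b (Ne.symm hne) hop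
    exact hd ((h χ).symm.trans hc)

variable [IsOpenImmersion j] {nr : D.idx → (𝟙_ (Over S) ⟶ G)} {b : D.P.Base} {lv : D.idx → ℕ}

theorem grp_aux {Γ : Type*} [Group Γ] {t p q U : Γ} (h : t * U * q = p * (t * U)) :
    t * q * (q⁻¹ * U * q) = p * t * U := by
  calc t * q * (q⁻¹ * U * q) = t * U * q := by group
    _ = _ := by rw [h, _root_.mul_assoc]

omit [IsAlgClosed K] in
/-- Commuting an element of the Borel group past a torus point does not change the torus point. -/
theorem char_eq_of_borel_comm (hF : Filt D (RedSub.posRoots D.P b) lv) {g : Sp j K ⟶ G}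
    (hg : g ∈ borelPts D b j K lv) {ψ ψ' : Multiplicative D.M →* K}
    (h : g * (tpt D j ψ ≫ D.i) = (tpt D j ψ' ≫ D.i) * g) : ψ = ψ' := by
  haveI := isMonHom_i (D := D)
  haveI : ∀ c, IsMonHom (D.u c) := fun c => (D.rootHom c).1
  obtain ⟨m₀, epos, hpos⟩ := exists_enum (D := D) (RedSub.posRoots D.P b)
  obtain ⟨lam, hl⟩ := hasLam b
  obtain ⟨τ, u, hu, rfl⟩ := hg
  obtain ⟨x, rfl⟩ := (mem_gen_iff D.rootHom hF (nodup_list hpos) (mem_list_iff hpos)).1 hu
  let ψi := ψ.comp invMonoidHom
  have e : rootProd j D.u (List.ofFn epos) (fun c => ψi (Multiplicative.ofAdd (D.P.root c)) * x c) =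
      (tpt D j ψ ≫ D.i)⁻¹ * rootProd j D.u (List.ofFn epos) x * (tpt D j ψ ≫ D.i) := by
    rw [← conj_rootProd j D.rootHom ψi, tpt_inv, _root_.inv_inv]
  have h' := grp_aux h
  rw [← e, ← MonObj.mul_comp, ← MonObj.mul_comp, ← tpt_mul, ← tpt_mul] at h'
  have h4 := (cell_injective D.rootHom (mu := lam) (lneg := []) List.nodup_nil (nodup_list hpos) (by simp)
    (fun e he => (hl e).1 ((mem_list_iff hpos e).1 he)) (y := (0 : D.idx → K)) (y' := (0 : D.idx → K))
    (congrArg (fun r => rootProd j D.u ([] : List D.idx) (0 : D.idx → K) * r) h')).1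
  refine MonoidHom.ext fun k => mul_right_cancel₀ (b := τ k) (IsUnit.ne_zero ((Group.isUnit k).map τ)) ?_
  rw [← show (ψ' * τ) k = ψ' k * τ k from rfl, ← h4]
  exact mul_comm _ _

omit [IsAlgClosed K] in
theorem tpt_injective (b : D.P.Base) {χ χ' : Multiplicative D.M →* K}
    (h : tpt D j χ ≫ D.i = tpt D j χ' ≫ D.i) : χ = χ' := by
  obtain ⟨lam, hl⟩ := hasLam b
  exact (cell_injective D.rootHom (mu := lam) (lneg := []) (lpos := []) List.nodup_nil List.nodup_nil (by simp)
    (by simp) (y := (0 : D.idx → K)) (y' := (0 : D.idx → K)) (x := (0 : D.idx → K)) (x' := (0 : D.idx → K))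
    (by rw [h])).1

/-- Words which differ by an element of the Borel group are equal. -/
theorem wordPerm_eq_of_borel (hF : Filt D (RedSub.posRoots D.P b) lv) (hn : ∀ a, ActsBy (nr a) a)
    (l l' : List D.idx) (hB : (wpt j K nr l')⁻¹ * wpt j K nr l ∈ borelPts D b j K lv) :
    RedSub.wordPerm D.P l = RedSub.wordPerm D.P l' := by
  apply Equiv.symm_bijective.injective
  refine Equiv.ext fun c => root_eq_of_chars (K := K) b fun ψ => ?_
  rw [← wordChar_root, ← wordChar_root]
  suffices h : wordChar l ψ = wordChar l' ψ by rw [h]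
  obtain ⟨ψ', hψ'⟩ := tpt_wpt (j := j) hn l' (wordChar l ψ)
  have h1 := wpt_tpt (j := j) hn l ψ
  have h2 : (wpt j K nr l')⁻¹ * wpt j K nr l * (tpt D j ψ ≫ D.i) =
      (tpt D j ψ' ≫ D.i) * ((wpt j K nr l')⁻¹ * wpt j K nr l) := by
    rw [_root_.mul_assoc, h1]
    calc _ = (wpt j K nr l')⁻¹ * ((tpt D j (wordChar l ψ) ≫ D.i) * wpt j K nr l') *
          ((wpt j K nr l')⁻¹ * wpt j K nr l) := by group
      _ = _ := by rw [hψ', inv_mul_cancel_left]
  have h5 := char_eq_of_borel_comm hF hB h2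
  subst h5
  have h6 := wpt_tpt (j := j) hn l' ψ
  rw [← hψ'] at h6
  exact tpt_injective b (mul_right_cancel h6)

/-- Two words whose cosets of the Borel group meet after translation by negative root points are equal. -/
theorem wordPerm_eq_of_mem (hF : Filt D (RedSub.posRoots D.P b) lv) (hn : ∀ a, ActsBy (nr a) a)
    (l l' : List D.idx) {v : Sp j K ⟶ G} {lvn : D.idx → ℕ} (hFn : Filt D (RedSub.negRoots D.P b) lvn)
    (hv : v ∈ gen j K D.u (RedSub.negRoots D.P b) lvn 0)
    (h : (wpt j K nr l')⁻¹ * v * wpt j K nr l ∈ borelPts D b j K lv) :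
    RedSub.wordPerm D.P l = RedSub.wordPerm D.P l' := by
  classical
  haveI := isMonHom_i (D := D)
  haveI : ∀ c, IsMonHom (D.u c) := fun c => (D.rootHom c).1
  haveI : Finite D.idx := Finite.of_fintype _
  haveI := reductive_affine D
  obtain ⟨n₀, eneg, hneg⟩ := exists_enum (D := D) (RedSub.negRoots D.P b)
  obtain ⟨m₀, epos, hpos⟩ := exists_enum (D := D) (RedSub.posRoots D.P b)
  obtain ⟨lam, hl⟩ := hasLam b
  obtain ⟨z, rfl⟩ := (mem_gen_iff D.rootHom hFn (nodup_list hneg) (mem_list_iff hneg)).1 hv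
  haveI := isClosedImmersion_borelMap hpos
  let N := wpt j K nr l
  let N' := wpt j K nr l'
  let z' : D.idx → Polynomial K := fun c => Polynomial.C (z c) * Polynomial.X ^ (-lam (D.P.root c)).toNat
  let M := wpt j (Polynomial K) nr l
  let M' := wpt j (Polynomial K) nr l'
  let γ : Sp j (Polynomial K) ⟶ G := M'⁻¹ * rootProd j D.u (List.ofFn eneg) z' * M
  have heval : ∀ a : K, mor j (polEval (AlgHom.id R K) a) ≫ γ = N'⁻¹ *
      rootProd j D.u (List.ofFn eneg) (fun c => a ^ (-lam (D.P.root c)).toNat * z c) * N := fun a => by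
    simp only [γ, M, M', N, N', MonObj.comp_mul, GrpObj.comp_inv, mor_rootProd, wpt, ← Category.assoc,
      toUnit_unique (mor j (polEval (AlgHom.id R K) a) ≫ toUnit _) (toUnit _)]
    congr 3
    funext c
    simp [z', polEval, mul_comm]
  let Z : Set (Spec (CommRingCat.of (Polynomial K))) := γ.left ⁻¹' Set.range (RedSub.borelMap D epos).left
  have hZ : IsClosed Z :=
    (RedSub.borelMap D epos).left.isClosedEmbedding.isClosed_range.preimage (Scheme.Hom.continuous _)
  let pt : K → PrimeSpectrum (Polynomial K) := fun a =>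
    Spec.map (CommRingCat.ofHom (polEval (AlgHom.id R K) a).toRingHom) (IsLocalRing.closedPoint K)
  have hpt : ∀ a (g : Polynomial K), g ∈ (pt a).asIdeal ↔ g.eval a = 0 := fun a g => by
    show Polynomial.eval₂ (RingHom.id K) a g ∈ IsLocalRing.maximalIdeal K ↔ _
    rw [IsLocalRing.maximalIdeal_eq_bot, Ideal.mem_bot]
    rfl
  have hin : ∀ a : K, a ≠ 0 → pt a ∈ Z := fun a ha => by
    let u : Kˣ := (Units.mk0 a ha)⁻¹
    let τ : Multiplicative D.M →* K := unitChar lam u
    obtain ⟨τ', hτ'⟩ := tpt_wpt (j := j) hn l' τ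
    obtain ⟨τ'', hτ''⟩ := tpt_wpt (j := j) hn l (τ.comp invMonoidHom)
    have h1 : N'⁻¹ * rootProd j D.u (List.ofFn eneg) (fun c => a ^ (-lam (D.P.root c)).toNat * z c) * N ∈
        borelPts D b j K lv := by
      have e : rootProd j D.u (List.ofFn eneg) (fun c => a ^ (-lam (D.P.root c)).toNat * z c) =
          (tpt D j τ ≫ D.i) * rootProd j D.u (List.ofFn eneg) z * (tpt D j τ ≫ D.i)⁻¹ := by
        rw [conj_rootProd j D.rootHom]
        refine rootProd_congr fun c hc => ?_
        congr 1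
        have h1 := (hl c).2 ((mem_list_iff hneg c).1 hc)
        show a ^ (-lam (D.P.root c)).toNat = (((Units.mk0 a ha)⁻¹ ^ lam (D.P.root c) : Kˣ) : K)
        rw [inv_zpow', Units.val_zpow_eq_zpow_val, Units.val_mk0, ← zpow_natCast, Int.toNat_of_nonneg (by omega)]
      rw [e, ← tpt_inv]
      refine Set.mem_of_eq_of_mem ?_ (borelPts_mul (borelPts_mul (tpt_mem_borelPts τ') h) (tpt_mem_borelPts τ''))
      calc N'⁻¹ * ((tpt D j τ ≫ D.i) * rootProd j D.u (List.ofFn eneg) z * (tpt D j (τ.comp invMonoidHom) ≫ D.i)) * N =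
            (N'⁻¹ * ((tpt D j τ ≫ D.i) * N')) * (N'⁻¹ * rootProd j D.u (List.ofFn eneg) z * N) *
              (N⁻¹ * ((tpt D j (τ.comp invMonoidHom) ≫ D.i) * N)) := by group
        _ = (tpt D j τ' ≫ D.i) * (N'⁻¹ * rootProd j D.u (List.ofFn eneg) z * N) * (tpt D j τ'' ≫ D.i) := by
          simp only [N, N'] at hτ' hτ'' ⊢
          rw [hτ', hτ'']; group
    obtain ⟨t, ht⟩ := (mem_borelPts_iff hpos hF).1 (heval a ▸ h1)
    have := congrArg (fun f : Sp j K ⟶ G => f.left (IsLocalRing.closedPoint K)) ht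
    simp only [Over.comp_left, Scheme.Hom.comp_apply] at this
    exact ⟨_, this⟩
  have h0 : pt 0 ∈ Z := by
    by_contra hne
    obtain ⟨_, ⟨g, rfl⟩, hg0, hgV⟩ :=
      PrimeSpectrum.isTopologicalBasis_basic_opens.exists_subset_of_mem_open hne hZ.isOpen_compl
    have hg : g ≠ 0 := fun e => hg0 (e ▸ Ideal.zero_mem _)
    obtain ⟨a, ha, hga⟩ := exists_root_avoiding hg
    exact hgV (fun e => hga ((hpt a g).1 e)) (hin a ha)
  haveI := (affSmooth_borel D m₀).2
  haveI := reductive_smooth D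
  obtain ⟨t, ht⟩ := exists_lift_of_mem_range (RedSub.borelMap D epos) (mor j (polEval (AlgHom.id R K) 0) ≫ γ) (by
    rw [Over.comp_left, Scheme.Hom.comp_apply]; exact h0)
  have hB : N'⁻¹ * N ∈ borelPts D b j K lv := by
    have h2 := (mem_borelPts_iff hpos hF).2 ⟨t, ht⟩
    rwa [heval, rootProd_eq_one j fun c hc => ?_, _root_.mul_one] at h2
    rw [zero_pow, zero_mul]
    have := (hl c).2 ((mem_list_iff hneg c).1 hc)
    omega
  -- the element of the Borel group acts trivially on the torus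
  refine wordPerm_eq_of_borel (j := j) (K := K) hF hn l l' ?_
  exact hB

variable {m k k' : ℕ} {epos : Fin m → D.idx} {e : Fin k → D.idx} {e' : Fin k' → D.idx}

omit [IsOpenImmersion j] in
/-- Points of a Bruhat cell. -/
theorem exists_bruhat_coords (l : List D.idx) (he : ∀ i, e i ∈ RedSub.negRoots D.P b)
    (hp : ∀ i, epos i ∈ RedSub.posRoots D.P b) {lv' : D.idx → ℕ} (t : Sp j K ⟶ RedSub.pow (Red.Ga S) k ⊗ (D.T ⊗ RedSub.pow (Red.Ga S) m)) :
    ∃ y ∈ gen j K D.u (RedSub.negRoots D.P b) lv' 0, ∃ q ∈ borelPts D b j K lv,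
      t ≫ RedSub.bruhatMap D nr l e epos = y * (wpt j K nr l * q) := by
  obtain ⟨χ, hχ⟩ := exists_tpt (D := D) j (t ≫ snd _ _ ≫ fst _ _)
  refine ⟨(t ≫ fst _ _) ≫ RedSub.prodMap (Red.Ga S) k (fun i => D.u (e i)), ?_, (tpt D j χ ≫ D.i) *
    ((t ≫ snd _ _ ≫ snd _ _) ≫ RedSub.prodMap (Red.Ga S) m (fun i => D.u (epos i))), ⟨χ, _, ?_, rfl⟩, ?_⟩
  · rw [comp_prodMap]
    refine list_prod_mem fun g hg => ?_
    obtain ⟨i, rfl⟩ := List.mem_ofFn.1 hg
    rw [← gp_gv ((t ≫ fst _ _) ≫ proj _ k i)]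
    exact gp_mem_gen (he i) (Nat.zero_le _) _
  · rw [comp_prodMap]
    refine list_prod_mem fun g hg => ?_
    obtain ⟨i, rfl⟩ := List.mem_ofFn.1 hg
    rw [← gp_gv ((t ≫ snd _ _ ≫ snd _ _) ≫ proj _ m i)]
    exact gp_mem_gen (hp i) (Nat.zero_le _) _
  · simp only [RedSub.bruhatMap, MonObj.comp_mul, hχ, Category.assoc, wpt]
    rw [← Category.assoc t (toUnit _), toUnit_unique (t ≫ toUnit _) (toUnit _)]

/-- Bruhat cells which meet have the same Weyl group element. -/
theorem wordPerm_eq_of_inter (hpos : RedSub.Enumerates (RedSub.posRoots D.P b) epos)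
    (hnr : RedSub.RealisesReflections D nr) {l l' : List D.idx} {x : G.left}
    (he : RedSub.Enumerates (RedSub.negMeetNeg D.P b (RedSub.wordPerm D.P l)) e)
    (he' : RedSub.Enumerates (RedSub.negMeetNeg D.P b (RedSub.wordPerm D.P l')) e')
    (h : x ∈ Set.range (RedSub.bruhatMap D nr l e epos).left.base)
    (h' : x ∈ Set.range (RedSub.bruhatMap D nr l' e' epos).left.base) :
    RedSub.wordPerm D.P l = RedSub.wordPerm D.P l' := by
  haveI := reductive_smooth D
  haveI := (affSmooth_cell D k' m).2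
  haveI : ∀ c, IsMonHom (D.u c) := fun c => (D.rootHom c).1
  obtain ⟨x₁, rfl⟩ := h
  obtain ⟨R, _, j, _, K, _, _, _, t, p, rfl⟩ := exists_geom_chart_through x₁
  obtain ⟨t', ht'⟩ := exists_lift_of_mem_range (RedSub.bruhatMap D nr l' e' epos)
    (t ≫ RedSub.bruhatMap D nr l e epos) (by
      rw [Over.comp_left, Scheme.Hom.comp_apply,
        show (IsLocalRing.closedPoint K : (Sp j K).left) = p from Subsingleton.elim (α := PrimeSpectrum K) _ _]
      exact h')
  obtain ⟨lv, hF⟩ := exists_filt_pos (D := D) b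
  obtain ⟨lvn, hFn⟩ := exists_filt_neg (D := D) b
  have hp : ∀ i, epos i ∈ RedSub.posRoots D.P b := fun i => hpos.2 ▸ Set.mem_range_self i
  obtain ⟨y, hy, q, hq, e1⟩ := exists_bruhat_coords (nr := nr) (lv := lv) (lv' := lvn) l
    (fun i => (he.2.subset (Set.mem_range_self i)).1) hp t
  obtain ⟨y', hy', q', hq', e2⟩ := exists_bruhat_coords (nr := nr) (lv := lv) (lv' := lvn) l'
    (fun i => (he'.2.subset (Set.mem_range_self i)).1) hp t'
  rw [ht', e1] at e2
  refine wordPerm_eq_of_mem hF (exists_nr_actsBy hnr) l l' hFn (mul_mem (inv_mem hy') hy) ?_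
  have e3 : (wpt j K nr l')⁻¹ * (y'⁻¹ * y) * wpt j K nr l = q' * q⁻¹ := by
    calc _ = (wpt j K nr l')⁻¹ * y'⁻¹ * (y * (wpt j K nr l * q)) * q⁻¹ := by group
      _ = _ := by rw [e2]; group
  rw [e3]
  exact borelPts_mul hq' (borelPts_inv hq)

end Groth.L14.Chev.Cell
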