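import Groth.Agent.L14.Chev.Cell.Generated
import Groth.Agent.L14.Chev.Cell.BruhatDisj
import Groth.Agent.L25.RootWord

/-!
Inner automorphisms respecting a pinning are trivial.
-/

set_option autoImplicit false
universe u

open CategoryTheory CategoryTheory.Limits AlgebraicGeometry MonoidalCategory CartesianMonoidalCategory MonObj
open Groth.L14.RankOne Groth.L25 Groth.L14.Chart
open Groth.L24.RootD (wd IsSimple)

set_option backward.isDefEq.respectTransparency.types false
set_option linter.style.haveILetI false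
set_option linter.unusedSectionVars false
set_option maxHeartbeats 1000000

noncomputable section

namespace Groth.L14.Chev.Cell

variable {S : Scheme.{u}} {G : Over S} [GrpObj G] {D : Red.SplitRed G}

theorem wordChar_eq_self (b : D.P.Base) {C : Type u} [CommRing C] (l : List D.idx)
    (h : ∀ a ∈ b.support, RedSub.wordPerm D.P l a = a) (ψ : Multiplicative D.M →* C) : wordChar l ψ = ψ := by
  classical
  haveI : Finite D.idx := Finite.of_fintype _
  haveI := Chart.RootCombo.isCrystallographic D.P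
  haveI := isReduced D.P b
  have hact : ∀ (l : List D.idx) (m : D.M),
      wordChar l ψ (Multiplicative.ofAdd m) = ψ (Multiplicative.ofAdd ((wd D.P l)⁻¹ • m)) := by
    intro l
    induction l with
    | nil =>
      intro m
      rw [Groth.L24.RootD.wd_nil, inv_one, one_smul]
      rfl
    | cons a l ih =>
      intro m
      show wordChar l ψ (Multiplicative.ofAdd (D.P.reflection a m)) = _
      rw [ih, Groth.L24.RootD.wd_cons, mul_inv_rev, mul_smul, RootPairing.Equiv.reflection_inv]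
      rfl
  have h1 : wd D.P l = 1 := by
    refine (IsSimple.of_base b).eq_one_of_image_eq ?_ ?_
    · exact list_prod_mem fun x hx => by
        obtain ⟨a, -, rfl⟩ := List.mem_map.1 hx
        exact D.P.reflection_mem_weylGroup a
    · have e : ∀ i ∈ (b.support : Set D.idx), wd D.P l • i = i := fun i hi => by
        rw [← Groth.L25.RootWord.wordPerm_apply]
        exact h i hi
      rw [Set.image_congr e, Set.image_id']
  refine MonoidHom.ext fun m => ?_
  obtain ⟨m, rfl⟩ := Multiplicative.ofAdd.surjective m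
  rw [hact, h1, inv_one, one_smul]

variable {R : Type u} [CommRing R] {j : Spec (CommRingCat.of R) ⟶ S} [IsOpenImmersion j]
  {C : Type u} [CommRing C] [Algebra R C]

omit [IsOpenImmersion j] in
theorem gp_u_injective {c : D.idx} {x y : C} (h : gp j x ≫ D.u c = gp j y ≫ D.u c) : x = y := by
  haveI := (D.rootHom c).2.1
  haveI : Mono (D.u c).left := inferInstance
  haveI : Mono (D.u c) := Over.mono_of_mono_left _
  have := congrArg gv ((cancel_mono (D.u c)).1 h)
  rwa [gv_gp, gv_gp] at this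

omit [IsOpenImmersion j] in
/-- The torus action determines the characters at the roots with commuting root groups. -/
theorem char_root_of_commute {g : Sp j C ⟶ G} {a : D.idx}
    (hu : ∀ x : C, g * (gp j x ≫ D.u a) * g⁻¹ = gp j x ≫ D.u a) {ψ σ : Multiplicative D.M →* C}
    (h : g * (tpt D j ψ ≫ D.i) * g⁻¹ = tpt D j σ ≫ D.i) :
    σ (Multiplicative.ofAdd (D.P.root a)) = ψ (Multiplicative.ofAdd (D.P.root a)) := by
  refine gp_u_injective (j := j) (c := a) ?_
  have h1 := conj_root j D.rootHom σ a (1 : C)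
  have h2 := conj_root j D.rootHom ψ a (1 : C)
  rw [_root_.mul_one] at h1 h2
  calc _ = (tpt D j σ ≫ D.i) * (g * (gp j (1 : C) ≫ D.u a) * g⁻¹) * (tpt D j σ ≫ D.i)⁻¹ := by rw [hu, h1]
    _ = g * ((tpt D j ψ ≫ D.i) * (gp j (1 : C) ≫ D.u a) * (tpt D j ψ ≫ D.i)⁻¹) * g⁻¹ := by rw [← h]; group
    _ = _ := by rw [h2, hu]

/-- Moving root products to the left of a word. -/
theorem wpt_rootProd {nr : D.idx → (𝟙_ (Over S) ⟶ G)} (b : D.P.Base) (hn : ∀ a, ActsBy (nr a) a) (l : List D.idx)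
    {Ψ : Set D.idx} {lv : D.idx → ℕ} (z : D.idx → C) :
    ∀ L : List D.idx, (∀ c ∈ L, RedSub.wordPerm D.P l c ∈ Ψ) →
      ∃ g ∈ gen j C D.u Ψ lv 0, wpt j C nr l * rootProd j D.u L z = g * wpt j C nr l
  | [], _ => ⟨1, one_mem _, by simp [rootProd]⟩
  | c :: L, hL => by
    obtain ⟨g, hg, e⟩ := wpt_rootProd b hn l z L fun d hd => hL d (List.mem_cons_of_mem _ hd)
    obtain ⟨w, hw⟩ := wpt_root (j := j) (C := C) b hn l c
    refine ⟨_, mul_mem (gp_mem_gen (hL c (List.mem_cons_self ..)) (Nat.zero_le _) (algebraMap R C (w : R) * z c)) hg, ?_⟩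
    calc wpt j C nr l * rootProd j D.u (c :: L) z = (wpt j C nr l * (gp j (z c) ≫ D.u c)) * rootProd j D.u L z := by
          simp [rootProd, _root_.mul_assoc]
      _ = _ := by rw [hw, _root_.mul_assoc, e, _root_.mul_assoc]

theorem tor_of_cell_comm {b : D.P.Base} {n m : ℕ} {eneg : Fin n → D.idx} {epos : Fin m → D.idx}
    (hneg : RedSub.Enumerates (RedSub.negRoots D.P b) eneg) (hpos : RedSub.Enumerates (RedSub.posRoots D.P b) epos)
    {g : Sp j C ⟶ G} (t : Sp j C ⟶ cellSpace D n m) (ht : t ≫ RedSub.cellMap D eneg epos = g)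
    {σ : Multiplicative D.M →* LaurentPolynomial C} {lam : D.M →+ ℤ} (hlam : ∀ c, lam (D.P.root c) ≠ 0)
    (h : (mor j (lauC (R := R)) ≫ g) * (tpt D j (chiLam C lam) ≫ D.i) * (mor j (lauC (R := R)) ≫ g)⁻¹ =
      tpt D j σ ≫ D.i) :
    ∃ χ : Multiplicative D.M →* C, tpt D j χ ≫ D.i = g := by
  haveI := isMonHom_i (D := D)
  haveI : ∀ c, IsMonHom (D.u c) := fun c => (D.rootHom c).1
  obtain ⟨mu, hmu⟩ := hasLam b
  obtain ⟨χ, y, x, e, -⟩ := exists_coords t hneg.1 hpos.1
  rw [ht] at e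
  rw [mul_inv_eq_iff_eq_mul, e] at h
  simp only [MonObj.comp_mul, mor_rootProd, ← Category.assoc, mor_tpt] at h
  let L := LaurentPolynomial C
  let ψ : Multiplicative D.M →* L := chiLam C lam
  let ψi := ψ.comp invMonoidHom
  let χ' : Multiplicative D.M →* L := ((lauC (R := R) (C := C)) : C →* L).comp χ
  let Y : D.idx → L := fun c => (lauC (R := R) (C := C)) (y c)
  let X : D.idx → L := fun c => (lauC (R := R) (C := C)) (x c)
  have h2 : rootProd j D.u (List.ofFn eneg) Y * ((tpt D j (χ' * ψ) ≫ D.i) *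
      rootProd j D.u (List.ofFn epos) (fun c => ψi (Multiplicative.ofAdd (D.P.root c)) * X c)) =
      rootProd j D.u (List.ofFn eneg) (fun c => σ (Multiplicative.ofAdd (D.P.root c)) * Y c) *
        ((tpt D j (σ * χ') ≫ D.i) * rootProd j D.u (List.ofFn epos) X) := by
    rw [← conj_rootProd j D.rootHom, ← conj_rootProd j D.rootHom, tpt_inv, _root_.inv_inv, tpt_mul, tpt_mul,
      MonObj.mul_comp, MonObj.mul_comp]
    refine Eq.trans ?_ (h.trans ?_)
    · simp only [Y, X, χ', ψ]; group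
    · simp only [Y, X, χ']; group
  obtain ⟨hT, hy, hx⟩ := cell_injective D.rootHom (mu := mu) (nodup_list hneg) (nodup_list hpos)
    (fun c hc => (hmu c).2 ((mem_list_iff hneg c).1 hc)) (fun c hc => (hmu c).1 ((mem_list_iff hpos c).1 hc)) h2
  have hσ : σ = ψ := by
    refine MonoidHom.ext fun k => ((IsUnit.mul_left_inj ((Group.isUnit k).map χ')).1 ?_)
    rw [← MonoidHom.mul_apply, ← hT, MonoidHom.mul_apply, mul_comm]
  subst hσ
  refine ⟨χ, ?_⟩
  rw [e, rootProd_eq_one j fun c hc => fixed_coeff (R := R) lam c _ (hlam c) (hy c hc).symm,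
    rootProd_eq_one j fun c hc => ?_, _root_.one_mul, _root_.mul_one]
  refine fixed_coeff (R := R) lam c _ (hlam c) ?_
  have h3 := hx c hc
  have h4 : ψ (Multiplicative.ofAdd (D.P.root c)) * ψi (Multiplicative.ofAdd (D.P.root c)) = 1 := by
    show ψ _ * ψ _⁻¹ = 1
    rw [← map_mul, mul_inv_cancel, map_one]
  calc ψ (Multiplicative.ofAdd (D.P.root c)) * X c =
        ψ (Multiplicative.ofAdd (D.P.root c)) * (ψi (Multiplicative.ofAdd (D.P.root c)) * X c) := by rw [h3]
    _ = X c := by rw [← _root_.mul_assoc, h4, _root_.one_mul]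

variable {K : Type u} [Field K] [IsAlgClosed K] [Algebra R K]

/-- The action on the torus of a normalising point fixing the simple root groups is trivial. -/
theorem char_eq_self (b : D.P.Base) {nr : D.idx → (𝟙_ (Over S) ⟶ G)} (hn : ∀ a, ActsBy (nr a) a)
    (g : Sp j K ⟶ G) (hu : ∀ a ∈ b.support, ∀ x : K, g * (gp j x ≫ D.u a) * g⁻¹ = gp j x ≫ D.u a)
    (hT : ∀ ψ : Multiplicative D.M →* K, ∃ σ, g * (tpt D j ψ ≫ D.i) * g⁻¹ = tpt D j σ ≫ D.i)
    (ψ : Multiplicative D.M →* K) : g * (tpt D j ψ ≫ D.i) * g⁻¹ = tpt D j ψ ≫ D.i := by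
  classical
  haveI := isMonHom_i (D := D)
  haveI : ∀ c, IsMonHom (D.u c) := fun c => (D.rootHom c).1
  haveI : Finite D.idx := Finite.of_fintype _
  obtain ⟨lv, hF⟩ := exists_filt_pos (D := D) b
  obtain ⟨lvn, hFn⟩ := exists_filt_neg (D := D) b
  obtain ⟨n, eneg, hneg⟩ := exists_enum (D := D) (RedSub.negRoots D.P b)
  obtain ⟨m, epos, hpos⟩ := exists_enum (D := D) (RedSub.posRoots D.P b)
  obtain ⟨mu, hmu⟩ := hasLam b
  obtain ⟨l, p, ⟨π, u₁, hu₁, rfl⟩, q, ⟨τ, u₂, hu₂, rfl⟩, hg⟩ := exists_bruhat b b hF hn (lv := lv) g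
  set N := wpt j K nr l with hNdef
  have hN : ∀ φ : Multiplicative D.M →* K, N * (tpt D j φ ≫ D.i) = (tpt D j (wordChar l φ) ≫ D.i) * N :=
    fun φ => wpt_tpt hn l φ
  let α := π * wordChar l τ
  let u := conjT D j ((wordChar l τ).comp invMonoidHom) u₁
  have hu' : u ∈ gen j K D.u (RedSub.posRoots D.P b) lv 0 := conjT_mem_gen _ hu₁
  have hg' : g = (tpt D j α ≫ D.i) * u * N * u₂ := by
    rw [hg, show (tpt D j α ≫ D.i) = (tpt D j π ≫ D.i) * (tpt D j (wordChar l τ) ≫ D.i) by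
      rw [← MonObj.mul_comp, ← tpt_mul]]
    simp only [u, conjT, tpt_inv, _root_.inv_inv]
    calc (tpt D j π ≫ D.i) * u₁ * N * ((tpt D j τ ≫ D.i) * u₂) =
          (tpt D j π ≫ D.i) * u₁ * (N * (tpt D j τ ≫ D.i)) * u₂ := by group
      _ = _ := by rw [hN]; group
  have key : ∀ (φ σ : Multiplicative D.M →* K), g * (tpt D j φ ≫ D.i) * g⁻¹ = tpt D j σ ≫ D.i →
      σ = wordChar l φ := by
    intro φ σ h
    let u₂' := conjT D j (φ.comp invMonoidHom) u₂
    let w := wordChar l φ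
    let u' := conjT D j (w.comp invMonoidHom) u
    have hv : u₂' * u₂⁻¹ ∈ gen j K D.u (RedSub.posRoots D.P b) lv 0 :=
      mul_mem (conjT_mem_gen _ hu₂) (inv_mem hu₂)
    let L₁ := (List.ofFn epos).filter fun c => decide (RedSub.wordPerm D.P l c ∈ RedSub.negRoots D.P b)
    let L₂ := (List.ofFn epos).filter fun c => !decide (RedSub.wordPerm D.P l c ∈ RedSub.negRoots D.P b)
    have hperm : (L₁ ++ L₂).Perm (List.ofFn epos) := List.filter_append_perm _ _
    obtain ⟨z, hz⟩ := (mem_gen_iff D.rootHom hF (hperm.symm.nodup (nodup_list hpos))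
      (fun c => (hperm.mem_iff).trans (mem_list_iff hpos c))).1 hv
    obtain ⟨v₁, hv₁, e₁⟩ := wpt_rootProd (j := j) (C := K) b hn l (lv := lvn) z L₁
      (Ψ := RedSub.negRoots D.P b) fun c hc => by simpa [L₁] using (List.mem_filter.1 hc).2
    obtain ⟨v₂, hv₂, e₂⟩ := wpt_rootProd (j := j) (C := K) b hn l (lv := lv) z L₂
      (Ψ := RedSub.posRoots D.P b) fun c hc =>
        (pos_or_neg D.P b _).resolve_right (by simpa [L₂] using (List.mem_filter.1 hc).2)
    obtain ⟨y, hy⟩ := (mem_gen_iff D.rootHom hFn (nodup_list hneg) (mem_list_iff hneg)).1 hv₁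
    obtain ⟨x₂, hx₂⟩ := (mem_gen_iff D.rootHom hF (nodup_list hpos) (mem_list_iff hpos)).1 hv₂
    let ρ := σ * w.comp invMonoidHom
    obtain ⟨x₃, hx₃⟩ := (mem_gen_iff D.rootHom hF (nodup_list hpos) (mem_list_iff hpos)).1
      (mul_mem (conjT_mem_gen (ρ.comp invMonoidHom) (inv_mem (show u' ∈ gen j K D.u (RedSub.posRoots D.P b) lv 0
        from conjT_mem_gen _ hu'))) hu')
    have h1 : N * (u₂' * u₂⁻¹) * N⁻¹ = (tpt D j ρ ≫ D.i) * (conjT D j (ρ.comp invMonoidHom) u'⁻¹ * u) := by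
      rw [mul_inv_eq_iff_eq_mul, hg'] at h
      have hαw : (tpt D j α ≫ D.i) * (tpt D j w ≫ D.i) = (tpt D j w ≫ D.i) * (tpt D j α ≫ D.i) := by
        rw [← MonObj.mul_comp, ← MonObj.mul_comp, ← tpt_mul, ← tpt_mul, mul_comm]
      have hασ : (tpt D j α ≫ D.i) * (tpt D j σ ≫ D.i) = (tpt D j σ ≫ D.i) * (tpt D j α ≫ D.i) := by
        rw [← MonObj.mul_comp, ← MonObj.mul_comp, ← tpt_mul, ← tpt_mul, mul_comm]
      have h2 : (tpt D j w ≫ D.i) * u' * N * u₂' = (tpt D j σ ≫ D.i) * u * N * u₂ := by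
        refine mul_left_cancel (a := tpt D j α ≫ D.i) ?_
        calc _ = (tpt D j α ≫ D.i) * u * ((tpt D j w ≫ D.i) * N) * u₂' := by
              simp only [u', conjT, tpt_inv, _root_.inv_inv]; group
          _ = (tpt D j α ≫ D.i) * u * (N * (tpt D j φ ≫ D.i)) * u₂' := by rw [hN]
          _ = (tpt D j α ≫ D.i) * u * N * u₂ * (tpt D j φ ≫ D.i) := by
            simp only [u₂', conjT, tpt_inv, _root_.inv_inv]; group
          _ = ((tpt D j σ ≫ D.i) * (tpt D j α ≫ D.i)) * u * N * u₂ := by rw [h]; group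
          _ = _ := by rw [← hασ]; group
      simp only [conjT, tpt_inv, _root_.inv_inv]
      calc _ = u'⁻¹ * (tpt D j w ≫ D.i)⁻¹ * ((tpt D j w ≫ D.i) * u' * N * u₂') * u₂⁻¹ * N⁻¹ := by group
        _ = u'⁻¹ * (tpt D j w ≫ D.i)⁻¹ * (tpt D j σ ≫ D.i) * u := by rw [h2]; group
        _ = _ := by
          rw [show tpt D j ρ ≫ D.i = (tpt D j σ ≫ D.i) * (tpt D j w ≫ D.i)⁻¹ by
            rw [tpt_mul, MonObj.mul_comp, tpt_inv]]
          have hwσ : (tpt D j w ≫ D.i)⁻¹ * (tpt D j σ ≫ D.i) = (tpt D j σ ≫ D.i) * (tpt D j w ≫ D.i)⁻¹ := by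
            rw [← tpt_inv, ← MonObj.mul_comp, ← MonObj.mul_comp, ← tpt_mul, ← tpt_mul, mul_comm]
          rw [_root_.mul_assoc _ (tpt D j w ≫ D.i)⁻¹, hwσ]
          group
    have h3 : rootProd j D.u (List.ofFn eneg) y * ((tpt D j (1 : Multiplicative D.M →* K) ≫ D.i) *
          rootProd j D.u (List.ofFn epos) x₂) =
        rootProd j D.u (List.ofFn eneg) (0 : D.idx → K) * ((tpt D j ρ ≫ D.i) * rootProd j D.u (List.ofFn epos) x₃) := by
      rw [rootProd_eq_one j (x := (0 : D.idx → K)) fun _ _ => rfl, tpt_one, MonObj.one_comp, _root_.one_mul,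
        _root_.one_mul, hy, hx₂, hx₃, ← h1, ← hz,
        show rootProd j D.u (L₁ ++ L₂) z = rootProd j D.u L₁ z * rootProd j D.u L₂ z by
          simp [rootProd, List.map_append, List.prod_append],
        ← _root_.mul_assoc N, e₁, _root_.mul_assoc v₁, e₂, hNdef]
      group
    have h4 := (cell_injective D.rootHom (mu := mu) (nodup_list hneg) (nodup_list hpos)
      (fun c hc => (hmu c).2 ((mem_list_iff hneg c).1 hc)) (fun c hc => (hmu c).1 ((mem_list_iff hpos c).1 hc)) h3).1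
    refine MonoidHom.ext fun k => ((IsUnit.mul_left_inj ((Group.isUnit k⁻¹).map w)).1 ?_)
    show σ k * w k⁻¹ = w k * w k⁻¹
    rw [← map_mul w, mul_inv_cancel, map_one, show σ k * w k⁻¹ = ρ k from rfl, ← h4]
    rfl
  obtain ⟨σ, hσ⟩ := hT ψ
  rw [hσ, key ψ σ hσ, wordChar_eq_self b l fun a ha => ?_]
  apply (RedSub.wordPerm D.P l).symm.injective
  rw [Equiv.symm_apply_apply]
  refine root_eq_of_chars (K := K) b fun φ => ?_
  obtain ⟨σ', hσ'⟩ := hT φ
  rw [← wordChar_root, ← key φ σ' hσ', char_root_of_commute (hu a ha) hσ']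

/-- Geometric points normalising the torus and fixing the simple root groups are torus points. -/
theorem mem_torus_geom (b : D.P.Base) {nr : D.idx → (𝟙_ (Over S) ⟶ G)} (hn : ∀ a, ActsBy (nr a) a)
    (g : 𝟙_ (Over S) ⟶ G)
    (hT : ∀ (X : Over S) (t : X ⟶ D.T), ∃ t' : X ⟶ D.T, (toUnit X ≫ g) * (t ≫ D.i) * (toUnit X ≫ g)⁻¹ = t' ≫ D.i)
    (hu : ∀ a ∈ b.support, ∀ (X : Over S) (x : X ⟶ Red.Ga S),
      (toUnit X ≫ g) * (x ≫ D.u a) * (toUnit X ≫ g)⁻¹ = x ≫ D.u a) :
    ∃ χ : Multiplicative D.M →* K, tpt D j χ ≫ D.i = toUnit (Sp j K) ≫ g := by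
  haveI : Finite D.idx := Finite.of_fintype _
  have hT' : ∀ (C : Type u) [CommRing C] [Algebra R C] (ψ : Multiplicative D.M →* C),
      ∃ σ, (toUnit (Sp j C) ≫ g) * (tpt D j ψ ≫ D.i) * (toUnit (Sp j C) ≫ g)⁻¹ = tpt D j σ ≫ D.i := by
    intro C _ _ ψ
    obtain ⟨t', ht'⟩ := hT _ (tpt D j ψ)
    obtain ⟨σ, rfl⟩ := exists_tpt j t'
    exact ⟨σ, ht'⟩
  have hfix : ∀ ψ : Multiplicative D.M →* K, (toUnit (Sp j K) ≫ g) * (tpt D j ψ ≫ D.i) * (toUnit (Sp j K) ≫ g)⁻¹ =
      tpt D j ψ ≫ D.i := char_eq_self b hn _ (fun a ha x => hu a ha _ _) (hT' K)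
  obtain ⟨n, eneg, hneg⟩ := exists_enum (D := D) (RedSub.negRoots D.P b)
  obtain ⟨m, epos, hpos⟩ := exists_enum (D := D) (RedSub.posRoots D.P b)
  obtain ⟨lam, hl, hlp⟩ := exists_lam_prim b
  refine torus_of_fixed hneg hpos hl hlp _ fun C' _ _ f u => ?_
  -- over Laurent polynomials
  obtain ⟨σ, hσ⟩ := hT' (LaurentPolynomial K) (chiLam K lam)
  have hσ' : σ = chiLam K lam := by
    refine MonoidHom.ext fun k => ?_
    obtain ⟨N, p, hp⟩ := LaurentPolynomial.exists_T_pow (σ k - chiLam K lam k)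
    have hev : ∀ u : Kˣ, lauEval (AlgHom.id R K) u (σ k - chiLam K lam k) = 0 := fun u => by
      have h1 := congrArg (fun s => mor j (lauEval (AlgHom.id R K) u) ≫ s) hσ
      simp only [MonObj.comp_mul, GrpObj.comp_inv, ← Category.assoc, mor_tpt,
        toUnit_unique (mor j (lauEval (AlgHom.id R K) u) ≫ toUnit _) (toUnit _)] at h1
      rw [lauEval_chiLam, hfix] at h1
      have h2 := congrArg (fun χ : Multiplicative D.M →* K => χ k) (tpt_injective b h1)
      have h3 := congrArg (fun χ : Multiplicative D.M →* K => χ k) (lauEval_chiLam lam (AlgHom.id R K) u)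
      simp only [MonoidHom.coe_comp, Function.comp_apply, MonoidHom.coe_coe] at h2 h3
      rw [map_sub, ← h2, h3, sub_self]
    have hp0 : p = 0 := by
      by_contra hne
      obtain ⟨a, ha, hpa⟩ := exists_root_avoiding hne
      apply hpa
      have h4 := congrArg (lauEval (AlgHom.id R K) (Units.mk0 a ha)) hp
      rw [map_mul, hev, zero_mul] at h4
      exact ((Polynomial.eval₂_id (x := a) (p := p)).symm.trans
        (LaurentPolynomial.eval₂_toLaurent (AlgHom.id R K : K →+* K) (Units.mk0 a ha) p).symm).trans h4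
    rw [hp0, map_zero] at hp
    exact sub_eq_zero.1 ((IsUnit.mul_left_eq_zero (LaurentPolynomial.isUnit_T _)).1 hp.symm)
  rw [hσ'] at hσ
  have h1 := congrArg (fun s => mor j (lauEval f u) ≫ s) hσ
  simp only [MonObj.comp_mul, GrpObj.comp_inv, ← Category.assoc, mor_tpt,
    toUnit_unique (mor j (lauEval f u) ≫ toUnit _) (toUnit _), lauEval_chiLam] at h1
  rw [conjT, ← Category.assoc, toUnit_unique (mor j f ≫ toUnit _) (toUnit _)]
  rw [mul_inv_eq_iff_eq_mul] at h1
  rw [mul_inv_eq_iff_eq_mul, h1]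

omit [IsOpenImmersion j] in
/-- Inner automorphisms respecting a pinning are trivial. -/
theorem inner_trivial (b : D.P.Base) (g : 𝟙_ (Over S) ⟶ G)
    (hT : ∀ (X : Over S) (t : X ⟶ D.T), ∃ t' : X ⟶ D.T, (toUnit X ≫ g) * (t ≫ D.i) * (toUnit X ≫ g)⁻¹ = t' ≫ D.i)
    (hu : ∀ a ∈ b.support, ∀ (X : Over S) (x : X ⟶ Red.Ga S),
      (toUnit X ≫ g) * (x ≫ D.u a) * (toUnit X ≫ g)⁻¹ = x ≫ D.u a) : inner g = 𝟙 G := by
  classical
  haveI := isMonHom_inner g
  haveI : Finite D.idx := Finite.of_fintype _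
  choose nr hnr using D.refl
  have hn : ∀ a, ActsBy (nr a) a := fun a => actsBy_of_refl (hnr a)
  obtain ⟨n, eneg, hneg⟩ := exists_enum (D := D) (RedSub.negRoots D.P b)
  obtain ⟨m, epos, hpos⟩ := exists_enum (D := D) (RedSub.posRoots D.P b)
  obtain ⟨lam, hl⟩ := hasLam b
  have hlam : ∀ c, lam (D.P.root c) ≠ 0 := fun c => (pos_or_neg D.P b c).elim (fun h => ((hl c).1 h).ne')
    fun h => ((hl c).2 h).ne
  -- over affine opens the point is a torus point
  have hloc : ∀ (R : Type u) [CommRing R] (j : Spec (CommRingCat.of R) ⟶ S) [IsOpenImmersion j],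
      ∃ χ : Multiplicative D.M →* R, tpt D j χ ≫ D.i = toUnit (Sp j R) ≫ g ∧
        ∀ c, χ (Multiplicative.ofAdd (D.P.root c)) = 1 := by
    intro R _ j _
    obtain ⟨t, ht⟩ := exists_cell_of_geom hneg hpos (toUnit (Sp j R) ≫ g) fun K _ _ _ f => by
      obtain ⟨χ, hχ⟩ := mem_torus_geom (j := j) (K := K) b hn g hT hu
      haveI : ∀ c, IsMonHom (D.u c) := fun c => (D.rootHom c).1
      refine ⟨lift (tup n fun k => gp j ((0 : D.idx → K) (eneg k)))
        (lift (tpt D j χ) (tup m fun k => gp j ((0 : D.idx → K) (epos k)))), ?_⟩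
      rw [lift_cellMap, rootProd_eq_one j (x := (0 : D.idx → K)) fun _ _ => rfl,
        rootProd_eq_one j (x := (0 : D.idx → K)) fun _ _ => rfl, _root_.one_mul, _root_.mul_one, hχ,
        ← Category.assoc, toUnit_unique (mor j f ≫ toUnit _) (toUnit _)]
    obtain ⟨t', ht'⟩ := hT _ (tpt D j (chiLam R lam))
    obtain ⟨σ, rfl⟩ := exists_tpt j t'
    obtain ⟨χ, hχ⟩ := tor_of_cell_comm hneg hpos t ht (σ := σ) hlam (by
      rw [← Category.assoc, toUnit_unique (mor j (lauC (R := R) (C := R)) ≫ toUnit _) (toUnit _)]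
      exact ht')
    refine ⟨χ, hχ, ?_⟩
    have hsimple : ∀ a ∈ b.support, χ (Multiplicative.ofAdd (D.P.root a)) = 1 := fun a ha => by
      refine gp_u_injective (j := j) (c := a) ?_
      have h1 := conj_root j D.rootHom χ a (1 : R)
      rw [_root_.mul_one, hχ] at h1
      rw [← h1]
      exact hu a ha _ _
    have hcl : ∀ x ∈ AddSubmonoid.closure (D.P.root '' (b.support : Set D.idx)),
        χ (Multiplicative.ofAdd x) = 1 := fun x hx => by
      induction hx using AddSubmonoid.closure_induction with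
      | mem x hx => obtain ⟨a, ha, rfl⟩ := hx; exact hsimple a ha
      | zero => exact map_one χ
      | add x y _ _ hx hy => rw [ofAdd_add, map_mul, hx, hy, _root_.one_mul]
    intro c
    rcases b.root_mem_or_neg_mem c with h | h
    · exact hcl _ h
    · have h1 : χ (Multiplicative.ofAdd (D.P.root c)) * χ (Multiplicative.ofAdd (-D.P.root c)) = 1 := by
        rw [← map_mul, ← ofAdd_add, add_neg_cancel, ofAdd_zero, map_one]
      rwa [hcl _ h, _root_.mul_one] at h1
  refine hom_eq_of_simple (D := D) b (inner g) (𝟙 G) ?_ fun a ha => ⟨?_, ?_⟩ <;> rw [Category.comp_id]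
  · refine hom_ext_open fun R _ j _ C _ _ t => ?_
    haveI := isMonHom_i (D := D)
    obtain ⟨χ, hχ, -⟩ := hloc R j
    obtain ⟨ψ, rfl⟩ := exists_tpt j t
    have hC : toUnit (Sp j C) ≫ g = tpt D j (((Algebra.ofId R C) : R →* C).comp χ) ≫ D.i := by
      have := congrArg (fun s => mor j (Algebra.ofId R C) ≫ s) hχ
      simp only [← Category.assoc, mor_tpt, toUnit_unique (mor j (Algebra.ofId R C) ≫ toUnit _) (toUnit _)] at this
      exact this.symm
    rw [← Category.assoc, comp_inner, hC, mul_inv_eq_iff_eq_mul, ← MonObj.mul_comp, ← MonObj.mul_comp, ← tpt_mul,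
      ← tpt_mul, mul_comm]
  all_goals
    refine hom_ext_open fun R _ j _ C _ _ t => ?_
    obtain ⟨χ, hχ, hroots⟩ := hloc R j
    have hC : toUnit (Sp j C) ≫ g = tpt D j (((Algebra.ofId R C) : R →* C).comp χ) ≫ D.i := by
      have := congrArg (fun s => mor j (Algebra.ofId R C) ≫ s) hχ
      simp only [← Category.assoc, mor_tpt, toUnit_unique (mor j (Algebra.ofId R C) ≫ toUnit _) (toUnit _)] at this
      exact this.symm
    rw [← Category.assoc, comp_inner, hC, ← gp_gv t, conj_root j D.rootHom]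
    simp only [MonoidHom.coe_comp, Function.comp_apply, MonoidHom.coe_coe, hroots, map_one, _root_.one_mul]

end Groth.L14.Chev.Cell
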