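import Groth.Agent.L14.Chev.Cell.BruhatCover

/-!
The torus and the root groups of simple roots and their opposites generate the points.
-/

set_option autoImplicit false
universe u

open CategoryTheory CategoryTheory.Limits AlgebraicGeometry MonoidalCategory CartesianMonoidalCategory MonObj
open Groth.L14.RankOne Groth.L25 Groth.L14.Chart

set_option backward.isDefEq.respectTransparency.types false
set_option linter.style.haveILetI false
set_option linter.unusedSectionVars false
set_option maxHeartbeats 1000000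

noncomputable section

namespace Groth.L14.Chev.Cell

variable {S : Scheme.{u}} {G : Over S} [GrpObj G] {D : Red.SplitRed G}
  {R : Type u} [CommRing R] {j : Spec (CommRingCat.of R) ⟶ S} [IsOpenImmersion j]
  {C : Type u} [CommRing C] [Algebra R C]

/-- A point of the group whose geometric fibres lie in the big cell lies in the big cell. -/
theorem exists_cell_of_geom {b : D.P.Base} {n m : ℕ} {eneg : Fin n → D.idx} {epos : Fin m → D.idx}
    (hneg : RedSub.Enumerates (RedSub.negRoots D.P b) eneg) (hpos : RedSub.Enumerates (RedSub.posRoots D.P b) epos)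
    (g : Sp j C ⟶ G)
    (h : ∀ (K : Type u) [Field K] [IsAlgClosed K] [Algebra R K] (f : C →ₐ[R] K),
      ∃ t : Sp j K ⟶ cellSpace D n m, t ≫ RedSub.cellMap D eneg epos = mor j f ≫ g) :
    ∃ t : Sp j C ⟶ cellSpace D n m, t ≫ RedSub.cellMap D eneg epos = g := by
  haveI := isOpenImmersion_cellMap hneg hpos
  have hr : Set.range g.left ⊆ Set.range (RedSub.cellMap D eneg epos).left := by
    rintro _ ⟨P, rfl⟩
    let K : Type u := AlgebraicClosure (FractionRing (C ⧸ P.asIdeal))
    let f : C →ₐ[R] K := (IsScalarTower.toAlgHom R (C ⧸ P.asIdeal) K).comp (Ideal.Quotient.mkₐ R P.asIdeal)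
    obtain ⟨t, ht⟩ := h K f
    have hm := range_of_comp _ t ht
    rw [Over.comp_left, Scheme.Hom.comp_apply] at hm
    have hP : (mor j f).left (IsLocalRing.closedPoint K) = P := by
      refine PrimeSpectrum.ext (Ideal.ext fun a => ?_)
      show f a ∈ IsLocalRing.maximalIdeal K ↔ _
      rw [IsLocalRing.maximalIdeal_eq_bot, Ideal.mem_bot]
      show algebraMap (C ⧸ P.asIdeal) K (Ideal.Quotient.mk P.asIdeal a) = 0 ↔ _
      rw [IsScalarTower.algebraMap_apply (C ⧸ P.asIdeal) (FractionRing (C ⧸ P.asIdeal)) K,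
        _root_.map_eq_zero, map_eq_zero_iff (algebraMap (C ⧸ P.asIdeal) (FractionRing (C ⧸ P.asIdeal)))
          (IsFractionRing.injective _ _), Ideal.Quotient.eq_zero_iff_mem]
    rwa [hP] at hm
  exact ⟨Over.homMk (IsOpenImmersion.lift _ g.left hr) (by
    rw [← Over.w (RedSub.cellMap D eneg epos), IsOpenImmersion.lift_fac_assoc, Over.w]),
    Over.OverMorphism.ext (IsOpenImmersion.lift_fac _ _ _)⟩

theorem fixed_coeff (f : D.M →+ ℤ) (c : D.idx) (a : C) (hne : f (D.P.root c) ≠ 0)
    (h : chiLam C f (Multiplicative.ofAdd (D.P.root c)) * (lauC (R := R) (C := C)) a = (lauC (R := R) (C := C)) a) :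
    a = 0 := by
  have h3 := congrArg (fun p : LaurentPolynomial C => p.coeff 0) h
  change ((LaurentPolynomial.T (f (D.P.root c)) : LaurentPolynomial C) * LaurentPolynomial.C a).coeff 0 =
    (LaurentPolynomial.C a).coeff 0 at h3
  classical
  rw [_root_.mul_comm, ← LaurentPolynomial.single_eq_C_mul_T, ← LaurentPolynomial.single_eq_C] at h3
  simp only [AddMonoidAlgebra.coeff_single, Finsupp.single_apply, hne, if_false, if_true] at h3
  exact h3.symm

/-- A point realising a reflection is a product of torus points and root points of the two roots. -/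
theorem exists_refl_decomp (b : D.P.Base) {c : D.idx} (hc : c ∈ RedSub.posRoots D.P b) {ν : 𝟙_ (Over S) ⟶ G}
    (hν : ActsBy ν c) :
    ∃ (x y z : R) (χ : Multiplicative D.M →* R), toUnit (Sp j R) ≫ ν =
      (gp j x ≫ D.u c) * (tpt D j χ ≫ D.i) * (gp j y ≫ D.u (D.P.reflectionPerm c c)) * (gp j z ≫ D.u c) := by
  classical
  haveI := isMonHom_i (D := D)
  haveI : ∀ c, IsMonHom (D.u c) := fun c => (D.rootHom c).1
  haveI : Finite D.idx := Finite.of_fintype _
  set c' := D.P.reflectionPerm c c with hc'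
  obtain ⟨n, eneg, hneg⟩ := exists_enum (D := D) (RedSub.negRoots D.P (negBase D.P b))
  obtain ⟨m, epos, hpos⟩ := exists_enum (D := D) (RedSub.posRoots D.P (negBase D.P b))
  obtain ⟨lam, hl⟩ := hasLam (negBase D.P b)
  have hroot : D.P.root c' = -D.P.root c := root_neg' D.P c
  have hcneg : c ∈ List.ofFn eneg := (mem_list_iff hneg c).2 (by rwa [negRoots_negBase])
  have hc'pos : c' ∈ List.ofFn epos := (mem_list_iff hpos c').2 (by
    rw [posRoots_negBase]
    show -D.P.root c' ∈ AddSubmonoid.closure _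
    rw [hroot, neg_neg]; exact hc)
  let g := (toUnit (Sp j R) ≫ ν) * (gp j (1 : R) ≫ D.u c)
  obtain ⟨t, ht⟩ := exists_cell_of_geom hneg hpos g fun K _ _ _ f => by
    haveI := connectedSpace_fibre D (qK j K)
    let V := toUnit (Sp j K) ≫ ν
    have eg : mor j f ≫ g = V * (gp j (1 : K) ≫ D.u c) := by
      simp only [g, V, MonObj.comp_mul, ← Category.assoc, mor_gp, map_one,
        toUnit_unique (mor j f ≫ toUnit _) (toUnit _)]
    obtain ⟨w, hw⟩ := exists_conj_scale (j := j) b hν c
    obtain ⟨w', hw'⟩ := exists_conj_scale (j := j) b hν c'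
    rw [hc', D.P.reflectionPerm_self] at hw'
    obtain ⟨x, z, τ, hswap⟩ := exists_swap (j := j) b hc hν (y := algebraMap R K (w : R) * 1)
      (by rw [_root_.mul_one]; exact ((Units.isUnit w).map (algebraMap R K)).ne_zero)
    obtain ⟨σ, hσ⟩ := sq_mem_torus (j := j) (K := K) b hν
    have hK : IsUnit (algebraMap R K (w' : R)) := (Units.isUnit w').map _
    let z₁ := z / algebraMap R K (w' : R)
    have e1 : (gp j z ≫ D.u c) * V = V * (gp j z₁ ≫ D.u c') := by
      rw [show z = algebraMap R K (w' : R) * z₁ from (mul_div_cancel₀ _ hK.ne_zero).symm, ← hw' K z₁]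
      simp only [V, hc']; group
    refine ⟨lift (tup n fun k => gp j ((Pi.single c x : D.idx → K) (eneg k)))
      (lift (tpt D j (reflChar c τ * σ)) (tup m fun k => gp j ((Pi.single c' z₁ : D.idx → K) (epos k)))), ?_⟩
    rw [lift_cellMap, rootProd_single j (x := Pi.single c x) (nodup_list hneg) hcneg
        fun d hd => Pi.single_eq_of_ne hd _,
      rootProd_single j (x := Pi.single c' z₁) (nodup_list hpos) hc'pos fun d hd => Pi.single_eq_of_ne hd _,
      Pi.single_eq_same, Pi.single_eq_same, eg, tpt_mul, MonObj.mul_comp, hσ,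
      show tpt D j (reflChar c τ) ≫ D.i = V * (tpt D j τ ≫ D.i) * V⁻¹ from (hν R j K τ).symm]
    symm
    calc V * (gp j (1 : K) ≫ D.u c) = (V * (gp j (1 : K) ≫ D.u c) * V⁻¹) * V := by group
      _ = (gp j x ≫ D.u c) * V * (tpt D j τ ≫ D.i) * ((gp j z ≫ D.u c) * V) := by
        simp only [V]
        rw [hw K, hswap]
        group
      _ = _ := by rw [e1]; simp only [V]; group
  obtain ⟨χ, y, x, e, -⟩ := exists_coords t hneg.1 hpos.1
  rw [ht] at e
  obtain ⟨f, -, hfc, hfd⟩ := exists_fun_root b c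
  -- the decomposition is fixed by the torus killed by the root
  have hfix : conjT D j (chiLam R f) (mor j (lauC (R := R)) ≫ g) = mor j (lauC (R := R)) ≫ g := by
    have hrefl : reflChar c (chiLam R f) = chiLam R f := MonoidHom.ext fun k => by
      show LaurentPolynomial.T (f (D.P.reflection c k.toAdd)) = LaurentPolynomial.T (f k.toAdd)
      rw [RootPairing.reflection_apply, map_sub, map_zsmul, hfc, smul_zero, sub_zero]
    have h1 := hν R j (LaurentPolynomial R) (chiLam R f)
    rw [hrefl] at h1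
    have h2 := conj_root j D.rootHom (chiLam R f) c (1 : LaurentPolynomial R)
    rw [show chiLam R f (Multiplicative.ofAdd (D.P.root c)) * 1 = (1 : LaurentPolynomial R) by
      rw [_root_.mul_one]
      show LaurentPolynomial.T (f (D.P.root c)) = _
      rw [hfc, LaurentPolynomial.T_zero]] at h2
    simp only [g, MonObj.comp_mul, ← Category.assoc, mor_gp, map_one,
      toUnit_unique (mor j (lauC (R := R) (C := R)) ≫ toUnit _) (toUnit _)]
    rw [mul_inv_eq_iff_eq_mul] at h1 h2
    rw [conjT, mul_inv_eq_iff_eq_mul, ← _root_.mul_assoc, ← h1, _root_.mul_assoc, h2, _root_.mul_assoc]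
  rw [e] at hfix
  simp only [MonObj.comp_mul, mor_rootProd, ← Category.assoc, mor_tpt] at hfix
  rw [conjT_cell] at hfix
  obtain ⟨-, hy, hx⟩ := cell_injective D.rootHom (mu := lam) (nodup_list hneg) (nodup_list hpos)
    (fun d hd => (hl d).2 ((mem_list_iff hneg d).1 hd)) (fun d hd => (hl d).1 ((mem_list_iff hpos d).1 hd)) hfix
  have hne : ∀ d, d ∈ List.ofFn eneg → d ∉ List.ofFn epos := fun d h1 h2 => by
    have := (hl d).2 ((mem_list_iff hneg d).1 h1)
    have := (hl d).1 ((mem_list_iff hpos d).1 h2)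
    omega
  refine ⟨y c, x c', -1, χ, ?_⟩
  have hy0 : ∀ d ∈ List.ofFn eneg, d ≠ c → y d = 0 := fun d hd h => fixed_coeff f d _ (hfd d h fun hd' => by
    have hdc : d = c' := D.P.root.injective (hd'.trans hroot.symm)
    exact hne _ (hdc ▸ hd) hc'pos) (hy d hd)
  have hx0 : ∀ d ∈ List.ofFn epos, d ≠ c' → x d = 0 := fun d hd h => fixed_coeff f d _ (hfd d (fun hd' => by
    exact hne _ hcneg (hd' ▸ hd)) fun hd' => h (D.P.root.injective (hd'.trans hroot.symm))) (hx d hd)
  rw [rootProd_eq_single (nodup_list hneg) hcneg hy0, rootProd_eq_single (nodup_list hpos) hc'pos hx0] at e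
  rw [gp_neg, GrpObj.inv_comp, eq_mul_inv_iff_mul_eq]
  refine e.trans ?_
  group

/-- A subgroup of points containing the torus points and the simple root points and their opposites contains all root
points and all points realising reflections. -/
theorem mem_of_simple (b : D.P.Base) (H : Subgroup (Sp j C ⟶ G))
    (hT : ∀ χ : Multiplicative D.M →* C, tpt D j χ ≫ D.i ∈ H)
    (hu : ∀ a ∈ b.support, ∀ x : C, gp j x ≫ D.u a ∈ H ∧ gp j x ≫ D.u (D.P.reflectionPerm a a) ∈ H) :
    (∀ (c : D.idx) (x : C), gp j x ≫ D.u c ∈ H) ∧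
      ∀ (c : D.idx) (ν : 𝟙_ (Over S) ⟶ G), ActsBy ν c → toUnit (Sp j C) ≫ ν ∈ H := by
  classical
  haveI : Finite D.idx := Finite.of_fintype _
  haveI := isReduced D.P b
  haveI := Chart.RootCombo.isCrystallographic D.P
  have hν : ∀ (b₀ : D.P.Base) (c : D.idx), c ∈ RedSub.posRoots D.P b₀ →
      (∀ x : C, gp j x ≫ D.u c ∈ H) → (∀ x : C, gp j x ≫ D.u (D.P.reflectionPerm c c) ∈ H) →
      ∀ ν : 𝟙_ (Over S) ⟶ G, ActsBy ν c → toUnit (Sp j C) ≫ ν ∈ H := by
    intro b₀ c hc h1 h2 ν hn
    obtain ⟨x, y, z, χ, e⟩ := exists_refl_decomp (j := j) b₀ hc hn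
    have := congrArg (fun p => mor j (Algebra.ofId R C) ≫ p) e
    simp only [MonObj.comp_mul, ← Category.assoc, mor_gp, mor_tpt,
      toUnit_unique (mor j (Algebra.ofId R C) ≫ toUnit _) (toUnit _)] at this
    rw [this]
    exact mul_mem (mul_mem (mul_mem (h1 _) (hT _)) (h2 _)) (h1 _)
  choose nr hnr using D.refl
  have hn : ∀ a, ActsBy (nr a) a := fun a => actsBy_of_refl (hnr a)
  have hinv : ∀ d : D.idx, D.P.reflectionPerm (D.P.reflectionPerm d d) (D.P.reflectionPerm d d) = d := fun d =>
    D.P.root.injective (by rw [root_neg', root_neg', neg_neg])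
  have hconj : ∀ (a e : D.idx), a ∈ b.support → (∀ x : C, gp j x ≫ D.u e ∈ H) →
      ∀ x : C, gp j x ≫ D.u (D.P.reflectionPerm a e) ∈ H := by
    intro a e ha he x
    have hna := hν b a (simple_pos D.P b ha) (fun x => (hu a ha x).1) (fun x => (hu a ha x).2) (nr a) (hn a)
    obtain ⟨w, hw⟩ := exists_conj_scale (j := j) b (hn a) e
    have hx : x = algebraMap R C (w : R) * ((((Units.map (algebraMap R C).toMonoidHom w)⁻¹ : Cˣ) : C) * x) := by
      rw [← _root_.mul_assoc, show algebraMap R C (w : R) = ((Units.map (algebraMap R C).toMonoidHom w : Cˣ) : C)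
        from rfl, Units.mul_inv, _root_.one_mul]
    rw [hx, ← hw C]
    exact mul_mem (mul_mem hna (he _)) (inv_mem hna)
  have hall : ∀ c : D.idx, (∀ x : C, gp j x ≫ D.u c ∈ H) ∧
      ∀ x : C, gp j x ≫ D.u (D.P.reflectionPerm c c) ∈ H := by
    intro c
    induction c using RootPairing.Base.induction_reflect (b := b) with
    | h₀ i hi => exact ⟨hi.2, by rw [hinv]; exact hi.1⟩
    | h₁ i hi => exact ⟨fun x => (hu i hi x).1, fun x => (hu i hi x).2⟩
    | h₂ i a hi ha =>
      refine ⟨hconj a i ha hi.1, fun x => ?_⟩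
      rw [show D.P.reflectionPerm (D.P.reflectionPerm a i) (D.P.reflectionPerm a i) =
          D.P.reflectionPerm a (D.P.reflectionPerm i i) from D.P.root.injective (by
        rw [root_neg', D.P.root_reflectionPerm, D.P.root_reflectionPerm a (D.P.reflectionPerm i i), root_neg',
          map_neg])]
      exact hconj a _ ha hi.2 x
  refine ⟨fun c => (hall c).1, fun c ν hn' => ?_⟩
  rcases pos_or_neg D.P b c with hc | hc
  · exact hν b c hc (hall c).1 (hall c).2 ν hn'
  · exact hν (negBase D.P b) c (by rw [posRoots_negBase]; exact hc) (hall c).1 (hall c).2 ν hn'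

/-- A subgroup as above contains the points of the translates of the big cell. -/
theorem translate_mem (b : D.P.Base) (H : Subgroup (Sp j C ⟶ G))
    (hT : ∀ χ : Multiplicative D.M →* C, tpt D j χ ≫ D.i ∈ H)
    (hu : ∀ a ∈ b.support, ∀ x : C, gp j x ≫ D.u a ∈ H ∧ gp j x ≫ D.u (D.P.reflectionPerm a a) ∈ H)
    {nr : D.idx → (𝟙_ (Over S) ⟶ G)} (hn : ∀ a, ActsBy (nr a) a) (w : List D.idx) {n m : ℕ}
    {eneg : Fin n → D.idx} {epos : Fin m → D.idx} (hn' : Function.Injective eneg) (hm' : Function.Injective epos)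
    (t : Sp j C ⟶ cellSpace D n m) :
    t ≫ ((toUnit _ ≫ (w.map nr).prod) * RedSub.cellMap D eneg epos) ∈ H := by
  obtain ⟨hall, hνall⟩ := mem_of_simple b H hT hu
  obtain ⟨χ, y, x, e, -⟩ := exists_coords (eneg := eneg) (epos := epos) t hn' hm'
  have hroot : ∀ (L : List D.idx) (z : D.idx → C), rootProd j D.u L z ∈ H := fun L z =>
    list_prod_mem fun g hg => by
      obtain ⟨c, -, rfl⟩ := List.mem_map.1 hg
      exact hall c _
  have hword : ∀ w : List D.idx, wpt j C nr w ∈ H := fun w => by
    induction w with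
    | nil => rw [wpt_nil]; exact one_mem _
    | cons a w ih => rw [wpt_cons]; exact mul_mem (hνall a _ (hn a)) ih
  rw [MonObj.comp_mul, e, ← Category.assoc, toUnit_unique (t ≫ toUnit _) (toUnit _)]
  exact mul_mem (hword w) (mul_mem (hroot _ _) (mul_mem (hT _) (hroot _ _)))

omit [IsOpenImmersion j] in
/-- Left translates of the big cell are open. -/
theorem isOpenImmersion_translate {b : D.P.Base} {n m : ℕ} {eneg : Fin n → D.idx} {epos : Fin m → D.idx}
    (hneg : RedSub.Enumerates (RedSub.negRoots D.P b) eneg) (hpos : RedSub.Enumerates (RedSub.posRoots D.P b) epos)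
    (N : 𝟙_ (Over S) ⟶ G) : IsOpenImmersion ((toUnit _ ≫ N) * RedSub.cellMap D eneg epos).left := by
  haveI := isOpenImmersion_cellMap hneg hpos
  let L : G ⟶ G := (toUnit G ≫ N) * 𝟙 G
  have hL : ∀ {X : Over S} (g : X ⟶ G), g ≫ L = (toUnit X ≫ N) * g := fun g => by
    rw [MonObj.comp_mul, Category.comp_id, ← Category.assoc, comp_toUnit]
  let L' : G ⟶ G := (toUnit G ≫ N⁻¹) * 𝟙 G
  have hL' : ∀ {X : Over S} (g : X ⟶ G), g ≫ L' = (toUnit X ≫ N)⁻¹ * g := fun g => by
    rw [MonObj.comp_mul, Category.comp_id, ← Category.assoc, comp_toUnit, GrpObj.comp_inv]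
  haveI : IsIso L := ⟨L', by rw [hL']; simp only [L]; rw [inv_mul_cancel_left],
    by rw [hL]; simp only [L']; rw [GrpObj.comp_inv, mul_inv_cancel_left]⟩
  haveI : IsIso L.left := inferInstanceAs (IsIso ((Over.forget S).map L))
  rw [← hL, Over.comp_left]
  infer_instance

omit [IsOpenImmersion j] in
/-- Homomorphisms are determined on the torus and the simple root groups and their opposites. -/
theorem hom_eq_of_simple {H : Over S} [GrpObj H] (b : D.P.Base) (f g : G ⟶ H) [IsMonHom f] [IsMonHom g]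
    (hT : D.i ≫ f = D.i ≫ g)
    (hU : ∀ a ∈ b.support, D.u a ≫ f = D.u a ≫ g ∧
      D.u (D.P.reflectionPerm a a) ≫ f = D.u (D.P.reflectionPerm a a) ≫ g) : f = g := by
  classical
  choose nr hnr using D.refl
  have hn : ∀ a, ActsBy (nr a) a := fun a => actsBy_of_refl (hnr a)
  haveI : Finite D.idx := Finite.of_fintype _
  obtain ⟨n, eneg, hneg⟩ := exists_enum (D := D) (RedSub.negRoots D.P b)
  obtain ⟨m, epos, hpos⟩ := exists_enum (D := D) (RedSub.posRoots D.P b)
  let T : List D.idx → (cellSpace D n m ⟶ G) := fun w => (toUnit _ ≫ (w.map nr).prod) * RedSub.cellMap D eneg epos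
  haveI : ∀ w, IsOpenImmersion (T w).left := fun w => isOpenImmersion_translate hneg hpos _
  let 𝒰 : G.left.OpenCover := Scheme.Cover.mkOfCovers (List D.idx) (fun _ => (cellSpace D n m).left)
    (fun w => (T w).left) (fun x => by
      obtain ⟨w, y, hy⟩ := exists_translate hneg hpos (nr := nr) hnr x
      exact ⟨w, y, hy⟩) (fun w => ‹∀ w, IsOpenImmersion (T w).left› w)
  have key : ∀ w, T w ≫ f = T w ≫ g := fun w => hom_ext_open fun R _ j _ C _ _ t => by
    let E : Subgroup (Sp j C ⟶ G) :=
      { carrier := {p | p ≫ f = p ≫ g}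
        one_mem' := (MonObj.one_comp f).trans (MonObj.one_comp g).symm
        mul_mem' := fun {p q} hp hq => by
          simp only [Set.mem_ofPred_eq] at hp hq ⊢
          rw [MonObj.mul_comp, MonObj.mul_comp, hp, hq]
        inv_mem' := fun {p} hp => by
          simp only [Set.mem_ofPred_eq] at hp ⊢
          rw [GrpObj.inv_comp, GrpObj.inv_comp, hp] }
    have hm := translate_mem (j := j) (C := C) b E
      (fun χ => show (tpt D j χ ≫ D.i) ≫ f = _ by rw [Category.assoc, hT, ← Category.assoc])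
      (fun a ha x => ⟨show (gp j x ≫ D.u a) ≫ f = _ by rw [Category.assoc, (hU a ha).1, ← Category.assoc],
        show (gp j x ≫ D.u _) ≫ f = _ by rw [Category.assoc, (hU a ha).2, ← Category.assoc]⟩)
      hn w hneg.1 hpos.1 t
    rw [← Category.assoc, ← Category.assoc]
    exact hm
  exact Over.OverMorphism.ext (Scheme.Cover.hom_ext 𝒰 _ _ fun w => congrArg CommaMorphism.left (key w))

end Groth.L14.Chev.Cell
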