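import Groth.Agent.L14.Chev.Cell.InnerTrivial

/-!
Points of the normaliser of the torus act on it through the Weyl group.
-/

set_option autoImplicit false
universe u

open CategoryTheory CategoryTheory.Limits AlgebraicGeometry MonoidalCategory CartesianMonoidalCategory MonObj
open Groth.L14.RankOne Groth.L25 Groth.L14.Chart

set_option backward.isDefEq.respectTransparency.types false
set_option linter.style.haveILetI false
set_option linter.unusedSectionVars false
set_option maxHeartbeats 1000000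

noncomputable section

namespace Groth.L14.Chev.Cell

variable {S : Scheme.{u}} {G : Over S} [GrpObj G] {D : Red.SplitRed G}

theorem wordChar_append {C : Type u} [CommRing C] (l l' : List D.idx) (χ : Multiplicative D.M →* C) :
    wordChar (l ++ l') χ = wordChar l (wordChar l' χ) := List.foldr_append

theorem wordChar_reverse {C : Type u} [CommRing C] (l : List D.idx) (χ : Multiplicative D.M →* C) :
    wordChar l.reverse (wordChar l χ) = χ := by
  induction l generalizing χ with
  | nil => rfl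
  | cons a l ih =>
    rw [List.reverse_cons, wordChar_append,
      show wordChar (a :: l) χ = reflChar a (wordChar l χ) from rfl,
      show wordChar [a] (reflChar a (wordChar l χ)) = reflChar a (reflChar a (wordChar l χ)) from rfl,
      reflChar_reflChar, ih]

theorem wordPerm_append (l l' : List D.idx) :
    RedSub.wordPerm D.P (l ++ l') = RedSub.wordPerm D.P l * RedSub.wordPerm D.P l' := by
  simp [RedSub.wordPerm]

theorem wordPerm_reverse_mul (l : List D.idx) : RedSub.wordPerm D.P l.reverse * RedSub.wordPerm D.P l = 1 := by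
  induction l with
  | nil => simp [RedSub.wordPerm]
  | cons a l ih =>
    have e : RedSub.wordPerm D.P (a :: l) = D.P.reflectionPerm a * RedSub.wordPerm D.P l := by simp [RedSub.wordPerm]
    have e1 : RedSub.wordPerm D.P [a] = D.P.reflectionPerm a := by simp [RedSub.wordPerm]
    rw [List.reverse_cons, wordPerm_append, e1, e, _root_.mul_assoc, ← _root_.mul_assoc (D.P.reflectionPerm a),
      show D.P.reflectionPerm a * D.P.reflectionPerm a = 1 from Equiv.ext (D.P.reflectionPerm_self a), _root_.one_mul, ih]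

theorem wordChar_eq_of_perm (b : D.P.Base) {C : Type u} [CommRing C] {l l' : List D.idx}
    (h : RedSub.wordPerm D.P l = RedSub.wordPerm D.P l') (χ : Multiplicative D.M →* C) :
    wordChar l χ = wordChar l' χ := by
  have h1 : ∀ a ∈ b.support, RedSub.wordPerm D.P (l'.reverse ++ l) a = a := fun a _ => by
    rw [wordPerm_append, h, wordPerm_reverse_mul]; rfl
  have h2 := congrArg (wordChar l') (wordChar_eq_self b (l'.reverse ++ l) h1 χ)
  rw [wordChar_append] at h2
  have h3 := wordChar_reverse l'.reverse (wordChar l χ)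
  rw [List.reverse_reverse] at h3
  rwa [h3] at h2

theorem perm_eq_of_wordChar (b : D.P.Base) {K : Type u} [Field K] [IsAlgClosed K] {l l' : List D.idx}
    (h : ∀ χ : Multiplicative D.M →* K, wordChar l χ = wordChar l' χ) :
    RedSub.wordPerm D.P l = RedSub.wordPerm D.P l' := by
  apply Equiv.symm_bijective.injective
  refine Equiv.ext fun c => root_eq_of_chars (K := K) b fun χ => ?_
  rw [← wordChar_root, ← wordChar_root, h]

variable {R : Type u} [CommRing R] {j : Spec (CommRingCat.of R) ⟶ S} [IsOpenImmersion j]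
  {C : Type u} [CommRing C] [Algebra R C] {b : D.P.Base} {n m : ℕ} {eneg : Fin n → D.idx} {epos : Fin m → D.idx}
  {nr : D.idx → (𝟙_ (Over S) ⟶ G)}

omit [IsOpenImmersion j] in
/-- A point normalises the torus on all algebras. -/
def Normalises (D : Red.SplitRed G) (j : Spec (CommRingCat.of R) ⟶ S) (p : Sp j C ⟶ G) : Prop :=
  ∀ (C' : Type u) [CommRing C'] [Algebra R C'] (f : C →ₐ[R] C') (ψ : Multiplicative D.M →* C'),
    ∃ σ, (mor j f ≫ p) * (tpt D j ψ ≫ D.i) * (mor j f ≫ p)⁻¹ = tpt D j σ ≫ D.i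

omit [IsOpenImmersion j] in
theorem Normalises.comp {p : Sp j C ⟶ G} (h : Normalises D j p) {C' : Type u} [CommRing C'] [Algebra R C']
    (f : C →ₐ[R] C') : Normalises D j (mor j f ≫ p) := fun C'' _ _ g ψ => by
  rw [← Category.assoc, ← mor_comp]
  exact h C'' _ ψ

/-- A normalising point in a translate of the big cell is the word times a torus point. -/
theorem exists_torus_of_translate (hneg : RedSub.Enumerates (RedSub.negRoots D.P b) eneg)
    (hpos : RedSub.Enumerates (RedSub.posRoots D.P b) epos) (hn : ∀ a, ActsBy (nr a) a) (l : List D.idx)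
    {p : Sp j C ⟶ G} (hp : Normalises D j p) (t : Sp j C ⟶ cellSpace D n m)
    (ht : (toUnit (Sp j C) ≫ (l.map nr).prod) * (t ≫ RedSub.cellMap D eneg epos) = p) :
    ∃ χ : Multiplicative D.M →* C, p = wpt j C nr l * (tpt D j χ ≫ D.i) := by
  obtain ⟨lam, hl⟩ := hasLam b
  have hlam : ∀ c, lam (D.P.root c) ≠ 0 := fun c => (pos_or_neg D.P b c).elim (fun h => ((hl c).1 h).ne')
    fun h => ((hl c).2 h).ne
  obtain ⟨σ, hσ⟩ := hp (LaurentPolynomial C) (lauC (R := R)) (chiLam C lam)
  obtain ⟨σ', hσ'⟩ := tpt_wpt (j := j) (C := LaurentPolynomial C) hn l σ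
  rw [← ht, MonObj.comp_mul, ← Category.assoc (mor j _) (toUnit _),
    toUnit_unique (mor j (lauC (R := R) (C := C)) ≫ toUnit _) (toUnit _)] at hσ
  obtain ⟨χ, hχ⟩ := tor_of_cell_comm hneg hpos t rfl (σ := σ') hlam (by
    rw [show toUnit (Sp j (LaurentPolynomial C)) ≫ (l.map nr).prod = wpt j (LaurentPolynomial C) nr l from rfl] at hσ
    rw [mul_inv_eq_iff_eq_mul] at hσ ⊢
    refine mul_left_cancel (a := wpt j (LaurentPolynomial C) nr l) ?_
    rw [← _root_.mul_assoc (wpt j (LaurentPolynomial C) nr l) (tpt D j σ' ≫ D.i), ← hσ', _root_.mul_assoc,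
      ← hσ, _root_.mul_assoc])
  exact ⟨χ, by rw [← ht, ← hχ]; rfl⟩

theorem conj_of_torus (hn : ∀ a, ActsBy (nr a) a) {l : List D.idx} {p : Sp j C ⟶ G}
    {χ : Multiplicative D.M →* C} (h : p = wpt j C nr l * (tpt D j χ ≫ D.i)) (ψ : Multiplicative D.M →* C) :
    p * (tpt D j ψ ≫ D.i) * p⁻¹ = tpt D j (wordChar l ψ) ≫ D.i := by
  haveI := isMonHom_i (D := D)
  have hc : (tpt D j χ ≫ D.i) * (tpt D j ψ ≫ D.i) = (tpt D j ψ ≫ D.i) * (tpt D j χ ≫ D.i) := by
    rw [← MonObj.mul_comp, ← MonObj.mul_comp, ← tpt_mul, ← tpt_mul, mul_comm]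
  rw [h, mul_inv_eq_iff_eq_mul, _root_.mul_assoc, hc, ← _root_.mul_assoc, wpt_tpt hn, _root_.mul_assoc]

omit [IsOpenImmersion j] in
theorem sp_point_eq {K : Type u} [Field K] [Algebra R K] (q : (Sp j K).left) : q = IsLocalRing.closedPoint K :=
  Subsingleton.elim (α := PrimeSpectrum K) _ _

omit [IsOpenImmersion j] in
theorem wpt_comp {C' : Type u} [CommRing C'] [Algebra R C'] (f : C →ₐ[R] C') (l : List D.idx) :
    mor j f ≫ wpt j C nr l = wpt j C' nr l := by
  rw [wpt, wpt, ← Category.assoc, toUnit_unique (mor j f ≫ toUnit _) (toUnit _)]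

omit [IsOpenImmersion j] in
/-- The normaliser acts through the Weyl group on connected test schemes. -/
theorem exists_word_of_normalizer {X : Over S} [ConnectedSpace X.left] (b : D.P.Base) (g : X ⟶ G)
    (hg : ∀ (X' : Over S) (y : X' ⟶ X) (t : X' ⟶ D.T), ∃ t' : X' ⟶ D.T,
      (y ≫ g) * (t ≫ D.i) * (y ≫ g)⁻¹ = t' ≫ D.i) :
    ∃ l : List D.idx, ∀ (X' : Over S) (y : X' ⟶ X) (t : X' ⟶ D.T),
      (y ≫ g) * (t ≫ D.i) * (y ≫ g)⁻¹ =
        t ≫ D.split.hom.hom.hom ≫
          Red.DSmap S ((l.map fun a => D.P.reflection a).prod : D.M ≃ₗ[ℤ] D.M).toLinearMap.toAddMonoidHom ≫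
            D.split.inv.hom.hom ≫ D.i := by
  classical
  haveI : Finite D.idx := Finite.of_fintype _
  choose nr hnr using D.refl
  have hn : ∀ a, ActsBy (nr a) a := fun a => actsBy_of_refl (hnr a)
  obtain ⟨n, eneg, hneg⟩ := exists_enum (D := D) (RedSub.negRoots D.P b)
  obtain ⟨m, epos, hpos⟩ := exists_enum (D := D) (RedSub.posRoots D.P b)
  have hnorm : ∀ {R : Type u} [CommRing R] {j : Spec (CommRingCat.of R) ⟶ S} {C : Type u} [CommRing C] [Algebra R C]
      (t : Sp j C ⟶ X), Normalises D j (t ≫ g) := by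
    intro R _ j C _ _ t C' _ _ f ψ
    obtain ⟨t', ht'⟩ := hg _ (mor j f ≫ t) (tpt D j ψ)
    obtain ⟨σ, rfl⟩ := exists_tpt j t'
    exact ⟨σ, by rw [← Category.assoc (mor j f) t g]; exact ht'⟩
  let T : List D.idx → (cellSpace D n m ⟶ G) := fun l => (toUnit _ ≫ (l.map nr).prod) * RedSub.cellMap D eneg epos
  haveI : ∀ l, IsOpenImmersion (T l).left := fun l => isOpenImmersion_translate hneg hpos _
  let W : Equiv.Perm D.idx → Set X.left := fun σ =>
    {q | ∃ l, RedSub.wordPerm D.P l = σ ∧ g.left q ∈ Set.range (T l).left}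
  have hWopen : ∀ σ, IsOpen (W σ) := fun σ => by
    have : W σ = ⋃ l ∈ {l : List D.idx | RedSub.wordPerm D.P l = σ}, g.left ⁻¹' Set.range (T l).left := by
      ext q; simp [W]
    rw [this]
    exact isOpen_biUnion fun l _ => (T l).left.isOpenEmbedding.isOpen_range.preimage (Scheme.Hom.continuous _)
  -- at a geometric point the word is determined by the action
  have hpt : ∀ {R : Type u} [CommRing R] {j : Spec (CommRingCat.of R) ⟶ S} [IsOpenImmersion j] {K : Type u} [Field K]
      [IsAlgClosed K] [Algebra R K] (t : Sp j K ⟶ X) (l : List D.idx),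
      g.left (t.left (IsLocalRing.closedPoint K)) ∈ Set.range (T l).left →
      ∃ χ : Multiplicative D.M →* K, t ≫ g = wpt j K nr l * (tpt D j χ ≫ D.i) := by
    intro R _ j _ K _ _ _ t l hl
    have hr : Set.range (t ≫ g).left ⊆ Set.range (T l).left := by
      rintro _ ⟨q, rfl⟩
      rw [sp_point_eq q, Over.comp_left, Scheme.Hom.comp_apply]
      exact hl
    let c : Sp j K ⟶ cellSpace D n m := Over.homMk (IsOpenImmersion.lift (T l).left (t ≫ g).left hr) (by
      rw [← Over.w (T l), IsOpenImmersion.lift_fac_assoc, Over.w])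
    have hc : c ≫ T l = t ≫ g := Over.OverMorphism.ext (IsOpenImmersion.lift_fac _ _ _)
    refine exists_torus_of_translate hneg hpos hn l (hnorm t) c ?_
    rw [← hc, MonObj.comp_mul, ← Category.assoc c (toUnit _), toUnit_unique (c ≫ toUnit _) (toUnit _)]
  have hdisj : ∀ (q : X.left) σ σ', q ∈ W σ → q ∈ W σ' → σ = σ' := by
    rintro q _ _ ⟨l, rfl, hl⟩ ⟨l', rfl, hl'⟩
    obtain ⟨R, _, j, _, K, _, _, _, t, p, rfl⟩ := exists_geom_chart_through q
    rw [sp_point_eq p] at hl hl'
    obtain ⟨χ, h⟩ := hpt t l hl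
    obtain ⟨χ', h'⟩ := hpt t l' hl'
    refine perm_eq_of_wordChar (K := K) b fun ψ => tpt_injective (j := j) b ?_
    rw [← conj_of_torus hn h ψ, conj_of_torus hn h' ψ]
  have hcov : ∀ q : X.left, ∃ σ, q ∈ W σ := fun q => by
    obtain ⟨l, hl⟩ := exists_translate hneg hpos (nr := nr) hnr (g.left q)
    exact ⟨_, l, rfl, hl⟩
  obtain ⟨q₀⟩ := (inferInstance : Nonempty X.left)
  obtain ⟨_, l₀, rfl, hl₀⟩ := hcov q₀
  have hall : ∀ q, q ∈ W (RedSub.wordPerm D.P l₀) := by
    have hclosed : IsClosed (W (RedSub.wordPerm D.P l₀)) := by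
      rw [← isOpen_compl_iff, show (W (RedSub.wordPerm D.P l₀))ᶜ =
        ⋃ σ ∈ {σ | σ ≠ RedSub.wordPerm D.P l₀}, W σ by
          ext q
          simp only [Set.mem_compl_iff, Set.mem_iUnion, Set.mem_ofPred_eq, exists_prop]
          exact ⟨fun h => (hcov q).imp fun σ hσ => ⟨fun e => h (e ▸ hσ), hσ⟩,
            fun ⟨σ, hne, hσ⟩ h => hne (hdisj q σ _ hσ h)⟩]
      exact isOpen_biUnion fun σ _ => hWopen σ
    have := IsClopen.eq_univ ⟨hclosed, hWopen _⟩ ⟨q₀, l₀, rfl, hl₀⟩
    exact fun q => this ▸ Set.mem_univ q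
  refine ⟨l₀.reverse, fun X' y t => hom_ext_open fun R _ j _ C _ _ s => ?_⟩
  haveI := isMonHom_i (D := D)
  simp only [MonObj.comp_mul, GrpObj.comp_inv, ← Category.assoc]
  obtain ⟨ψ, hψ⟩ := exists_tpt (D := D) j (s ≫ t)
  rw [← hψ]
  have hW : (tpt D j ψ ≫ D.split.hom.hom.hom) ≫
      Red.DSmap S ((l₀.reverse.map fun a => D.P.reflection a).prod : D.M ≃ₗ[ℤ] D.M).toLinearMap.toAddMonoidHom ≫
        D.split.inv.hom.hom = tpt D j (wordChar l₀ ψ) := by
    rw [tpt_hom, tpt, ← Category.assoc]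
    congr 1
    refine DSPts.char_injective (MonoidHom.ext fun k => ?_)
    rw [SplitSub.char_DSmap, DSPts.char_pt, DSPts.char_pt]
    refine congrArg (Scheme.ΓSpecIso (CommRingCat.of C)).inv ?_
    obtain ⟨k, rfl⟩ := Multiplicative.ofAdd.surjective k
    show ψ (Multiplicative.ofAdd (((l₀.reverse.map fun a => D.P.reflection a).prod : D.M ≃ₗ[ℤ] D.M) k)) = _
    clear hall hl₀
    induction l₀ generalizing k with
    | nil => rfl
    | cons a l ih =>
      show _ = wordChar l ψ (Multiplicative.ofAdd (D.P.reflection a k))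
      rw [← ih, List.reverse_cons, List.map_append, List.prod_append, List.map_singleton, List.prod_singleton]
      rfl
  simp only [Category.assoc] at hW ⊢
  rw [reassoc_of% hW, ← Category.assoc s y g]
  -- the point is the word times a torus point
  obtain ⟨c, hc⟩ : ∃ c, c = (wpt j C nr l₀)⁻¹ * ((s ≫ y) ≫ g) := ⟨_, rfl⟩
  have hcell : ∀ (K : Type u) [Field K] [IsAlgClosed K] [Algebra R K] (f : C →ₐ[R] K),
      ∃ t' : Sp j K ⟶ cellSpace D n m, t' ≫ RedSub.cellMap D eneg epos = mor j f ≫ c := by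
    intro K _ _ _ f
    haveI : ∀ c, IsMonHom (D.u c) := fun c => (D.rootHom c).1
    obtain ⟨l, hlp, hl⟩ := hall ((mor j f ≫ s ≫ y).left (IsLocalRing.closedPoint K))
    obtain ⟨χ, hχ⟩ := hpt (mor j f ≫ s ≫ y) l hl
    obtain ⟨lam, hl', hlpr⟩ := exists_lam_prim b
    obtain ⟨τ, hτ⟩ := torus_of_fixed hneg hpos hl' hlpr ((wpt j K nr l₀)⁻¹ * wpt j K nr l) fun C' _ _ f' u => by
      rw [MonObj.comp_mul, GrpObj.comp_inv, wpt_comp, wpt_comp, conjT, mul_inv_eq_iff_eq_mul]
      have h2 := wpt_tpt (j := j) (C := C') hn l₀ (unitChar lam u)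
      have h3 := wpt_tpt (j := j) (C := C') hn l (unitChar lam u)
      rw [wordChar_eq_of_perm b hlp] at h3
      generalize tpt D j (unitChar lam u) ≫ D.i = T1 at h2 h3 ⊢
      generalize tpt D j (wordChar l₀ (unitChar lam u)) ≫ D.i = T2 at h2 h3 ⊢
      generalize wpt j C' nr l₀ = A at h2 ⊢
      generalize wpt j C' nr l = B at h3 ⊢
      rw [_root_.mul_assoc A⁻¹ B T1, h3, ← _root_.mul_assoc, ← _root_.mul_assoc]
      congr 1
      rw [eq_inv_mul_iff_mul_eq, ← _root_.mul_assoc, h2, mul_inv_cancel_right]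
    refine ⟨lift (tup n fun k => gp j ((0 : D.idx → K) (eneg k)))
      (lift (tpt D j (τ * χ)) (tup m fun k => gp j ((0 : D.idx → K) (epos k)))), ?_⟩
    rw [lift_cellMap, rootProd_eq_one j (x := (0 : D.idx → K)) fun _ _ => rfl,
      rootProd_eq_one j (x := (0 : D.idx → K)) fun _ _ => rfl, _root_.one_mul, _root_.mul_one, tpt_mul,
      MonObj.mul_comp, hτ, hc, MonObj.comp_mul, GrpObj.comp_inv, wpt_comp, ← Category.assoc (mor j f), hχ]
    group
  obtain ⟨t', ht'⟩ := exists_cell_of_geom hneg hpos c hcell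
  obtain ⟨χ, hχ⟩ := exists_torus_of_translate hneg hpos hn l₀ (hnorm (s ≫ y)) t' (by
    rw [ht', hc]
    exact mul_inv_cancel_left _ _)
  exact conj_of_torus hn hχ ψ

end Groth.L14.Chev.Cell
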