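import Groth.Agent.L14.Chev.Cell.Reduced
import Groth.Agent.L25.ParabolicSet

/-!
The opposite base, and simple reflections permute the other positive roots.
-/

set_option autoImplicit false
universe u

open CategoryTheory AlgebraicGeometry

set_option backward.isDefEq.respectTransparency.types false
set_option linter.style.haveILetI false
set_option linter.unusedSectionVars false

noncomputable section

namespace Groth.L14.Chev.Cell

variable {κ M N : Type} [Finite κ] [AddCommGroup M] [AddCommGroup N] [Module.Free ℤ M] [Module.Free ℤ N]
  (P : RootPairing κ ℤ M N) (b : P.Base)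

include b in
theorem isReduced : P.IsReduced := ⟨fun i k h => by
  have hne : ¬ ∀ s t : ℤ, s • P.root i + t • P.root k = 0 → s = 0 ∧ t = 0 := fun hh =>
    h (LinearIndependent.pair_iff.2 hh)
  push Not at hne
  obtain ⟨s, t, e, hst⟩ := hne
  by_cases hs : s = 0
  · subst hs
    haveI : IsAddTorsionFree M := .of_isTorsionFree ℤ _
    rw [zero_smul, zero_add, smul_eq_zero] at e
    exact absurd (e.resolve_right (P.ne_zero k)) (hst rfl)
  · have e' : s • P.root i = (-t) • P.root k := by rw [neg_smul]; exact eq_neg_of_add_eq_zero_left e
    rcases eq_or_neg_of_dep P b hs e' with h1 | h1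
    · exact Or.inl (congrArg P.root h1)
    · exact Or.inr h1⟩

theorem root_neg' (c : κ) : P.root (P.reflectionPerm c c) = -P.root c := Groth.L24.RootD.root_neg c

theorem coroot_neg' (c : κ) : P.coroot (P.reflectionPerm c c) = -P.coroot c := by
  rw [P.coroot_reflectionPerm, RootPairing.coreflection_apply_self]

open Classical in
/-- The base of the negative roots. -/
def negBase : P.Base where
  support := b.support.image fun c => P.reflectionPerm c c
  linearIndepOn_root := by
    rw [Finset.coe_image, linearIndepOn_iff_image (P.root.injective.injOn), ← Set.image_comp]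
    have e : (P.root ∘ fun c => P.reflectionPerm c c : κ → M) = (LinearEquiv.neg ℤ) ∘ P.root :=
      funext fun i => root_neg' P i
    rw [e, Set.image_comp]
    exact ((linearIndepOn_iff_image P.root.injective.injOn).1 b.linearIndepOn_root).image
      (f := (LinearEquiv.neg ℤ (M := M)).toLinearMap) (by simp)
  linearIndepOn_coroot := by
    rw [Finset.coe_image, linearIndepOn_iff_image (P.coroot.injective.injOn), ← Set.image_comp]
    have e : (P.coroot ∘ fun c => P.reflectionPerm c c : κ → N) = (LinearEquiv.neg ℤ) ∘ P.coroot :=
      funext fun i => coroot_neg' P i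
    rw [e, Set.image_comp]
    exact ((linearIndepOn_iff_image P.coroot.injective.injOn).1 b.linearIndepOn_coroot).image
      (f := (LinearEquiv.neg ℤ (M := N)).toLinearMap) (by simp)
  root_mem_or_neg_mem i := by
    have key : P.root '' ((b.support.image fun c => P.reflectionPerm c c : Finset κ) : Set κ) =
        -(P.root '' (b.support : Set κ)) := by
      rw [Finset.coe_image, ← Set.image_comp, ← Set.image_neg_eq_neg, ← Set.image_comp]
      exact Set.image_congr fun c _ => root_neg' P c
    simp only [key, AddSubmonoid.closure_neg, AddSubmonoid.mem_neg, neg_neg]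
    exact (b.root_mem_or_neg_mem i).symm
  coroot_mem_or_neg_mem i := by
    have key : P.coroot '' ((b.support.image fun c => P.reflectionPerm c c : Finset κ) : Set κ) =
        -(P.coroot '' (b.support : Set κ)) := by
      rw [Finset.coe_image, ← Set.image_comp, ← Set.image_neg_eq_neg, ← Set.image_comp]
      exact Set.image_congr fun c _ => coroot_neg' P c
    simp only [key, AddSubmonoid.closure_neg, AddSubmonoid.mem_neg, neg_neg]
    exact (b.coroot_mem_or_neg_mem i).symm

theorem mem_negBase_support {c : κ} :
    c ∈ (negBase P b).support ↔ P.reflectionPerm c c ∈ b.support := by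
  classical
  have hinv : ∀ d : κ, P.reflectionPerm (P.reflectionPerm d d) (P.reflectionPerm d d) = d := fun d =>
    P.root.injective (by rw [root_neg', root_neg', neg_neg])
  refine ⟨fun h => ?_, fun h => ?_⟩
  · obtain ⟨d, hd, rfl⟩ := Finset.mem_image.1 h
    rwa [hinv]
  · exact Finset.mem_image.2 ⟨_, h, hinv c⟩

theorem posRoots_negBase : RedSub.posRoots P (negBase P b) = RedSub.negRoots P b := by
  classical
  ext c
  show P.root c ∈ AddSubmonoid.closure (P.root '' ((b.support.image fun d => P.reflectionPerm d d : Finset κ) : Set κ))
    ↔ -P.root c ∈ AddSubmonoid.closure (P.root '' (b.support : Set κ))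
  have key : P.root '' ((b.support.image fun c => P.reflectionPerm c c : Finset κ) : Set κ) =
      -(P.root '' (b.support : Set κ)) := by
    rw [Finset.coe_image, ← Set.image_comp, ← Set.image_neg_eq_neg, ← Set.image_comp]
    exact Set.image_congr fun c _ => root_neg' P c
  rw [key, AddSubmonoid.closure_neg, AddSubmonoid.mem_neg]

theorem negRoots_negBase : RedSub.negRoots P (negBase P b) = RedSub.posRoots P b := by
  ext c
  show -P.root c ∈ AddSubmonoid.closure _ ↔ _
  have h := congrArg (fun s => P.reflectionPerm c c ∈ s) (posRoots_negBase P b)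
  simp only [RedSub.posRoots, RedSub.negRoots, Set.mem_setOf_eq, root_neg', neg_neg] at h ⊢
  rw [h]

/-- A simple reflection permutes the other positive roots. -/
theorem refl_simple_pos {a c : κ} (ha : a ∈ b.support) (hc : c ∈ RedSub.posRoots P b) (hac : c ≠ a) :
    P.reflectionPerm a c ∈ RedSub.posRoots P b := by
  haveI := isReduced P b
  haveI := Chart.RootCombo.isCrystallographic P
  rw [← Groth.L25.ParabolicSet.isPos_iff_mem] at hc ⊢
  exact hc.reflectionPerm ha hac

theorem simple_pos {a : κ} (ha : a ∈ b.support) : a ∈ RedSub.posRoots P b :=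
  AddSubmonoid.subset_closure ⟨a, ha, rfl⟩

end Groth.L14.Chev.Cell
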