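import Groth.Agent.L14.Chev.Cell.Limit
import Groth.Agent.L08.SubgroupObj

/-!
The torus times the positive root groups is a closed subgroup.
-/

set_option autoImplicit false
universe u

open CategoryTheory CategoryTheory.Limits AlgebraicGeometry MonoidalCategory CartesianMonoidalCategory MonObj
open Groth.L14.RankOne Groth.L25 Groth.L14.Chart
open Polynomial (toLaurent X)
open LaurentPolynomial (T)

set_option backward.isDefEq.respectTransparency.types false
set_option linter.style.haveILetI false
set_option linter.unusedSectionVars false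
set_option maxHeartbeats 1000000

noncomputable section

namespace Groth.L14.Chev.Cell

variable {S : Scheme.{u}}

/-- A morphism of affine schemes over the base which is surjective on coordinate rings is a closed immersion. -/
theorem isClosedImmersion_of_crdMap {X Y : Over S} [IsAffineHom X.hom] [IsAffineHom Y.hom] (f : X ⟶ Y)
    (h : ∀ (R : Type u) [CommRing R] (j : Spec (CommRingCat.of R) ⟶ S) [IsOpenImmersion j],
      Function.Surjective (crdMap f j)) : IsClosedImmersion f.left := by
  refine IsZariskiLocalAtTarget.of_openCover (P := @IsClosedImmersion) (S.affineOpenCover.openCover.pullback₁ Y.hom)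
    fun i => ?_
  haveI := S.affineOpenCover.map_prop i
  have key : ∀ (R : Type u) [CommRing R] (j : Spec (CommRingCat.of R) ⟶ S), Function.Surjective (crdMap f j) →
      IsClosedImmersion (pullback.snd f.left (pullback.fst Y.hom j)) := by
    intro R _ j hs
    let φ := Spec.map (CommRingCat.ofHom (crdMap f j).toRingHom)
    have hφ : IsClosedImmersion φ := IsClosedImmersion.spec_of_surjective _ hs
    let g : pullback X.hom j ⟶ pullback Y.hom j :=
      (pullback X.hom j).isoSpec.hom ≫ φ ≫ (pullback Y.hom j).isoSpec.inv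
    have h1 : g ≫ pullback.fst Y.hom j = pullback.fst X.hom j ≫ f.left := by
      simp only [g, φ, Category.assoc]
      rw [crdMap_spec, Iso.hom_inv_id_assoc]
    have hY : (pullback Y.hom j).isoSpec.inv ≫ pullback.snd Y.hom j =
        Spec.map (CommRingCat.ofHom (algebraMap R (Crd j Y))) := by
      rw [Iso.inv_comp_eq, specMap_algebraMap_crd]
    have h2 : g ≫ pullback.snd Y.hom j = pullback.snd X.hom j := by
      simp only [g, φ, Category.assoc]
      rw [hY, ← Spec.map_comp, ← CommRingCat.ofHom_comp, AlgHom.toRingHom_eq_coe, AlgHom.comp_algebraMap,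
        specMap_algebraMap_crd]
    have hg : IsClosedImmersion g := by
      show IsClosedImmersion ((pullback X.hom j).isoSpec.hom ≫ φ ≫ (pullback Y.hom j).isoSpec.inv)
      rw [MorphismProperty.cancel_left_of_respectsIso @IsClosedImmersion,
        MorphismProperty.cancel_right_of_respectsIso @IsClosedImmersion]
      exact hφ
    have hpb : IsPullback (pullback.fst X.hom j) g f.left (pullback.fst Y.hom j) := by
      refine IsPullback.of_bot ?_ h1.symm (IsPullback.of_hasPullback Y.hom j)
      rw [h2, Over.w f]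
      exact IsPullback.of_hasPullback X.hom j
    rw [← IsPullback.isoPullback_inv_snd hpb, MorphismProperty.cancel_left_of_respectsIso @IsClosedImmersion]
    exact hg
  exact key (S.affineOpenCover.X i) (S.affineOpenCover.f i)
    (@h (S.affineOpenCover.X i) _ (S.affineOpenCover.f i) (S.affineOpenCover.map_prop i))

/-- A morphism factors through a monomorphism as soon as its restrictions to affine opens of the base do. -/
theorem exists_lift_of_univ {Z B G : Over S} [IsAffineHom Z.hom] (i : B ⟶ G) [Mono i] (f : Z ⟶ G)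
    (h : ∀ (R : Type u) [CommRing R] (j : Spec (CommRingCat.of R) ⟶ S) [IsOpenImmersion j],
      ∃ t : Sp j (Crd j Z) ⟶ B, t ≫ i = univ j Z ≫ f) : ∃ w : Z ⟶ B, w ≫ i = f := by
  let p := pullback.fst f.left i.left
  haveI : IsIso p := by
    refine IsZariskiLocalAtTarget.of_openCover (P := MorphismProperty.isomorphisms Scheme)
      (S.affineOpenCover.openCover.pullback₁ Z.hom) fun k => ?_
    haveI := S.affineOpenCover.map_prop k
    have key : ∀ (R : Type u) [CommRing R] (j : Spec (CommRingCat.of R) ⟶ S),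
        (∃ t : Sp j (Crd j Z) ⟶ B, t ≫ i = univ j Z ≫ f) → IsIso (pullback.snd p (pullback.fst Z.hom j)) := by
      intro R _ j ⟨t, ht⟩
      have hu : (pullback Z.hom j).isoSpec.hom ≫ t.left ≫ i.left = pullback.fst Z.hom j ≫ f.left := by
        have := congrArg CommaMorphism.left ht
        simp only [Over.comp_left] at this
        rw [this]
        show (pullback Z.hom j).isoSpec.hom ≫ ((pullback Z.hom j).isoSpec.inv ≫ pullback.fst Z.hom j) ≫ f.left = _
        rw [Category.assoc, Iso.hom_inv_id_assoc]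
      let s : pullback Z.hom j ⟶ pullback f.left i.left :=
        pullback.lift (pullback.fst Z.hom j) ((pullback Z.hom j).isoSpec.hom ≫ t.left) (by
          rw [Category.assoc, hu])
      let sec : pullback Z.hom j ⟶ pullback p (pullback.fst Z.hom j) :=
        pullback.lift s (𝟙 _) (by rw [Category.id_comp]; exact pullback.lift_fst _ _ _)
      haveI : IsSplitEpi (pullback.snd p (pullback.fst Z.hom j)) := ⟨⟨⟨sec, pullback.lift_snd _ _ _⟩⟩⟩
      exact isIso_of_mono_of_isSplitEpi _
    exact key (S.affineOpenCover.X k) (S.affineOpenCover.f k)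
      (@h (S.affineOpenCover.X k) _ (S.affineOpenCover.f k) (S.affineOpenCover.map_prop k))
  refine ⟨Over.homMk (inv p ≫ pullback.snd f.left i.left) ?_, Over.OverMorphism.ext ?_⟩
  · rw [Category.assoc, ← Over.w i, ← pullback.condition_assoc, Over.w f, IsIso.inv_hom_id_assoc]
  · simp only [Over.comp_left, Over.homMk_left, Category.assoc]
    rw [← pullback.condition, IsIso.inv_hom_id_assoc]

variable {G : Over S} [GrpObj G] {D : Red.SplitRed G} {b : D.P.Base} {m : ℕ} {epos : Fin m → D.idx}
  {R : Type u} [CommRing R] {j : Spec (CommRingCat.of R) ⟶ S} {C : Type u} [CommRing C] [Algebra R C]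

theorem exists_borel_coords (t : Sp j C ⟶ D.T ⊗ RedSub.pow (Red.Ga S) m) (hm : Function.Injective epos) :
    ∃ (χ : Multiplicative D.M →* C) (z : D.idx → C),
      t ≫ RedSub.borelMap D epos = (tpt D j χ ≫ D.i) * rootProd j D.u (List.ofFn epos) z ∧
      t = lift (tpt D j χ) (tup m fun k => gp j (z (epos k))) := by
  obtain ⟨χ, hχ⟩ := exists_tpt j (t ≫ fst _ _)
  refine ⟨χ, coordsOf epos fun k => gv ((t ≫ snd _ _) ≫ proj _ m k), ?_, ?_⟩
  · rw [comp_borelMap, hχ, ofFn_prod_eq_rootProd j hm]
  · simp only [coordsOf_apply hm, gp_gv, tup_eta, hχ]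
    ext1
    · rw [lift_fst]
    · rw [lift_snd]

theorem lift_borelMap (χ : Multiplicative D.M →* C) (z : D.idx → C) :
    lift (tpt D j χ) (tup m fun k => gp j (z (epos k))) ≫ RedSub.borelMap D epos =
      (tpt D j χ ≫ D.i) * rootProd j D.u (List.ofFn epos) z := by
  rw [comp_borelMap, rootProd_ofFn]
  simp only [lift_fst, lift_snd, tup_proj]

theorem exists_enum (s : Set D.idx) : ∃ (k : ℕ) (e : Fin k → D.idx), RedSub.Enumerates s e := by
  classical
  refine ⟨_, fun k => ((Fintype.equivFin {c // c ∈ s}).symm k).1,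
    Subtype.val_injective.comp (Equiv.injective _), Set.ext fun c => ⟨?_, fun hc => ?_⟩⟩
  · rintro ⟨k, rfl⟩
    exact ((Fintype.equivFin {c // c ∈ s}).symm k).2
  · exact ⟨Fintype.equivFin {c // c ∈ s} ⟨c, hc⟩, by simp⟩

variable [IsOpenImmersion j] (hpos : RedSub.Enumerates (RedSub.posRoots D.P b) epos)

include hpos in
theorem borelMap_injective {t t' : Sp j C ⟶ D.T ⊗ RedSub.pow (Red.Ga S) m}
    (h : t ≫ RedSub.borelMap D epos = t' ≫ RedSub.borelMap D epos) : t = t' := by
  obtain ⟨lam, hl⟩ := hasLam b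
  obtain ⟨χ, z, e, et⟩ := exists_borel_coords t hpos.1
  obtain ⟨χ', z', e', et'⟩ := exists_borel_coords t' hpos.1
  rw [e, e'] at h
  obtain ⟨rfl, -, hz⟩ := cell_injective D.rootHom (mu := lam) (lneg := []) List.nodup_nil (nodup_list hpos)
    (fun c hc => absurd hc (List.not_mem_nil)) (fun c hc => (hl c).1 ((mem_list_iff hpos c).1 hc))
    (y := (0 : D.idx → C)) (y' := (0 : D.idx → C)) (congrArg (rootProd j D.u [] (0 : D.idx → C) * ·) h)
  rw [et, et', show (fun k => gp j (z (epos k))) = fun k => gp j (z' (epos k)) from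
      funext fun k => congrArg (gp j) (hz _ ((mem_list_iff hpos _).2 (hpos.2 ▸ Set.mem_range_self k)))]

include hpos in
theorem attracted_borel {lam : D.M →+ ℤ}
    (hl : ∀ c : D.idx, (c ∈ RedSub.posRoots D.P b → 0 < lam (D.P.root c)) ∧
      (c ∈ RedSub.negRoots D.P b → lam (D.P.root c) < 0)) (χ : Multiplicative D.M →* C) (z : D.idx → C) :
    Attracted j lam ((tpt D j χ ≫ D.i) * rootProd j D.u (List.ofFn epos) z)
      ((mor j polC ≫ tpt D j χ ≫ D.i) * rootProd j D.u (List.ofFn epos) (grade lam z)) := by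
  haveI : ∀ c, IsMonHom (D.u c) := fun c => (D.rootHom c).1
  have hconj := conjT_cell (j := j) (D := D) (chiLam C lam) (((lauC (R := R) (C := C)) : C →* LaurentPolynomial C).comp χ)
    [] (List.ofFn epos) (0 : D.idx → LaurentPolynomial C) (fun c => lauC (R := R) (z c))
  have h0 : ∀ y : D.idx → LaurentPolynomial C, rootProd j D.u [] y = 1 := fun y => rfl
  rw [h0, h0, _root_.one_mul, _root_.one_mul] at hconj
  rw [Attracted]
  simp only [MonObj.comp_mul, mor_rootProd]
  rw [← Category.assoc (mor j (lauC (R := R))), mor_tpt, hconj, reassoc_of% (mor_polC_tpt j χ).symm, ← mor_tpt, Category.assoc]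
  congr 1
  unfold rootProd
  refine congrArg List.prod (List.map_congr_left fun c hc => ?_)
  beta_reduce
  rw [toLau_grade, Int.natAbs_of_nonneg ((hl c).1 ((mem_list_iff hpos c).1 hc)).le]
  exact congrArg (fun a => gp j a ≫ D.u c) (mul_comm _ _)

theorem exists_toLaurent {p : LaurentPolynomial C} (h : ∀ k : ℤ, k < 0 → p.coeff k = 0) :
    ∃ q : Polynomial C, toLaurent q = p := by
  classical
  obtain ⟨N, q, hq⟩ := LaurentPolynomial.exists_T_pow p
  have hdvd : X ^ N ∣ q := by
    rw [Polynomial.X_pow_dvd_iff]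
    intro d hd
    have h1 : (toLaurent q).coeff (d : ℤ) = q.coeff d := by
      rw [Polynomial.toLaurent_apply]
      exact Finsupp.mapDomain_apply Nat.cast_injective _ d
    have h2 := h ((d : ℤ) - N) (by omega)
    rw [← h1, hq]
    show (p * AddMonoidAlgebra.single (N : ℤ) 1).coeff (d : ℤ) = 0
    rw [AddMonoidAlgebra.coeff_mul_single_eq_coeff_mul (m₂ := (d : ℤ) - N) (fun a _ => ⟨fun e => by omega, fun e => by omega⟩),
      h2, zero_mul]
  obtain ⟨q', rfl⟩ := hdvd
  refine ⟨q', ?_⟩
  rw [map_mul, Polynomial.toLaurent_X_pow, mul_comm] at hq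
  exact (LaurentPolynomial.isUnit_T (N : ℤ)).mul_right_cancel hq

variable (b) in
include hpos in
theorem surjective_crdMap_borel [IsAffineHom G.hom] [IsAffineHom (D.T ⊗ RedSub.pow (Red.Ga S) m).hom] :
    Function.Surjective (crdMap (RedSub.borelMap D epos) j) := by
  classical
  obtain ⟨lam, hl, hlam⟩ := exists_lam_prim (D := D) b
  obtain ⟨n, eneg, hneg⟩ := exists_enum (D := D) (RedSub.negRoots D.P b)
  let A := Crd j G
  let ψ := crdMap (RedSub.borelMap D epos) j
  let φ : A →ₐ[R] LaurentPolynomial A :=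
    ptEquiv.symm (conjT D j (chiLam A lam) (mor j (lauC (R := R)) ≫ univ j G))
  let I : Ideal A := Ideal.span {x | ∃ a : A, ∃ k : ℤ, k < 0 ∧ (φ a).coeff k = x}
  let q : A →ₐ[R] A ⧸ I := Ideal.Quotient.mkₐ R I
  let u₁ : ∀ (C' : Type u) [CommRing C'], (LaurentPolynomial C')ˣ := fun C' _ =>
    (LaurentPolynomial.isUnit_T (R := C') 1).unit
  have lauMap : ∀ (C' : Type u) [CommRing C'] [Algebra R C'] (g : A →ₐ[R] C'),
      ∃ g' : LaurentPolynomial A →ₐ[R] LaurentPolynomial C',
        g'.comp φ = ptEquiv.symm (conjT D j (chiLam C' lam) (mor j (lauC (R := R)) ≫ mor j g ≫ univ j G)) ∧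
        ∀ p k, (g' p).coeff k = g (p.coeff k) := by
    intro C' _ _ g
    let g' := lauEval ((lauC (R := R) (C := C')).comp g) (u₁ C')
    have hTn : ∀ k : ℤ, ((u₁ C' ^ k : (LaurentPolynomial C')ˣ) : LaurentPolynomial C') = T k := fun k => by
      obtain ⟨i, hk | hk⟩ := Int.eq_nat_or_neg k
      · rw [hk, zpow_natCast, Units.val_pow_eq_pow_val]
        show T 1 ^ i = _
        rw [LaurentPolynomial.T_pow, _root_.mul_one]
      · rw [hk, zpow_neg, zpow_natCast]
        refine Units.inv_eq_of_mul_eq_one_right ?_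
        rw [Units.val_pow_eq_pow_val]
        show T 1 ^ i * T (-(i : ℤ)) = 1
        rw [LaurentPolynomial.T_pow, _root_.mul_one, ← LaurentPolynomial.T_add, add_neg_cancel, LaurentPolynomial.T_zero]
    refine ⟨g', ?_, fun p k => ?_⟩
    · rw [show φ = _ from rfl, ← ptEquiv_symm_comp, mor_conjT, ← Category.assoc (mor j g'), ← mor_comp,
        lauEval_lauC, mor_comp, Category.assoc, lauEval_chiLam]
      congr 2
      exact MonoidHom.ext fun x => hTn _
    · induction p using LaurentPolynomial.induction_on' with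
      | add p p' hp hp' =>
        rw [map_add, AddMonoidAlgebra.coeff_add, Finsupp.add_apply, hp, hp', AddMonoidAlgebra.coeff_add,
          Finsupp.add_apply, map_add]
      | C_mul_T i a =>
        have : g' (LaurentPolynomial.C a * T i) = LaurentPolynomial.C (g a) * T i := by
          show LaurentPolynomial.eval₂ _ _ _ = _
          rw [LaurentPolynomial.eval₂_C_mul_T, hTn]
          rfl
        rw [this, ← LaurentPolynomial.single_eq_C_mul_T, ← LaurentPolynomial.single_eq_C_mul_T,
          AddMonoidAlgebra.coeff_single, AddMonoidAlgebra.coeff_single, Finsupp.single_apply, Finsupp.single_apply,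
          apply_ite g, map_zero]
  -- the quotient point has a limit
  obtain ⟨q', hq', hq'c⟩ := lauMap (A ⧸ I) q
  have hrange : ∀ a, q'.comp φ a ∈ (toLau (R := R) (C := A ⧸ I)).range := fun a => by
    refine (AlgHom.mem_range _).2 (exists_toLaurent fun k hk => ?_)
    rw [AlgHom.comp_apply, hq'c]
    exact Ideal.Quotient.eq_zero_iff_mem.2 (Ideal.subset_span ⟨a, k, hk, rfl⟩)
  let γa : A →ₐ[R] Polynomial (A ⧸ I) :=
    ((AlgEquiv.ofInjective _ (toLau_injective (R := R) (C := A ⧸ I))).symm : _ →ₐ[R] _).comp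
      ((q'.comp φ).codRestrict _ hrange)
  have hγ : Attracted j lam (mor j q ≫ univ j G) (ptEquiv γa) := by
    refine ptEquiv.symm.injective ?_
    rw [ptEquiv_symm_comp, Equiv.symm_apply_apply, ← hq']
    refine AlgHom.ext fun a => ?_
    have := (AlgEquiv.ofInjective _ (toLau_injective (R := R) (C := A ⧸ I))).apply_symm_apply
      ((q'.comp φ).codRestrict _ hrange a)
    exact congrArg Subtype.val this
  obtain ⟨χ, z, hp⟩ := borel_of_attracted hneg hpos hl hlam hγ
  let f : Crd j (D.T ⊗ RedSub.pow (Red.Ga S) m) →ₐ[R] A ⧸ I :=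
    ptEquiv.symm (lift (tpt D j χ) (tup m fun k => gp j (z (epos k))))
  have hf : f.comp ψ = q := ptEquiv.injective (by
    rw [ptEquiv_comp_crdMap, Equiv.apply_symm_apply, lift_borelMap, ← hp, ptEquiv_apply])
  -- the universal point of the Borel subgroup has a limit
  have hI : ∀ x ∈ I, ψ x = 0 := by
    obtain ⟨ψ', hψ', hψc⟩ := lauMap _ ψ
    obtain ⟨χb, zb, eb, -⟩ := exists_borel_coords (D := D) (univ j (D.T ⊗ RedSub.pow (Red.Ga S) m)) hpos.1
    have hb : mor j ψ ≫ univ j G = univ j _ ≫ RedSub.borelMap D epos := ptEquiv.apply_symm_apply _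
    have hat := attracted_borel (j := j) hpos hl χb zb
    rw [← eb, ← hb, Attracted] at hat
    rw [← hat, ptEquiv_symm_comp] at hψ'
    intro x hx
    refine (Ideal.span_le (I := RingHom.ker ψ)).2 ?_ hx
    rintro _ ⟨a, k, hk, rfl⟩
    show ψ ((φ a).coeff k) = 0
    rw [← hψc, ← AlgHom.comp_apply, hψ']
    show (toLaurent _).coeff k = 0
    rw [Polynomial.toLaurent_apply]
    refine Finsupp.mapDomain_of_notMem_range _ _ ?_
    rintro ⟨d, hd⟩
    change (d : ℤ) = k at hd
    omega
  let ψb : A ⧸ I →ₐ[R] Crd j (D.T ⊗ RedSub.pow (Red.Ga S) m) := Ideal.Quotient.liftₐ I ψ hI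
  have hid : ψb.comp f = AlgHom.id R _ := ptEquiv.injective (borelMap_injective hpos (by
    rw [← ptEquiv_comp_crdMap, ← ptEquiv_comp_crdMap, AlgHom.comp_assoc, hf, AlgHom.id_comp]
    exact congrArg ptEquiv (AlgHom.ext fun a => rfl)))
  intro y
  obtain ⟨a, ha⟩ := Ideal.Quotient.mk_surjective (f y)
  refine ⟨a, ?_⟩
  have := DFunLike.congr_fun hid y
  rw [AlgHom.comp_apply, ← ha] at this
  exact this

end Groth.L14.Chev.Cell
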