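import Groth.Agent.L14.Chev.Cell.Weight
import Groth.Agent.L14.Chev.Cell.Borel

/-!
Points realising reflections permute the root groups.
-/

set_option autoImplicit false
universe u

open CategoryTheory CategoryTheory.Limits AlgebraicGeometry MonoidalCategory CartesianMonoidalCategory MonObj
open Groth.L14.RankOne Groth.L25 Groth.L14.Chart

set_option backward.isDefEq.respectTransparency.types false
set_option linter.style.haveILetI false
set_option linter.unusedSectionVars false

noncomputable section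

namespace Groth.L14.Chev.Cell

variable {S : Scheme.{u}} {G : Over S} [GrpObj G] {D : Red.SplitRed G}

theorem tpt_refl {R : Type u} [CommRing R] (j : Spec (CommRingCat.of R) ⟶ S) {C : Type u} [CommRing C] [Algebra R C]
    (a : D.idx) (χ : Multiplicative D.M →* C) :
    tpt D j χ ≫ D.split.hom.hom.hom ≫ Red.DSmap S (D.P.reflection a).toLinearMap.toAddMonoidHom ≫
        D.split.inv.hom.hom = tpt D j (reflChar a χ) := by
  rw [← Category.assoc, tpt_hom, tpt, ← Category.assoc]
  congr 1
  refine DSPts.char_injective (MonoidHom.ext fun x => ?_)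
  rw [SplitSub.char_DSmap, DSPts.char_pt, DSPts.char_pt]
  rfl

theorem actsBy_of_refl {n : 𝟙_ (Over S) ⟶ G} {a : D.idx}
    (h : ∀ (X : Over S) (t : X ⟶ D.T), (toUnit X ≫ n) * (t ≫ D.i) * (toUnit X ≫ n)⁻¹ =
      t ≫ D.split.hom.hom.hom ≫ Red.DSmap S (D.P.reflection a).toLinearMap.toAddMonoidHom ≫
        D.split.inv.hom.hom ≫ D.i) : ActsBy n a := fun R _ j _ C _ _ χ => by
  rw [h _ (tpt D j χ), ← tpt_refl j a χ]
  simp only [Category.assoc]

theorem actsBy_inv {n : 𝟙_ (Over S) ⟶ G} {a : D.idx} (h : ActsBy n a) : ActsBy n⁻¹ a := fun R _ j _ C _ _ χ => by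
  have h1 := h R j C (reflChar a χ)
  rw [reflChar_reflChar] at h1
  rw [GrpObj.comp_inv, _root_.inv_inv, ← h1]
  group

variable (b : D.P.Base) {R : Type u} [CommRing R] {j : Spec (CommRingCat.of R) ⟶ S} [IsOpenImmersion j]

include b in
theorem exists_scale {c : D.idx} {p : Red.Ga S ⟶ G}
    (hp : Red.IsRootHom D.i (D.split.hom.hom.hom ≫ Red.chi S (D.P.root c)) p) :
    ∃ a : R, ∀ (C : Type u) [CommRing C] [Algebra R C] (x : C),
      gp j x ≫ p = gp j (algebraMap R C a * x) ≫ D.u c := by
  obtain ⟨n, eneg, hneg⟩ := exists_enum (D := D) (RedSub.negRoots D.P b)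
  obtain ⟨m, epos, hpos⟩ := exists_enum (D := D) (RedSub.posRoots D.P b)
  exact exists_scale_of_cell hneg hpos hp

include b in
theorem root_coord_unique {c : D.idx} {x y : R} (h : gp j x ≫ D.u c = gp j y ≫ D.u c) : x = y := by
  haveI := (D.rootHom c).2.1
  haveI : Mono (D.u c).left := inferInstance
  haveI : Mono (D.u c) := Over.mono_of_mono_left _
  have := congrArg gv ((cancel_mono (D.u c)).1 h)
  rwa [gv_gp, gv_gp] at this

include b in
/-- A point realising a reflection carries root groups to root groups, with a unit scale. -/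
theorem exists_conj_scale {n : 𝟙_ (Over S) ⟶ G} {a : D.idx} (hn : ActsBy n a) (g : D.idx) :
    ∃ w : Rˣ, ∀ (C : Type u) [CommRing C] [Algebra R C] (x : C),
      (toUnit (Sp j C) ≫ n) * (gp j x ≫ D.u g) * (toUnit (Sp j C) ≫ n)⁻¹ =
        gp j (algebraMap R C (w : R) * x) ≫ D.u (D.P.reflectionPerm a g) := by
  obtain ⟨s, hs⟩ := exists_scale (j := j) b (isRootHom_conjHom hn rfl (D.rootHom g))
  obtain ⟨s', hs'⟩ := exists_scale (j := j) b
    (isRootHom_conjHom (actsBy_inv hn) (D.P.reflectionPerm_self a g) (D.rootHom (D.P.reflectionPerm a g)))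
  simp only [comp_conjHom] at hs hs'
  refine ⟨Units.mkOfMulEqOne s s' ?_, fun C _ _ x => hs C x⟩
  refine root_coord_unique b (j := j) (c := g) ?_
  have h1 := hs R 1
  have h2 := hs' R (algebraMap R R s * 1)
  rw [← h1, GrpObj.comp_inv, _root_.inv_inv] at h2
  have e : algebraMap R R s' * (algebraMap R R s * 1) = s * s' := by
    rw [Algebra.algebraMap_self, RingHom.id_apply, RingHom.id_apply]; ring
  rw [e] at h2
  rw [← h2]
  group

end Groth.L14.Chev.Cell
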