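import Groth.Agent.L14.Chart.RootCombo
import Groth.Agent.L24.RootD.Dominant
import Groth.Agent.L24.RootD.Coord
import Groth.Prelude.Def_RedSub

/-!
A functional which is positive exactly on the roots positive for a base; combinations of roots in closed sets.
-/

set_option autoImplicit false
universe u

open CategoryTheory AlgebraicGeometry
open Groth.L24.RootD (IsSimple)

set_option linter.unusedSectionVars false
set_option linter.style.haveILetI false
set_option backward.isDefEq.respectTransparency.types false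

noncomputable section

namespace Groth.L14.Chev.Cell

variable {κ M N : Type} [Finite κ] [AddCommGroup M] [AddCommGroup N] [Module.Free ℤ M] [Module.Free ℤ N] (P : RootPairing κ ℤ M N) (b : P.Base)

theorem exists_lam : ∃ lam : M →+ ℤ, ∀ c : κ,
    (c ∈ RedSub.posRoots P b → 0 < lam (P.root c)) ∧ (c ∈ RedSub.negRoots P b → lam (P.root c) < 0) := by
  haveI := Chart.RootCombo.isCrystallographic P.flip
  have hΔ : IsSimple P.flip (b.flip.support : Set κ) := IsSimple.of_base b.flip
  obtain ⟨m, -, hm⟩ := Groth.L24.RootD.exists_regular hΔ.isPosSys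
  refine ⟨(P.toLinearMap.flip m).toAddMonoidHom, fun c => ?_⟩
  have key : ∀ x ∈ AddSubmonoid.closure (P.root '' (b.support : Set κ)), x ≠ 0 → 0 < P.toLinearMap x m := by
    intro x hx
    induction hx using AddSubmonoid.closure_induction with
    | mem x hx =>
      obtain ⟨a, ha, rfl⟩ := hx
      intro _
      exact hm a (hΔ.mem_simples ha)
    | zero => intro h; exact absurd rfl h
    | add x y _ _ hx hy =>
      intro _
      by_cases h0 : x = 0
      · subst h0
        rw [zero_add] at *
        exact hy ‹_›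
      · have h1 := hx h0
        by_cases h0' : y = 0
        · subst h0'
          rwa [add_zero]
        · rw [map_add, LinearMap.add_apply]
          exact add_pos h1 (hy h0')
  refine ⟨fun h => key _ h (P.ne_zero c), fun h => ?_⟩
  have := key _ h (neg_ne_zero.2 (P.ne_zero c))
  rw [map_neg, LinearMap.neg_apply] at this
  show P.toLinearMap (P.root c) m < 0
  omega

theorem pos_or_neg (c : κ) : c ∈ RedSub.posRoots P b ∨ c ∈ RedSub.negRoots P b :=
  b.root_mem_or_neg_mem c

variable {P b} {lam : M →+ ℤ}

theorem posRoots_iff (h : ∀ c, (c ∈ RedSub.posRoots P b → 0 < lam (P.root c)) ∧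
    (c ∈ RedSub.negRoots P b → lam (P.root c) < 0)) (c : κ) : c ∈ RedSub.posRoots P b ↔ 0 < lam (P.root c) := by
  refine ⟨(h c).1, fun hc => (pos_or_neg P b c).resolve_right fun hn => ?_⟩
  have := (h c).2 hn
  omega

theorem negRoots_iff (h : ∀ c, (c ∈ RedSub.posRoots P b → 0 < lam (P.root c)) ∧
    (c ∈ RedSub.negRoots P b → lam (P.root c) < 0)) (c : κ) : c ∈ RedSub.negRoots P b ↔ lam (P.root c) < 0 := by
  refine ⟨(h c).2, fun hc => (pos_or_neg P b c).resolve_left fun hn => ?_⟩
  have := (h c).1 hn
  omega

/-- A closed set of roots without opposite pairs contains the roots which are positive combinations of its members. -/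
theorem mem_of_combo {Ψ : Set κ} (hcl : ∀ a b c : κ, a ∈ Ψ → b ∈ Ψ → P.root a + P.root b = P.root c → c ∈ Ψ)
    {a b c : κ} (ha : a ∈ Ψ) (hb : b ∈ Ψ) {i k : ℕ} (h : P.root c = i • P.root a + k • P.root b) : c ∈ Ψ := by
  haveI := Chart.RootCombo.isCrystallographic P
  refine Groth.L24.RootD.mem_of_closed_of_mem_natSpan (S := Ψ) (fun x y z hx hy hz => hcl x y z hx hy hz.symm) ?_
  rw [h]
  exact add_mem (nsmul_mem (Groth.L24.RootD.root_mem_natSpan ha) i) (nsmul_mem (Groth.L24.RootD.root_mem_natSpan hb) k)

theorem combo_ne_zero {Ψ : Set κ} (hcl : ∀ a b c : κ, a ∈ Ψ → b ∈ Ψ → P.root a + P.root b = P.root c → c ∈ Ψ)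
    (hneg : ∀ a b : κ, a ∈ Ψ → P.root b = -P.root a → b ∉ Ψ)
    {a b : κ} (ha : a ∈ Ψ) (hb : b ∈ Ψ) {i k : ℕ} (hi : 1 ≤ i) : i • P.root a + k • P.root b ≠ 0 := by
  haveI := Chart.RootCombo.isCrystallographic P
  intro h
  have h0 := Groth.L24.RootD.rsum_eq_zero (S := Ψ) (fun x y z hx hy hz => hcl x y z hx hy hz.symm)
    (fun x hx => hneg x _ hx (Groth.L24.RootD.root_neg x)) (Multiset.replicate i a + Multiset.replicate k b)
    (fun x hx => by
      rcases Multiset.mem_add.1 hx with hx | hx
      · exact Multiset.eq_of_mem_replicate hx ▸ ha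
      · exact Multiset.eq_of_mem_replicate hx ▸ hb)
    (by simp [Groth.L24.RootD.rsum, Multiset.map_replicate, Multiset.sum_replicate, h])
  have := congrArg Multiset.card h0
  simp at this
  omega

end Groth.L14.Chev.Cell
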