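import Groth.Agent.L14.Chart.Global
import Groth.Agent.L14.Chev.Cell.Regular

/-!
The groups generated by the root points of a filtered set of roots are the ordered products of the root points.
-/

set_option autoImplicit false
universe u

open CategoryTheory CategoryTheory.Limits AlgebraicGeometry MonoidalCategory CartesianMonoidalCategory MonObj
open Groth.L14.RankOne Groth.L25 Groth.L14.Chart

set_option backward.isDefEq.respectTransparency.types false
set_option linter.style.haveILetI false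
set_option linter.unusedSectionVars false

noncomputable section

namespace Groth.L14.Chev.Cell

section Grp

variable {Γ : Type*} [Group Γ]

theorem comm_mod_mul {N : Subgroup Γ} {u g g' k k' : Γ} (hk : k ∈ N) (hk' : k' ∈ N)
    (hg' : ∀ h ∈ N, g'⁻¹ * h * g' ∈ N) (h : u * g = g * u * k) (h' : u * g' = g' * u * k') :
    ∃ k'' ∈ N, u * (g * g') = g * g' * u * k'' :=
  ⟨k' * (g'⁻¹ * k * g'), mul_mem hk' (hg' k hk), by
    calc u * (g * g') = g * (u * g') * (g'⁻¹ * k * g') := by rw [← _root_.mul_assoc, h]; group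
      _ = _ := by rw [h']; group⟩

theorem comm_mod_inv {N : Subgroup Γ} {u g k : Γ} (hk : k ∈ N) (hg : ∀ h ∈ N, g * h * g⁻¹ ∈ N)
    (h : u * g = g * u * k) : ∃ k' ∈ N, u * g⁻¹ = g⁻¹ * u * k' :=
  ⟨g * k⁻¹ * g⁻¹, hg _ (inv_mem hk), by
    calc u * g⁻¹ = g⁻¹ * (g * u * k) * k⁻¹ * g⁻¹ := by group
      _ = g⁻¹ * (u * g) * k⁻¹ * g⁻¹ := by rw [h]
      _ = _ := by group⟩

end Grp

variable {S : Scheme.{u}} {G : Over S} [GrpObj G] {D : Red.SplitRed G}

/-- Combinations of two roots of the set lie in it and have higher level. -/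
structure Filt (D : Red.SplitRed G) (Ψ : Set D.idx) (lv : D.idx → ℕ) : Prop where
  ne : ∀ a ∈ Ψ, ∀ b ∈ Ψ, ∀ i k : ℕ, 1 ≤ i → 1 ≤ k → i • D.P.root a + k • D.P.root b ≠ 0
  step : ∀ a ∈ Ψ, ∀ b ∈ Ψ, ∀ (c : D.idx) (i k : ℕ), 1 ≤ i → 1 ≤ k →
    D.P.root c = i • D.P.root a + k • D.P.root b → c ∈ Ψ ∧ lv a < lv c ∧ lv b < lv c

theorem filt_of_closed {Ψ : Set D.idx}
    (hcl : ∀ a b c : D.idx, a ∈ Ψ → b ∈ Ψ → D.P.root a + D.P.root b = D.P.root c → c ∈ Ψ)
    (lam : D.M →+ ℤ) (hlam : ∀ a ∈ Ψ, 0 < lam (D.P.root a)) :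
    Filt D Ψ (fun c => (lam (D.P.root c)).natAbs) := by
  haveI : Finite D.idx := Finite.of_fintype _
  have key : ∀ a ∈ Ψ, ∀ b ∈ Ψ, ∀ i k : ℕ, 1 ≤ i → 1 ≤ k →
      lam (D.P.root a) + lam (D.P.root b) ≤ lam (i • D.P.root a + k • D.P.root b) := by
    intro a ha b hb i k hi hk
    rw [map_add, map_nsmul, map_nsmul, nsmul_eq_mul, nsmul_eq_mul]
    exact add_le_add (le_mul_of_one_le_left (hlam a ha).le (by exact_mod_cast hi))
      (le_mul_of_one_le_left (hlam b hb).le (by exact_mod_cast hk))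
  refine ⟨fun a ha b hb i k hi hk h => ?_, fun a ha b hb c i k hi hk h => ⟨mem_of_combo hcl ha hb h, ?_⟩⟩
  · have := key a ha b hb i k hi hk
    rw [h, map_zero] at this
    linarith [hlam a ha, hlam b hb]
  · have := key a ha b hb i k hi hk
    rw [← h] at this
    have := hlam a ha
    have := hlam b hb
    omega

theorem no_combo_of_dep {a b c : D.idx} (hab : a ≠ b) (hdep : ¬ LinearIndependent ℤ ![D.P.root a, D.P.root b])
    (hne : ∀ i k : ℕ, 1 ≤ i → 1 ≤ k → i • D.P.root a + k • D.P.root b ≠ 0) {i k : ℕ} (hi : 1 ≤ i) (hk : 1 ≤ k)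
    (h : D.P.root c = i • D.P.root a + k • D.P.root b) : False := by
  haveI : Finite D.idx := Finite.of_fintype _
  haveI : IsAddTorsionFree D.M := .of_isTorsionFree ℤ D.M
  have h2 := RootCombo.two_zsmul_of_not_indep D.P hdep
  have hprod := (RootCombo.not_indep_iff D.P).1 hdep
  have hmem := RootCombo.pairs D.P b a
  simp only [Set.mem_insert_iff, Set.mem_singleton_iff, Prod.mk.injEq] at hmem
  have hp : 0 < D.P.pairing b a := by
    by_contra hle
    have hz : (D.P.pairing b a).natAbs • D.P.root a + 2 • D.P.root b = 0 := by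
      rw [← natCast_zsmul, ← natCast_zsmul, Nat.cast_ofNat, h2, Int.ofNat_natAbs_of_nonpos (by omega), neg_smul,
        neg_add_cancel]
    refine hne _ 2 (Int.natAbs_pos.2 fun e => ?_) (by norm_num) hz
    rw [e, mul_zero] at hprod
    norm_num at hprod
  have h3 : (2 : ℤ) • D.P.root c = ((2 * i : ℤ) + (k : ℤ) * D.P.pairing b a) • D.P.root a := by
    rw [h, smul_add, ← natCast_zsmul, ← natCast_zsmul, smul_smul, smul_comm (2 : ℤ) (k : ℤ), h2, smul_smul, add_smul]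
  obtain hp' | hp' | hp' : D.P.pairing b a = 1 ∨ D.P.pairing b a = 2 ∨ D.P.pairing b a = 4 := by
    rcases hmem with h | h | h | h | h | h | h | h | h | h | h | h | h | h | h | h | h <;>
      rw [h.1] at hp ⊢ <;> rw [h.1, h.2] at hprod <;> omega
  · rw [hp', one_smul] at h2
    have := RootCombo.multiple_le_two D.P (k := c) (i := b) (n := 2 * i + k) (by
      rw [h, ← h2]
      push_cast
      rw [add_smul, ← natCast_zsmul, ← natCast_zsmul, smul_smul, mul_comm (i : ℤ)])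
    omega
  · rw [hp'] at h2
    exact hab (D.P.root.injective (smul_right_injective D.M (two_ne_zero (α := ℤ)) h2).symm)
  · rw [hp'] at h3
    have := RootCombo.multiple_le_two D.P (k := c) (i := a) (n := i + 2 * k) (by
      refine smul_right_injective D.M (two_ne_zero (α := ℤ)) ?_
      show (2 : ℤ) • D.P.root c = (2 : ℤ) • _
      rw [h3, smul_smul]
      congr 1
      push_cast
      ring)
    omega

variable {R : Type u} [CommRing R] (j : Spec (CommRingCat.of R) ⟶ S)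
  {C : Type u} [CommRing C] [Algebra R C] (v : D.idx → (Red.Ga S ⟶ G)) (Ψ : Set D.idx) (lv : D.idx → ℕ)

variable (C) in
/-- The group generated by root points of level at least `n`. -/
def gen (n : ℕ) : Subgroup (Sp j C ⟶ G) :=
  Subgroup.closure {g | ∃ c ∈ Ψ, n ≤ lv c ∧ ∃ x : C, g = gp j x ≫ v c}

variable {j v Ψ lv}

theorem gp_mem_gen {c : D.idx} (hc : c ∈ Ψ) {n : ℕ} (hn : n ≤ lv c) (x : C) : gp j x ≫ v c ∈ gen j C v Ψ lv n :=
  Subgroup.subset_closure ⟨c, hc, hn, x, rfl⟩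

theorem gen_anti {m n : ℕ} (h : m ≤ n) : gen j C v Ψ lv n ≤ gen j C v Ψ lv m :=
  Subgroup.closure_mono fun _ ⟨c, hc, hn, x, e⟩ => ⟨c, hc, h.trans hn, x, e⟩

theorem gen_le_zero {n : ℕ} : gen j C v Ψ lv n ≤ gen j C v Ψ lv 0 := gen_anti (Nat.zero_le n)

theorem gen_eq_bot {n : ℕ} (h : ∀ c, lv c < n) : gen j C v Ψ lv n = ⊥ :=
  Subgroup.closure_eq_bot_iff.2 fun _ ⟨c, _, hn, _, _⟩ => absurd hn (h c).not_ge

variable (hv : ∀ c, Red.IsRootHom D.i (D.split.hom.hom.hom ≫ Red.chi S (D.P.root c)) (v c))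

include hv in
theorem rootProd_mem_gen {l : List D.idx} {n : ℕ} {x : D.idx → C}
    (hx : ∀ c ∈ l, x c ≠ 0 → c ∈ Ψ ∧ n ≤ lv c) : rootProd j v l x ∈ gen j C v Ψ lv n := by
  haveI : ∀ c, IsMonHom (v c) := fun c => (hv c).1
  refine Subgroup.list_prod_mem _ fun g hg => ?_
  obtain ⟨c, hc, rfl⟩ := List.mem_map.1 hg
  by_cases h : x c = 0
  · rw [h, gp_zero, MonObj.one_comp]
    exact one_mem _
  · exact gp_mem_gen (hx c hc h).1 (hx c hc h).2 _

variable [IsOpenImmersion j] (hF : Filt D Ψ lv)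

include hv hF in
theorem comm_mem_gen {a b : D.idx} (ha : a ∈ Ψ) (hb : b ∈ Ψ) (x y : C) {n : ℕ} (hn : n ≤ lv a + 1 ∨ n ≤ lv b + 1) :
    Chart.comm j (v a) (v b) x y ∈ gen j C v Ψ lv n := by
  classical
  haveI : ∀ c, IsMonHom (v c) := fun c => (hv c).1
  -- exponents of the combinations
  let e : D.idx → ℕ × ℕ := fun c =>
    if h : ∃ ik : ℕ × ℕ, 1 ≤ ik.1 ∧ 1 ≤ ik.2 ∧ D.P.root c = ik.1 • D.P.root a + ik.2 • D.P.root b
    then h.choose else (0, 0)
  by_cases hab : a = b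
  · subst hab
    have : Chart.comm j (v a) (v a) x y = 1 := by
      rw [Chart.comm, mul_inv_eq_one, mul_inv_eq_iff_eq_mul, ← MonObj.mul_comp, ← MonObj.mul_comp, ← gp_add,
        ← gp_add, add_comm]
    rw [this]
    exact one_mem _
  have huniq : ∀ (c : D.idx) (i k : ℕ), 1 ≤ i → 1 ≤ k → D.P.root c = i • D.P.root a + k • D.P.root b → e c = (i, k) := by
    intro c i k hi hk h
    have hex : ∃ ik : ℕ × ℕ, 1 ≤ ik.1 ∧ 1 ≤ ik.2 ∧ D.P.root c = ik.1 • D.P.root a + ik.2 • D.P.root b :=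
      ⟨(i, k), hi, hk, h⟩
    simp only [e, dif_pos hex]
    obtain ⟨h1, h2, h3⟩ := hex.choose_spec
    have hli : LinearIndependent ℤ ![D.P.root a, D.P.root b] := by
      by_contra hdep
      exact no_combo_of_dep hab hdep (hF.ne a ha b hb) hi hk h
    have hz := LinearIndependent.pair_iff.1 hli ((hex.choose.1 : ℤ) - i) ((hex.choose.2 : ℤ) - k) (by
      rw [sub_smul, sub_smul, natCast_zsmul, natCast_zsmul, natCast_zsmul, natCast_zsmul]
      linear_combination (norm := abel) -h3 + h)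
    exact Prod.ext (by omega) (by omega)
  obtain ⟨K, hK, he⟩ := comm_expansion j hv (Finset.univ : Finset D.idx).nodup_toList
    (fun c => Finset.mem_toList.2 (Finset.mem_univ c)) a b (hF.ne a ha b hb) e huniq
  rw [he]
  refine rootProd_mem_gen hv fun c _ hc => ?_
  have hKc : K c ≠ 0 := fun h0 => hc (by simp [h0])
  obtain ⟨h1, h2, h3⟩ := hK c hKc
  obtain ⟨hcΨ, hla, hlb⟩ := hF.step a ha b hb c _ _ h1 h2 h3
  exact ⟨hcΨ, by omega⟩

include hv hF in
theorem conj_gp_mem {a : D.idx} (ha : a ∈ Ψ) (x : C) {n : ℕ} {h : Sp j C ⟶ G} (hh : h ∈ gen j C v Ψ lv n) :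
    (gp j x ≫ v a) * h * (gp j x ≫ v a)⁻¹ ∈ gen j C v Ψ lv n := by
  haveI : ∀ c, IsMonHom (v c) := fun c => (hv c).1
  induction hh using Subgroup.closure_induction with
  | mem g hg =>
    obtain ⟨b, hb, hn, y, rfl⟩ := hg
    rw [show (gp j x ≫ v a) * (gp j y ≫ v b) * (gp j x ≫ v a)⁻¹ =
      Chart.comm j (v b) (v a) y x * (gp j y ≫ v b) by rw [Chart.comm]; group]
    exact mul_mem (comm_mem_gen hv hF hb ha y x (Or.inl (by omega))) (gp_mem_gen hb hn y)
  | one => simp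
  | mul g g' _ _ hg hg' =>
    rw [show (gp j x ≫ v a) * (g * g') * (gp j x ≫ v a)⁻¹ =
      ((gp j x ≫ v a) * g * (gp j x ≫ v a)⁻¹) * ((gp j x ≫ v a) * g' * (gp j x ≫ v a)⁻¹) by group]
    exact mul_mem hg hg'
  | inv g _ hg =>
    rw [show (gp j x ≫ v a) * g⁻¹ * (gp j x ≫ v a)⁻¹ = ((gp j x ≫ v a) * g * (gp j x ≫ v a)⁻¹)⁻¹ by group]
    exact inv_mem hg

include hv hF in
theorem conj_mem_gen {g : Sp j C ⟶ G} (hg : g ∈ gen j C v Ψ lv 0) {n : ℕ} :
    ∀ h ∈ gen j C v Ψ lv n, g * h * g⁻¹ ∈ gen j C v Ψ lv n ∧ g⁻¹ * h * g ∈ gen j C v Ψ lv n := by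
  haveI : ∀ c, IsMonHom (v c) := fun c => (hv c).1
  induction hg using Subgroup.closure_induction with
  | mem g hg =>
    obtain ⟨a, ha, -, x, rfl⟩ := hg
    intro h hh
    refine ⟨conj_gp_mem hv hF ha x hh, ?_⟩
    have := conj_gp_mem hv hF ha (-x) hh
    rwa [gp_neg, GrpObj.inv_comp, inv_inv] at this
  | one => intro h hh; simpa using hh
  | mul g g' _ _ hg hg' =>
    intro h hh
    refine ⟨?_, ?_⟩
    · rw [show g * g' * h * (g * g')⁻¹ = g * (g' * h * g'⁻¹) * g⁻¹ by group]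
      exact (hg _ (hg' h hh).1).1
    · rw [show (g * g')⁻¹ * h * (g * g') = g'⁻¹ * (g⁻¹ * h * g) * g' by group]
      exact (hg' _ (hg h hh).2).2
  | inv g _ hg =>
    intro h hh
    rw [inv_inv]
    exact ⟨(hg h hh).2, (hg h hh).1⟩

include hv hF in
theorem gp_commute_mod {b : D.idx} (hb : b ∈ Ψ) {n : ℕ} (hn : n ≤ lv b) (y : C) {g : Sp j C ⟶ G}
    (hg : g ∈ gen j C v Ψ lv 0) :
    ∃ k ∈ gen j C v Ψ lv (n + 1), (gp j y ≫ v b) * g = g * (gp j y ≫ v b) * k := by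
  haveI : ∀ c, IsMonHom (v c) := fun c => (hv c).1
  induction hg using Subgroup.closure_induction with
  | mem g hg =>
    obtain ⟨a, ha, -, x, rfl⟩ := hg
    refine ⟨(gp j y ≫ v b)⁻¹ * ((gp j x ≫ v a)⁻¹ * Chart.comm j (v a) (v b) x y * (gp j x ≫ v a)) * (gp j y ≫ v b),
      ?_, by rw [Chart.comm]; group⟩
    exact (conj_mem_gen hv hF (gp_mem_gen hb (Nat.zero_le _) y) _
      (conj_mem_gen hv hF (gp_mem_gen ha (Nat.zero_le _) x) _ (comm_mem_gen hv hF ha hb x y (Or.inr (by omega)))).2).2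
  | one => exact ⟨1, one_mem _, by simp⟩
  | mul g g' _ hg'₀ hg hg' =>
    obtain ⟨k, hk, e⟩ := hg
    obtain ⟨k', hk', e'⟩ := hg'
    exact comm_mod_mul hk hk' (fun h hh => (conj_mem_gen hv hF hg'₀ h hh).2) e e'
  | inv g hg₀ hg =>
    obtain ⟨k, hk, e⟩ := hg
    exact comm_mod_inv hk (fun h hh => (conj_mem_gen hv hF hg₀ h hh).1) e

include hv hF in
theorem rootProd_add {n : ℕ} {l : List D.idx} (hl : ∀ c ∈ l, c ∈ Ψ) (x y : D.idx → C)
    (hy : ∀ c ∈ l, y c ≠ 0 → n ≤ lv c) :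
    ∃ k ∈ gen j C v Ψ lv (n + 1), rootProd j v l (x + y) = rootProd j v l x * rootProd j v l y * k := by
  haveI : ∀ c, IsMonHom (v c) := fun c => (hv c).1
  induction l with
  | nil => exact ⟨1, one_mem _, by simp [rootProd]⟩
  | cons c l ih =>
    obtain ⟨k, hk, e⟩ := ih (fun d hd => hl d (List.mem_cons_of_mem _ hd)) fun d hd => hy d (List.mem_cons_of_mem _ hd)
    have hcons : ∀ z : D.idx → C, rootProd j v (c :: l) z = (gp j (z c) ≫ v c) * rootProd j v l z := fun z => by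
      simp [rootProd]
    have hP : ∀ z : D.idx → C, rootProd j v l z ∈ gen j C v Ψ lv 0 := fun z =>
      rootProd_mem_gen hv fun d hd _ => ⟨hl d (List.mem_cons_of_mem _ hd), Nat.zero_le _⟩
    obtain ⟨k₁, hk₁, e₁⟩ : ∃ k₁ ∈ gen j C v Ψ lv (n + 1),
        (gp j (y c) ≫ v c) * rootProd j v l x = rootProd j v l x * (gp j (y c) ≫ v c) * k₁ := by
      by_cases h : y c = 0
      · exact ⟨1, one_mem _, by simp [h, gp_zero, MonObj.one_comp]⟩
      · exact gp_commute_mod hv hF (hl c List.mem_cons_self) (hy c List.mem_cons_self h) _ (hP x)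
    refine ⟨((rootProd j v l y)⁻¹ * k₁ * rootProd j v l y) * k, mul_mem (conj_mem_gen hv hF (hP y) _ hk₁).2 hk, ?_⟩
    rw [hcons, hcons, hcons, Pi.add_apply, gp_add, MonObj.mul_comp, e]
    calc _ = (gp j (x c) ≫ v c) * ((gp j (y c) ≫ v c) * rootProd j v l x) * rootProd j v l y * k := by group
      _ = _ := by rw [e₁]; group

include hv hF in
theorem exists_rootProd_succ {l : List D.idx} (hnd : l.Nodup) (hl : ∀ c, c ∈ l ↔ c ∈ Ψ) {m : ℕ}
    {g : Sp j C ⟶ G} (hg : g ∈ gen j C v Ψ lv m) :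
    ∃ y : D.idx → C, (∀ c, y c ≠ 0 → m ≤ lv c) ∧ ∃ k ∈ gen j C v Ψ lv (m + 1), g = rootProd j v l y * k := by
  classical
  haveI : ∀ c, IsMonHom (v c) := fun c => (hv c).1
  have h0 : rootProd j v l (0 : D.idx → C) = 1 := rootProd_eq_one j fun c _ => rfl
  induction hg using Subgroup.closure_induction with
  | mem g hg =>
    obtain ⟨c, hc, hn, x, rfl⟩ := hg
    by_cases hcm : m + 1 ≤ lv c
    · exact ⟨0, fun d hd => absurd rfl hd, _, gp_mem_gen hc hcm x, by rw [h0, _root_.one_mul]⟩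
    · refine ⟨Pi.single c x, fun d hd => ?_, 1, one_mem _, ?_⟩
      · by_cases h : d = c
        · exact h ▸ hn
        · simp [h] at hd
      · rw [_root_.mul_one, rootProd_single j hnd ((hl c).2 hc) fun d hd => by simp [hd], Pi.single_eq_same]
  | one => exact ⟨0, fun d hd => absurd rfl hd, 1, one_mem _, by rw [h0, _root_.mul_one]⟩
  | mul g g' _ _ hg hg' =>
    obtain ⟨y, hy, k, hk, e⟩ := hg
    obtain ⟨y', hy', k', hk', e'⟩ := hg'
    obtain ⟨k₂, hk₂, e₂⟩ := rootProd_add (j := j) hv hF (fun c hc => (hl c).1 hc) y y' fun c _ => hy' c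
    have hP : rootProd j v l y' ∈ gen j C v Ψ lv 0 :=
      rootProd_mem_gen hv fun d hd _ => ⟨(hl d).1 hd, Nat.zero_le _⟩
    refine ⟨y + y', fun c hc => ?_, k₂⁻¹ * ((rootProd j v l y')⁻¹ * k * rootProd j v l y') * k', ?_, ?_⟩
    · by_cases h : y c = 0
      · exact hy' c (by simpa [h] using hc)
      · exact hy c h
    · exact mul_mem (mul_mem (inv_mem hk₂) (conj_mem_gen hv hF hP k hk).2) hk'
    · rw [e₂, e, e']; group
  | inv g _ hg =>
    obtain ⟨y, hy, k, hk, e⟩ := hg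
    obtain ⟨k₂, hk₂, e₂⟩ := rootProd_add (j := j) hv hF (fun c hc => (hl c).1 hc) y (-y) fun c _ h => hy c (by simpa using h)
    rw [add_neg_cancel, h0] at e₂
    have hP : rootProd j v l y ∈ gen j C v Ψ lv 0 :=
      rootProd_mem_gen hv fun d hd _ => ⟨(hl d).1 hd, Nat.zero_le _⟩
    refine ⟨-y, fun c hc => hy c (by simpa using hc), k₂ * (rootProd j v l y * k⁻¹ * (rootProd j v l y)⁻¹),
      mul_mem hk₂ (conj_mem_gen hv hF hP _ (inv_mem hk)).1, ?_⟩
    have e₃ : rootProd j v l (-y) = (rootProd j v l y)⁻¹ * k₂⁻¹ := by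
      rw [eq_comm, ← mul_inv_eq_one]
      calc _ = (rootProd j v l y)⁻¹ * ((rootProd j v l y * rootProd j v l (-y) * k₂)⁻¹) * rootProd j v l y := by
            group
        _ = 1 := by rw [← e₂]; group
    rw [e, e₃]; group

include hv hF in
/-- Products in any order exhaust the generated group. -/
theorem exists_rootProd {l : List D.idx} (hnd : l.Nodup) (hl : ∀ c, c ∈ l ↔ c ∈ Ψ) {n : ℕ}
    {g : Sp j C ⟶ G} (hg : g ∈ gen j C v Ψ lv n) :
    ∃ x : D.idx → C, (∀ c, x c ≠ 0 → n ≤ lv c) ∧ rootProd j v l x = g := by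
  haveI : ∀ c, IsMonHom (v c) := fun c => (hv c).1
  suffices ∀ d, ∃ x : D.idx → C, (∀ c, x c ≠ 0 → n ≤ lv c) ∧
      ∃ k ∈ gen j C v Ψ lv (n + d), g = rootProd j v l x * k by
    obtain ⟨x, hx, k, hk, e⟩ := this (Finset.univ.sup lv + 1)
    have hlt : ∀ c, lv c < n + (Finset.univ.sup lv + 1) := fun c => by
      have := Finset.le_sup (f := lv) (Finset.mem_univ c)
      omega
    rw [gen_eq_bot hlt, Subgroup.mem_bot] at hk
    exact ⟨x, hx, by rw [e, hk, _root_.mul_one]⟩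
  intro d
  induction d with
  | zero => exact ⟨0, fun c hc => absurd rfl hc, g, hg, by rw [rootProd_eq_one j (x := (0 : D.idx → C)) fun c _ => rfl, _root_.one_mul]⟩
  | succ d ih =>
    obtain ⟨x, hx, k, hk, e⟩ := ih
    obtain ⟨y, hy, k', hk', e'⟩ := exists_rootProd_succ hv hF hnd hl hk
    obtain ⟨k₂, hk₂, e₂⟩ := rootProd_add (j := j) hv hF (fun c hc => (hl c).1 hc) x y fun c _ => hy c
    refine ⟨x + y, fun c hc => ?_, k₂⁻¹ * k', mul_mem (inv_mem hk₂) hk', by rw [e, e', e₂]; group⟩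
    by_cases h : x c = 0
    · exact (Nat.le_add_right n d).trans (hy c (by simpa [h] using hc))
    · exact hx c h

include hv hF in
theorem mem_gen_iff {l : List D.idx} (hnd : l.Nodup) (hl : ∀ c, c ∈ l ↔ c ∈ Ψ) {g : Sp j C ⟶ G} :
    g ∈ gen j C v Ψ lv 0 ↔ ∃ x : D.idx → C, rootProd j v l x = g :=
  ⟨fun h => (exists_rootProd hv hF hnd hl h).imp fun _ => And.right,
    fun ⟨_, e⟩ => e ▸ rootProd_mem_gen hv fun c hc _ => ⟨(hl c).1 hc, Nat.zero_le _⟩⟩

end Groth.L14.Chev.Cell
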