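import Groth.Agent.L14.Chart.Global

/-!
Points of iterated products and of the maps defined by ordered products of root homomorphisms.
-/

set_option autoImplicit false
universe u

open CategoryTheory CategoryTheory.Limits AlgebraicGeometry MonoidalCategory CartesianMonoidalCategory MonObj
open Groth.L14.RankOne Groth.L25 Groth.L14.Chart

set_option backward.isDefEq.respectTransparency.types false
set_option linter.style.haveILetI false

noncomputable section

namespace Groth.L14.Chev.Cell

variable {S : Scheme.{u}}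

/-- The projections of an iterated product. -/
def proj (X : Over S) : (n : ℕ) → Fin n → (RedSub.pow X n ⟶ X)
  | 0 => fun k => k.elim0
  | n + 1 => fun k => Fin.cases (fst X (RedSub.pow X n)) (fun i => snd X (RedSub.pow X n) ≫ proj X n i) k

/-- The point of an iterated product with given components. -/
def tup {X T : Over S} : (n : ℕ) → (Fin n → (T ⟶ X)) → (T ⟶ RedSub.pow X n)
  | 0, _ => toUnit T
  | n + 1, x => lift (x 0) (tup n fun i => x i.succ)

theorem proj_zero (X : Over S) (n : ℕ) : proj X (n + 1) 0 = fst X (RedSub.pow X n) := rfl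

theorem proj_succ (X : Over S) (n : ℕ) (k : Fin n) :
    proj X (n + 1) k.succ = snd X (RedSub.pow X n) ≫ proj X n k := rfl

theorem tup_proj {X T : Over S} : ∀ {n : ℕ} (x : Fin n → (T ⟶ X)) (k : Fin n), tup n x ≫ proj X n k = x k
  | 0, _, k => k.elim0
  | n + 1, x, k => by
    induction k using Fin.cases with
    | zero => exact lift_fst _ _
    | succ i =>
      show lift _ _ ≫ snd _ _ ≫ proj X n i = _
      rw [lift_snd_assoc, tup_proj]

theorem pow_ext {X T : Over S} : ∀ {n : ℕ} {t t' : T ⟶ RedSub.pow X n}, (∀ k, t ≫ proj X n k = t' ≫ proj X n k) → t = t'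
  | 0, t, t', _ => toUnit_unique t t'
  | n + 1, t, t', h => by
    refine CartesianMonoidalCategory.hom_ext (X := X) (Y := RedSub.pow X n) t t' (h 0) (pow_ext fun k => ?_)
    exact (Category.assoc _ _ _).trans ((h k.succ).trans (Category.assoc _ _ _).symm)

theorem tup_eta {X T : Over S} {n : ℕ} (t : T ⟶ RedSub.pow X n) : tup n (fun k => t ≫ proj X n k) = t :=
  pow_ext fun k => tup_proj _ k

variable {G : Over S} [GrpObj G]

theorem comp_prodMap {X T : Over S} : ∀ {n : ℕ} (f : Fin n → (X ⟶ G)) (t : T ⟶ RedSub.pow X n),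
    t ≫ RedSub.prodMap X n f = (List.ofFn fun k => (t ≫ proj X n k) ≫ f k).prod
  | 0, f, t => by
    rw [List.ofFn_zero, List.prod_nil]
    exact MonObj.comp_one t
  | n + 1, f, t => by
    rw [List.ofFn_succ, List.prod_cons]
    refine (MonObj.comp_mul (t : T ⟶ X ⊗ RedSub.pow X n) (fst X _ ≫ f 0)
      (snd X _ ≫ RedSub.prodMap X n fun k => f k.succ)).trans ?_
    refine congrArg₂ (· * ·) (Category.assoc _ _ _).symm ?_
    refine ((Category.assoc _ _ _).symm.trans (comp_prodMap _ _)).trans ?_
    refine congrArg List.prod (congrArg List.ofFn (funext fun k => ?_))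
    exact congrArg (· ≫ f k.succ) (Category.assoc _ _ _)

theorem comp_borelMap (D : Red.SplitRed G) {m : ℕ} (epos : Fin m → D.idx) {T : Over S}
    (t : T ⟶ D.T ⊗ RedSub.pow (Red.Ga S) m) :
    t ≫ RedSub.borelMap D epos = ((t ≫ fst _ _) ≫ D.i) *
      (List.ofFn fun k => ((t ≫ snd _ _) ≫ proj _ m k) ≫ D.u (epos k)).prod := by
  rw [RedSub.borelMap, MonObj.comp_mul, ← Category.assoc, ← Category.assoc t (snd _ _), comp_prodMap]

theorem comp_cellMap (D : Red.SplitRed G) {n m : ℕ} (eneg : Fin n → D.idx) (epos : Fin m → D.idx) {T : Over S}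
    (t : T ⟶ RedSub.pow (Red.Ga S) n ⊗ (D.T ⊗ RedSub.pow (Red.Ga S) m)) :
    t ≫ RedSub.cellMap D eneg epos = (List.ofFn fun k => ((t ≫ fst _ _) ≫ proj _ n k) ≫ D.u (eneg k)).prod *
      (((t ≫ snd _ _ ≫ fst _ _) ≫ D.i) *
        (List.ofFn fun k => ((t ≫ snd _ _ ≫ snd _ _) ≫ proj _ m k) ≫ D.u (epos k)).prod) := by
  rw [RedSub.cellMap, MonObj.comp_mul, MonObj.comp_mul, ← Category.assoc t (fst _ _), comp_prodMap,
    ← comp_prodMap (fun k => D.u (epos k))]
  simp only [← Category.assoc]

variable {D : Red.SplitRed G} {R : Type u} [CommRing R] (j : Spec (CommRingCat.of R) ⟶ S)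
  {C : Type u} [CommRing C] [Algebra R C]

/-- Coordinates along an enumeration as a function on all roots. -/
def coordsOf {n : ℕ} (e : Fin n → D.idx) (x : Fin n → C) : D.idx → C := Function.extend e x 0

theorem coordsOf_apply {n : ℕ} {e : Fin n → D.idx} (he : Function.Injective e) (x : Fin n → C) (k : Fin n) :
    coordsOf e x (e k) = x k := he.extend_apply x 0 k

theorem ofFn_prod_eq_rootProd {n : ℕ} {e : Fin n → D.idx} (he : Function.Injective e)
    (z : Fin n → (Sp j C ⟶ Red.Ga S)) :
    (List.ofFn fun k => z k ≫ D.u (e k)).prod = rootProd j D.u (List.ofFn e) (coordsOf e fun k => gv (z k)) := by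
  rw [rootProd, List.map_ofFn]
  congr 1
  refine congrArg List.ofFn (funext fun k => ?_)
  simp only [Function.comp_apply, coordsOf_apply he, gp_gv]

theorem rootProd_ofFn {n : ℕ} (e : Fin n → D.idx) (x : D.idx → C) :
    rootProd j D.u (List.ofFn e) x = (List.ofFn fun k => gp j (x (e k)) ≫ D.u (e k)).prod := by
  rw [rootProd, List.map_ofFn]
  rfl

end Groth.L14.Chev.Cell
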