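import Groth.Agent.L14.Chart.Coord
import Groth.Agent.L14.Chev.Cell.Pow
import Groth.Agent.L14.Smoothing.SymAlg

/-!
The spaces of coordinates are affine and smooth over the base.
-/

set_option autoImplicit false
universe u

open CategoryTheory CategoryTheory.Limits AlgebraicGeometry MonoidalCategory CartesianMonoidalCategory MonObj
open Groth.L14.RankOne Groth.L25 Groth.L14.Chart

set_option backward.isDefEq.respectTransparency.types false
set_option linter.style.haveILetI false

noncomputable section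

namespace Groth.L14.Chev.Cell

variable {S : Scheme.{u}}

/-- Affine and smooth over the base. -/
def AffSmooth (X : Over S) : Prop := IsAffineHom X.hom ∧ Smooth X.hom

theorem affSmooth_one : AffSmooth (𝟙_ (Over S)) :=
  ⟨inferInstanceAs (IsAffineHom (𝟙 S)), inferInstanceAs (Smooth (𝟙 S))⟩

theorem AffSmooth.tensor {X Y : Over S} (hX : AffSmooth X) (hY : AffSmooth Y) : AffSmooth (X ⊗ Y) := by
  haveI := hX.1; haveI := hX.2; haveI := hY.1; haveI := hY.2
  haveI : IsAffineHom (pullback.fst X.hom Y.hom) := MorphismProperty.pullback_fst _ _ ‹IsAffineHom Y.hom›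
  haveI : Smooth (pullback.fst X.hom Y.hom) := MorphismProperty.pullback_fst _ _ ‹Smooth Y.hom›
  exact ⟨inferInstanceAs (IsAffineHom (pullback.fst X.hom Y.hom ≫ X.hom)),
    inferInstanceAs (Smooth (pullback.fst X.hom Y.hom ≫ X.hom))⟩

theorem AffSmooth.pow {X : Over S} (hX : AffSmooth X) : ∀ n : ℕ, AffSmooth (RedSub.pow X n)
  | 0 => affSmooth_one
  | n + 1 => hX.tensor (AffSmooth.pow hX n)

theorem AffSmooth.of_iso {X Y : Over S} (e : X ≅ Y) (hY : AffSmooth Y) : AffSmooth X := by
  haveI := hY.1; haveI := hY.2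
  haveI : IsIso e.hom.left := inferInstanceAs (IsIso ((Over.forget S).map e.hom))
  rw [AffSmooth, ← Over.w e.hom]
  exact ⟨inferInstance, inferInstance⟩

theorem affSmooth_ga : AffSmooth (Red.Ga S) := by
  haveI : IsAffine (Red.GaZ.{u}).left :=
    inferInstanceAs (IsAffine (Spec (CommRingCat.of (SymmetricAlgebra (ULift.{u} ℤ) (ULift.{u} ℤ)))))
  haveI : IsAffineHom (Red.GaZ.{u}).hom := isAffineHom_of_isAffine _
  haveI : Smooth (Red.GaZ.{u}).hom := by
    refine (HasRingHomProperty.Spec_iff (P := @Smooth)).2 ?_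
    exact RingHom.smooth_algebraMap.2
      (inferInstanceAs (Algebra.Smooth (ULift.{u} ℤ) (SymmetricAlgebra (ULift.{u} ℤ) (ULift.{u} ℤ))))
  exact ⟨MorphismProperty.pullback_snd _ _ ‹IsAffineHom (Red.GaZ.{u}).hom›,
    MorphismProperty.pullback_snd _ _ ‹Smooth (Red.GaZ.{u}).hom›⟩

theorem affSmooth_DS (S : Scheme.{u}) (M : Type) [AddCommGroup M] [Module.Finite ℤ M] [Module.Free ℤ M] :
    AffSmooth (Red.DS S M) := by
  let Z := (Red.diag (ULift.{u} ℤ) M)
  haveI : IsAffine Z.left := inferInstanceAs (IsAffine (Spec _))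
  haveI : IsAffineHom Z.hom := isAffineHom_of_isAffine _
  haveI : Smooth Z.hom := by
    refine (HasRingHomProperty.Spec_iff (P := @Smooth)).2 ?_
    exact RingHom.smooth_algebraMap.2 (smooth_groupAlgebra _ M)
  exact ⟨MorphismProperty.pullback_snd _ _ ‹IsAffineHom Z.hom›, MorphismProperty.pullback_snd _ _ ‹Smooth Z.hom›⟩

variable {G : Over S} [GrpObj G] (D : Red.SplitRed G)

theorem affSmooth_torus : AffSmooth D.T :=
  AffSmooth.of_iso ((Grp.forget (Over S)).mapIso D.split) (affSmooth_DS S D.M)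

theorem affSmooth_cell (n m : ℕ) :
    AffSmooth (RedSub.pow (Red.Ga S) n ⊗ (D.T ⊗ RedSub.pow (Red.Ga S) m)) :=
  (affSmooth_ga.pow n).tensor ((affSmooth_torus D).tensor (affSmooth_ga.pow m))

theorem affSmooth_borel (m : ℕ) : AffSmooth (D.T ⊗ RedSub.pow (Red.Ga S) m) :=
  (affSmooth_torus D).tensor (affSmooth_ga.pow m)

end Groth.L14.Chev.Cell
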