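import Groth.Agent.L14.Chev.Cell.Inject
import Groth.Agent.L14.Chev.Cell.Gen
import Groth.Agent.L14.Chev.Cell.Space

/-!
Points of the big cell: injectivity, generated groups, and lifting of infinitesimal neighbours.
-/

set_option autoImplicit false
universe u

open CategoryTheory CategoryTheory.Limits AlgebraicGeometry MonoidalCategory CartesianMonoidalCategory MonObj
open Groth.L14.RankOne Groth.L25 Groth.L14.Chart

set_option backward.isDefEq.respectTransparency.types false
set_option linter.style.haveILetI false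
set_option linter.unusedSectionVars false

noncomputable section

namespace Groth.L14.Chev.Cell

variable {S : Scheme.{u}} {G : Over S} [GrpObj G] {D : Red.SplitRed G}

/-- The domain of the big cell map. -/
abbrev cellSpace (D : Red.SplitRed G) (n m : ℕ) : Over S :=
  RedSub.pow (Red.Ga S) n ⊗ (D.T ⊗ RedSub.pow (Red.Ga S) m)

variable {b : D.P.Base} {n m : ℕ} {eneg : Fin n → D.idx} {epos : Fin m → D.idx}
  {R : Type u} [CommRing R] {j : Spec (CommRingCat.of R) ⟶ S} {C : Type u} [CommRing C] [Algebra R C]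

theorem hasLam (b : D.P.Base) : ∃ lam : D.M →+ ℤ, ∀ c : D.idx,
    (c ∈ RedSub.posRoots D.P b → 0 < lam (D.P.root c)) ∧ (c ∈ RedSub.negRoots D.P b → lam (D.P.root c) < 0) := by
  haveI : Finite D.idx := Finite.of_fintype _
  exact exists_lam D.P b

theorem mem_list_iff {Ψ : Set D.idx} {k : ℕ} {e : Fin k → D.idx} (he : RedSub.Enumerates Ψ e) (c : D.idx) :
    c ∈ List.ofFn e ↔ c ∈ Ψ := by
  rw [List.mem_ofFn, ← he.2]
  rfl

theorem nodup_list {Ψ : Set D.idx} {k : ℕ} {e : Fin k → D.idx} (he : RedSub.Enumerates Ψ e) : (List.ofFn e).Nodup :=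
  List.nodup_ofFn.2 he.1

theorem closed_posRoots (b : D.P.Base) (a c d : D.idx) (ha : a ∈ RedSub.posRoots D.P b)
    (hc : c ∈ RedSub.posRoots D.P b) (h : D.P.root a + D.P.root c = D.P.root d) : d ∈ RedSub.posRoots D.P b := by
  show D.P.root d ∈ AddSubmonoid.closure _
  exact h ▸ add_mem ha hc

theorem closed_negRoots (b : D.P.Base) (a c d : D.idx) (ha : a ∈ RedSub.negRoots D.P b)
    (hc : c ∈ RedSub.negRoots D.P b) (h : D.P.root a + D.P.root c = D.P.root d) : d ∈ RedSub.negRoots D.P b := by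
  show -D.P.root d ∈ AddSubmonoid.closure _
  rw [← h, neg_add]
  exact add_mem ha hc

theorem exists_filt_pos (b : D.P.Base) : ∃ lv, Filt D (RedSub.posRoots D.P b) lv := by
  haveI : Finite D.idx := Finite.of_fintype _
  obtain ⟨lam, hl⟩ := hasLam b
  exact ⟨_, filt_of_closed (closed_posRoots b) lam fun a ha => (hl a).1 ha⟩

theorem exists_filt_neg (b : D.P.Base) : ∃ lv, Filt D (RedSub.negRoots D.P b) lv := by
  haveI : Finite D.idx := Finite.of_fintype _
  obtain ⟨lam, hl⟩ := hasLam b
  exact ⟨_, filt_of_closed (closed_negRoots b) (-lam) fun a ha => by simpa using (hl a).2 ha⟩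

/-- Root point products of the negative part of a point. -/
theorem exists_coords (t : Sp j C ⟶ cellSpace D n m) (hn : Function.Injective eneg) (hm : Function.Injective epos) :
    ∃ (χ : Multiplicative D.M →* C) (y x : D.idx → C),
      t ≫ RedSub.cellMap D eneg epos =
        rootProd j D.u (List.ofFn eneg) y * ((tpt D j χ ≫ D.i) * rootProd j D.u (List.ofFn epos) x) ∧
      t = lift (tup n fun k => gp j (y (eneg k))) (lift (tpt D j χ) (tup m fun k => gp j (x (epos k)))) := by
  obtain ⟨χ, hχ⟩ := exists_tpt j (t ≫ snd _ _ ≫ fst _ _)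
  refine ⟨χ, coordsOf eneg fun k => gv ((t ≫ fst _ _) ≫ proj _ n k),
    coordsOf epos fun k => gv ((t ≫ snd _ _ ≫ snd _ _) ≫ proj _ m k), ?_, ?_⟩
  · rw [comp_cellMap, hχ, ofFn_prod_eq_rootProd j hn, ofFn_prod_eq_rootProd j hm]
  · simp only [coordsOf_apply hn, coordsOf_apply hm, gp_gv, tup_eta, hχ]
    ext1
    · rw [lift_fst]
    · rw [lift_snd]
      ext1
      · rw [lift_fst, Category.assoc]
      · rw [lift_snd, Category.assoc]

theorem lift_cellMap (χ : Multiplicative D.M →* C) (y x : D.idx → C) :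
    lift (tup n fun k => gp j (y (eneg k))) (lift (tpt D j χ) (tup m fun k => gp j (x (epos k)))) ≫
        RedSub.cellMap D eneg epos =
      rootProd j D.u (List.ofFn eneg) y * ((tpt D j χ ≫ D.i) * rootProd j D.u (List.ofFn epos) x) := by
  rw [comp_cellMap, rootProd_ofFn, rootProd_ofFn]
  simp only [lift_fst, lift_snd_assoc, lift_snd, tup_proj]

variable [IsOpenImmersion j]

/-- The big cell map is injective on points over affine open subschemes of the base. -/
theorem cellMap_injective (hneg : RedSub.Enumerates (RedSub.negRoots D.P b) eneg)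
    (hpos : RedSub.Enumerates (RedSub.posRoots D.P b) epos) {t t' : Sp j C ⟶ cellSpace D n m}
    (h : t ≫ RedSub.cellMap D eneg epos = t' ≫ RedSub.cellMap D eneg epos) : t = t' := by
  obtain ⟨lam, hl⟩ := hasLam b
  obtain ⟨χ, y, x, e, et⟩ := exists_coords t hneg.1 hpos.1
  obtain ⟨χ', y', x', e', et'⟩ := exists_coords t' hneg.1 hpos.1
  rw [e, e'] at h
  obtain ⟨rfl, hy, hx⟩ := cell_injective D.rootHom (mu := lam) (nodup_list hneg) (nodup_list hpos)
    (fun c hc => (hl c).2 ((mem_list_iff hneg c).1 hc)) (fun c hc => (hl c).1 ((mem_list_iff hpos c).1 hc)) h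
  rw [et, et', show (fun k => gp j (y (eneg k))) = fun k => gp j (y' (eneg k)) from
      funext fun k => congrArg (gp j) (hy _ ((mem_list_iff hneg _).2 (hneg.2 ▸ Set.mem_range_self k))),
    show (fun k => gp j (x (epos k))) = fun k => gp j (x' (epos k)) from
      funext fun k => congrArg (gp j) (hx _ ((mem_list_iff hpos _).2 (hpos.2 ▸ Set.mem_range_self k)))]

theorem nodup_neg_append_pos (hneg : RedSub.Enumerates (RedSub.negRoots D.P b) eneg)
    (hpos : RedSub.Enumerates (RedSub.posRoots D.P b) epos) : (List.ofFn eneg ++ List.ofFn epos).Nodup := by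
  obtain ⟨lam, hl⟩ := hasLam b
  refine List.nodup_append.2 ⟨nodup_list hneg, nodup_list hpos, fun a ha c hc e => ?_⟩
  subst e
  have h1 := (hl a).2 ((mem_list_iff hneg a).1 ha)
  have h2 := (hl a).1 ((mem_list_iff hpos a).1 hc)
  omega

/-- Infinitesimal neighbours of points of the big cell are in the big cell. -/
theorem exists_lift_point (hneg : RedSub.Enumerates (RedSub.negRoots D.P b) eneg)
    (hpos : RedSub.Enumerates (RedSub.posRoots D.P b) epos) (I : Ideal C) (hI : IsNilpotent I)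
    (t₁ : Sp j C ⟶ cellSpace D n m) (p : Sp j C ⟶ G)
    (h : mor j (Ideal.Quotient.mkₐ R I) ≫ p =
      mor j (Ideal.Quotient.mkₐ R I) ≫ t₁ ≫ RedSub.cellMap D eneg epos) :
    ∃ t : Sp j C ⟶ cellSpace D n m, t ≫ RedSub.cellMap D eneg epos = p := by
  haveI : Finite D.idx := Finite.of_fintype _
  haveI := isMonHom_i (D := D)
  haveI : ∀ c, IsMonHom (D.u c) := fun c => (D.rootHom c).1
  obtain ⟨lvn, hFn⟩ := exists_filt_neg (D := D) b
  obtain ⟨lvp, hFp⟩ := exists_filt_pos (D := D) b
  obtain ⟨χ, y, x, e, -⟩ := exists_coords t₁ hneg.1 hpos.1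
  rw [e] at h
  let An := rootProd j D.u (List.ofFn eneg) y
  let Tn := tpt D j χ ≫ D.i
  let Bn := rootProd j D.u (List.ofFn epos) x
  have h1 : mor j (Ideal.Quotient.mkₐ R I) ≫ ((An * Tn)⁻¹ * p * Bn⁻¹) = 1 := by
    rw [MonObj.comp_mul, MonObj.comp_mul, h, ← MonObj.comp_mul, ← MonObj.comp_mul,
      show (An * Tn)⁻¹ * (An * (Tn * Bn)) * Bn⁻¹ = 1 by group, MonObj.comp_one]
  obtain ⟨d, -, hd⟩ := exists_coord j D.rootHom (l := List.ofFn eneg ++ List.ofFn epos)
    (nodup_neg_append_pos hneg hpos)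
    (fun c => List.mem_append.2 ((pos_or_neg D.P b c).symm.imp (mem_list_iff hneg c).2 (mem_list_iff hpos c).2))
    I hI _ h1
  rw [chart, show rootProd j D.u (List.ofFn eneg ++ List.ofFn epos) d.co =
    rootProd j D.u (List.ofFn eneg) d.co * rootProd j D.u (List.ofFn epos) d.co by
      simp only [rootProd, List.map_append, List.prod_append]] at hd
  let τ := χ * d.tor
  let y'' : D.idx → C := fun c => τ (Multiplicative.ofAdd (D.P.root c)) * d.co c
  have hA : An * rootProd j D.u (List.ofFn eneg) y'' ∈ gen j C D.u (RedSub.negRoots D.P b) lvn 0 :=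
    mul_mem (rootProd_mem_gen D.rootHom fun c hc _ => ⟨(mem_list_iff hneg c).1 hc, Nat.zero_le _⟩)
      (rootProd_mem_gen D.rootHom fun c hc _ => ⟨(mem_list_iff hneg c).1 hc, Nat.zero_le _⟩)
  have hB : rootProd j D.u (List.ofFn epos) d.co * Bn ∈ gen j C D.u (RedSub.posRoots D.P b) lvp 0 :=
    mul_mem (rootProd_mem_gen D.rootHom fun c hc _ => ⟨(mem_list_iff hpos c).1 hc, Nat.zero_le _⟩)
      (rootProd_mem_gen D.rootHom fun c hc _ => ⟨(mem_list_iff hpos c).1 hc, Nat.zero_le _⟩)
  obtain ⟨y', hy'⟩ := (mem_gen_iff D.rootHom hFn (nodup_list hneg) (mem_list_iff hneg)).1 hA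
  obtain ⟨x', hx'⟩ := (mem_gen_iff D.rootHom hFp (nodup_list hpos) (mem_list_iff hpos)).1 hB
  refine ⟨lift (tup n fun k => gp j (y' (eneg k))) (lift (tpt D j τ) (tup m fun k => gp j (x' (epos k)))), ?_⟩
  rw [lift_cellMap, hy', hx']
  have h2 : (tpt D j τ ≫ D.i) * rootProd j D.u (List.ofFn eneg) d.co * (tpt D j τ ≫ D.i)⁻¹ =
      rootProd j D.u (List.ofFn eneg) y'' := conj_rootProd j D.rootHom τ _ _
  rw [← h2, show (tpt D j τ ≫ D.i) = Tn * (tpt D j d.tor ≫ D.i) by rw [tpt_mul, MonObj.mul_comp]]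
  calc _ = An * Tn * ((tpt D j d.tor ≫ D.i) *
        (rootProd j D.u (List.ofFn eneg) d.co * rootProd j D.u (List.ofFn epos) d.co)) * Bn := by group
    _ = p := by rw [hd]; group

end Groth.L14.Chev.Cell
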