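import Groth.Agent.L14.Chev.Cell.SimpleCover

/-!
Products of simple root sections translate the big cell over the whole group: the underlying spaces.
-/

set_option autoImplicit false
universe u

open CategoryTheory CategoryTheory.Limits AlgebraicGeometry MonoidalCategory CartesianMonoidalCategory MonObj
open Groth.L14.RankOne Groth.L25 Groth.L14.Chart

set_option backward.isDefEq.respectTransparency.types false
set_option linter.style.haveILetI false
set_option linter.unusedSectionVars false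
set_option maxHeartbeats 1000000

noncomputable section

namespace Groth.L14.Chev.Cell

variable {S : Scheme.{u}} {G : Over S} [GrpObj G] {D : Red.SplitRed G} {b : D.P.Base} {n m : ℕ}
  {eneg : Fin n → D.idx} {epos : Fin m → D.idx}

theorem gv_toUnit_ne_zero {R : Type u} [CommRing R] {j : Spec (CommRingCat.of R) ⟶ S} {K : Type u} [Field K]
    [Algebra R K] {x : 𝟙_ (Over S) ⟶ Red.Ga S} (hx : IsUnit (Red.gaFn x)) : gv (toUnit (Sp j K) ≫ x) ≠ 0 := by
  refine IsUnit.ne_zero ?_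
  rw [gv, GaPts.gaFn_comp]
  exact (hx.map _).map _

theorem apply_mem_range {R : Type u} [CommRing R] {j : Spec (CommRingCat.of R) ⟶ S} {K : Type u} [CommRing K]
    [Algebra R K] {X : Over S} {f : X ⟶ G} {g : Sp j K ⟶ G} (t : Sp j K ⟶ X) (h : t ≫ f = g) (p : (Sp j K).left) :
    g.left p ∈ Set.range f.left := by
  subst h
  exact ⟨t.left p, (Scheme.Hom.comp_apply _ _ _).symm⟩

/-- The big cell times an opposite simple root section. -/
theorem range_mul_negSimple (hneg : RedSub.Enumerates (RedSub.negRoots D.P b) eneg)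
    (hpos : RedSub.Enumerates (RedSub.posRoots D.P b) epos) {a : D.idx} (ha : a ∈ b.support)
    (x : 𝟙_ (Over S) ⟶ Red.Ga S) (hx : IsUnit (Red.gaFn x)) (y : 𝟙_ (Over S) ⟶ Red.Ga S) :
    Set.range (RedSub.cellMap D eneg epos * (toUnit _ ≫ y ≫ D.u (D.P.reflectionPerm a a))).left ⊆
      Set.range (RedSub.cellMap D eneg epos).left ∪
        Set.range ((toUnit _ ≫ x ≫ D.u a) * RedSub.cellMap D eneg epos).left := by
  haveI : Finite D.idx := Finite.of_fintype _
  rintro _ ⟨q, rfl⟩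
  obtain ⟨R, _, j, _, K, _, _, _, t, p, rfl⟩ := exists_geom_chart_through (X := cellSpace D n m) q
  obtain ⟨lv, hF⟩ := exists_filt_pos (D := D) b
  obtain ⟨lvn, hFn⟩ := exists_filt_neg (D := D) b
  rw [← Scheme.Hom.comp_apply, ← Over.comp_left, MonObj.comp_mul, ← Category.assoc t (toUnit _),
    toUnit_unique (t ≫ toUnit _) (toUnit _), ← Category.assoc (toUnit (Sp j K)) y, ← gp_gv (toUnit (Sp j K) ≫ y)]
  have hg : t ≫ RedSub.cellMap D eneg epos ∈ CellPts D j K b lvn lv :=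
    (mem_cellPts_iff hneg hpos hFn hF).2 ⟨t, rfl⟩
  rcases cellPts_mul_negSimple ha hFn hF hg (gv (toUnit (Sp j K) ≫ y))
    (gv_toUnit_ne_zero (j := j) (K := K) hx) with h | ⟨w, hw, h⟩
  · obtain ⟨t', ht'⟩ := (mem_cellPts_iff hneg hpos hFn hF).1 h
    exact Or.inl (apply_mem_range t' ht' p)
  · obtain ⟨t', rfl⟩ := (mem_cellPts_iff hneg hpos hFn hF).1 hw
    refine Or.inr (apply_mem_range t' ?_ p)
    rw [h, MonObj.comp_mul, ← Category.assoc t' (toUnit _), toUnit_unique (t' ≫ toUnit _) (toUnit _), gp_gv,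
      Category.assoc]

/-- Translates by products of simple root sections cover the points over algebraically closed fields. -/
theorem exists_submonoid_translate {R : Type u} [CommRing R] {j : Spec (CommRingCat.of R) ⟶ S} [IsOpenImmersion j]
    {K : Type u} [Field K] [IsAlgClosed K] [Algebra R K] {lvn lv : D.idx → ℕ}
    (hFn : Filt D (RedSub.negRoots D.P b) lvn) (hF : Filt D (RedSub.posRoots D.P b) lv)
    (x : D.idx → (𝟙_ (Over S) ⟶ Red.Ga S)) (hx : ∀ a ∈ b.support, IsUnit (Red.gaFn (x a))) (g : Sp j K ⟶ G) :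
    ∃ w ∈ Submonoid.closure {g : 𝟙_ (Over S) ⟶ G | ∃ a ∈ b.support, g = x a ≫ D.u a},
      ∃ c ∈ CellPts D j K b lvn lv, g = (toUnit (Sp j K) ≫ w) * c := by
  haveI : ∀ c, IsMonHom (D.u c) := fun c => (D.rootHom c).1
  haveI := isMonHom_i (D := D)
  haveI : Finite D.idx := Finite.of_fintype _
  let U := Submonoid.closure {g : 𝟙_ (Over S) ⟶ G | ∃ a ∈ b.support, g = x a ≫ D.u a}
  let Z : Set (Sp j K ⟶ G) := {g | ∃ w ∈ U, ∃ c ∈ CellPts D j K b lvn lv, g = (toUnit (Sp j K) ≫ w) * c}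
  show g ∈ Z
  let H : Subgroup (Sp j K ⟶ G) :=
    { carrier := {h | ∀ z ∈ Z, z * h ∈ Z ∧ z * h⁻¹ ∈ Z}
      one_mem' := fun z hz => by simp [hz]
      mul_mem' := fun {p q} hp hq z hz => by
        constructor
        · rw [← _root_.mul_assoc]; exact (hq _ (hp z hz).1).1
        · rw [mul_inv_rev, ← _root_.mul_assoc]; exact (hp _ (hq z hz).2).2
      inv_mem' := fun {p} hp z hz => ⟨(hp z hz).2, by rw [_root_.inv_inv]; exact (hp z hz).1⟩ }
  have hB : ∀ q ∈ borelPts D b j K lv, ∀ z ∈ Z, z * q ∈ Z := by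
    rintro q hq _ ⟨w, hw, c, hc, rfl⟩
    exact ⟨w, hw, c * q, cellPts_mul hc hq, _root_.mul_assoc _ _ _⟩
  have hBH : ∀ q ∈ borelPts D b j K lv, q ∈ H := fun q hq z hz => ⟨hB q hq z hz, hB _ (borelPts_inv hq) z hz⟩
  have hneg : ∀ a ∈ b.support, ∀ s : K, ∀ z ∈ Z, z * (gp j s ≫ D.u (D.P.reflectionPerm a a)) ∈ Z := by
    rintro a ha s _ ⟨w, hw, c, hc, rfl⟩
    rw [_root_.mul_assoc]
    rcases cellPts_mul_negSimple ha hFn hF hc s (gv_toUnit_ne_zero (j := j) (K := K) (hx a ha)) with h | ⟨c', hc', h⟩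
    · exact ⟨w, hw, _, h, rfl⟩
    · refine ⟨w * (x a ≫ D.u a), mul_mem hw (Submonoid.subset_closure ⟨a, ha, rfl⟩), c', hc', ?_⟩
      rw [h, gp_gv, MonObj.comp_mul, Category.assoc, _root_.mul_assoc]
  have hHT : ∀ χ : Multiplicative D.M →* K, tpt D j χ ≫ D.i ∈ H := fun χ => hBH _ (tpt_mem_borelPts χ)
  have hHu : ∀ a ∈ b.support, ∀ s : K, gp j s ≫ D.u a ∈ H ∧ gp j s ≫ D.u (D.P.reflectionPerm a a) ∈ H :=
    fun a ha s => ⟨hBH _ (gp_mem_borelPts (simple_pos D.P b ha) s), fun z hz => ⟨hneg a ha s z hz, by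
      rw [show (gp j s ≫ D.u (D.P.reflectionPerm a a))⁻¹ = gp j (-s) ≫ D.u (D.P.reflectionPerm a a) by rw [gp_neg, GrpObj.inv_comp]]; exact hneg a ha (-s) z hz⟩⟩
  obtain ⟨hroot, hν⟩ := mem_of_simple b H hHT hHu
  choose nr hnr using D.refl
  have hn : ∀ a, ActsBy (nr a) a := fun a => actsBy_of_refl (hnr a)
  obtain ⟨l, p, hp, q, hq, hg⟩ := exists_bruhat b b hF hn (lv := lv) g
  have hword : ∀ w : List D.idx, wpt j K nr w ∈ H := fun w => by
    induction w with
    | nil => rw [wpt_nil]; exact one_mem _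
    | cons a w ih => rw [wpt_cons]; exact mul_mem (hν a _ (hn a)) ih
  have h1 : (1 : Sp j K ⟶ G) ∈ Z :=
    ⟨1, one_mem _, 1, ⟨1, one_mem _, 1, borelPts_one, (_root_.one_mul _).symm⟩, by simp [MonObj.comp_one]⟩
  have hgH : g ∈ H := by rw [hg]; exact mul_mem (mul_mem (hBH _ hp) (hword l)) (hBH _ hq)
  simpa using (hgH 1 h1).1

/-- Translates by products of simple root sections cover the group. -/
theorem exists_translate_simple (hneg : RedSub.Enumerates (RedSub.negRoots D.P b) eneg)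
    (hpos : RedSub.Enumerates (RedSub.posRoots D.P b) epos)
    (x : D.idx → (𝟙_ (Over S) ⟶ Red.Ga S)) (hx : ∀ a ∈ b.support, IsUnit (Red.gaFn (x a))) (p : G.left) :
    ∃ w ∈ Submonoid.closure {g : 𝟙_ (Over S) ⟶ G | ∃ a ∈ b.support, g = x a ≫ D.u a},
      p ∈ Set.range ((toUnit _ ≫ w) * RedSub.cellMap D eneg epos).left.base := by
  haveI : Finite D.idx := Finite.of_fintype _
  obtain ⟨R, _, j, _, K, _, _, _, g, q, rfl⟩ := exists_geom_chart_through p
  obtain ⟨lv, hF⟩ := exists_filt_pos (D := D) b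
  obtain ⟨lvn, hFn⟩ := exists_filt_neg (D := D) b
  obtain ⟨w, hw, c, hc, rfl⟩ := exists_submonoid_translate hFn hF x hx g
  obtain ⟨t, rfl⟩ := (mem_cellPts_iff hneg hpos hFn hF).1 hc
  refine ⟨w, hw, apply_mem_range t ?_ q⟩
  rw [MonObj.comp_mul, ← Category.assoc t (toUnit _), toUnit_unique (t ≫ toUnit _) (toUnit _)]

/-- In semisimple rank one two translates of the big cell cover. -/
theorem cover_rankOne (hneg : RedSub.Enumerates (RedSub.negRoots D.P b) eneg)
    (hpos : RedSub.Enumerates (RedSub.posRoots D.P b) epos) {a : D.idx} (ha : a ∈ RedSub.posRoots D.P b)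
    (hR : ∀ c : D.idx, c = a ∨ c = D.P.reflectionPerm a a)
    (x : 𝟙_ (Over S) ⟶ Red.Ga S) (hx : IsUnit (Red.gaFn x)) (p : G.left) :
    p ∈ Set.range (RedSub.cellMap D eneg epos).left.base ∨
      p ∈ Set.range ((toUnit _ ≫ x ≫ D.u a) * RedSub.cellMap D eneg epos).left.base := by
  classical
  haveI : Finite D.idx := Finite.of_fintype _
  haveI : ∀ c, IsMonHom (D.u c) := fun c => (D.rootHom c).1
  haveI := isMonHom_i (D := D)
  have hsup : ∀ c ∈ b.support, c = a := fun c hc => (hR c).resolve_right fun h => by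
    obtain ⟨lam, hl⟩ := hasLam b
    have h1 := (hl a).1 ha
    have h2 := (hl c).1 (simple_pos D.P b hc)
    rw [h, root_neg', map_neg] at h2
    omega
  have haS : a ∈ b.support := by
    by_contra hna
    have he : b.support = ∅ := Finset.eq_empty_of_forall_notMem fun c hc => hna (hsup c hc ▸ hc)
    have h2 : D.P.root a ∈ AddSubmonoid.closure (D.P.root '' (b.support : Set D.idx)) := ha
    rw [he, Finset.coe_empty, Set.image_empty, AddSubmonoid.closure_empty, AddSubmonoid.mem_bot] at h2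
    exact D.P.ne_zero a h2
  obtain ⟨R, _, j, _, K, _, _, _, g, q, rfl⟩ := exists_geom_chart_through p
  obtain ⟨lv, hF⟩ := exists_filt_pos (D := D) b
  obtain ⟨lvn, hFn⟩ := exists_filt_neg (D := D) b
  obtain ⟨w, hw, c, ⟨y, hy, u, ⟨χ, v, hv, rfl⟩, rfl⟩, hg⟩ := exists_submonoid_translate hFn hF (fun _ => x) (fun _ _ => hx) g
  obtain ⟨r, hr⟩ : ∃ r : K, toUnit (Sp j K) ≫ w = gp j r ≫ D.u a := by
    clear hg
    induction hw using Submonoid.closure_induction with
    | mem w hw =>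
      obtain ⟨c, hc, rfl⟩ := hw
      exact ⟨gv (toUnit (Sp j K) ≫ x), by rw [hsup c hc, gp_gv, Category.assoc]⟩
    | one => exact ⟨0, by rw [MonObj.comp_one, gp_zero, MonObj.one_comp]⟩
    | mul u v _ _ hu hv =>
      obtain ⟨r, hr⟩ := hu
      obtain ⟨r', hr'⟩ := hv
      exact ⟨r + r', by rw [MonObj.comp_mul, hr, hr', gp_add, MonObj.mul_comp]⟩
  obtain ⟨s, hs⟩ : ∃ s : K, y = gp j s ≫ D.u (D.P.reflectionPerm a a) := by
    obtain ⟨z, rfl⟩ := (mem_gen_iff D.rootHom hFn (nodup_list hneg) (mem_list_iff hneg)).1 hy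
    have hmem : D.P.reflectionPerm a a ∈ List.ofFn eneg := (mem_list_iff hneg _).2 (neg_simple_neg b haS)
    refine ⟨z _, rootProd_eq_single (nodup_list hneg) hmem fun c hc hne => absurd ?_ hne⟩
    refine (hR c).resolve_left fun h => ?_
    obtain ⟨lam, hl⟩ := hasLam b
    have h1 := (hl a).1 ha
    have h2 := (hl c).2 ((mem_list_iff hneg c).1 hc)
    rw [h] at h2
    omega
  obtain ⟨v', hv', e'⟩ : ∃ v' ∈ borelPts D b j K lv, (tpt D j χ ≫ D.i) * v = v' := ⟨_, ⟨χ, v, hv, rfl⟩, rfl⟩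
  have key : ∀ w ∈ Cell₁ D j K a, w * v' ∈ CellPts D j K b lvn lv := by
    rintro _ ⟨m', r', ψ, rfl⟩
    exact ⟨_, gp_mem_gen (neg_simple_neg b haS) (Nat.zero_le _) m', (tpt D j ψ ≫ D.i) * (gp j r' ≫ D.u a) * v',
      borelPts_mul (borelPts_mul (tpt_mem_borelPts ψ) (gp_mem_borelPts ha r')) hv', by group⟩
  have eg : g = (gp j (0 : K) ≫ D.u (D.P.reflectionPerm a a)) * (gp j r ≫ D.u a) *
      (gp j s ≫ D.u (D.P.reflectionPerm a a)) * v' := by
    rw [hg, hr, hs, e', gp_zero, MonObj.one_comp, _root_.one_mul, _root_.mul_assoc]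
  rcases rankOne_cases (j := j) b haS 0 r s (gv_toUnit_ne_zero (j := j) (K := K) hx) with h | ⟨w', hw', h⟩
  · obtain ⟨t, ht⟩ := (mem_cellPts_iff hneg hpos hFn hF).1 (key _ h)
    exact Or.inl (apply_mem_range t (ht.trans eg.symm) q)
  · obtain ⟨t, ht⟩ := (mem_cellPts_iff hneg hpos hFn hF).1 (key _ hw')
    refine Or.inr (apply_mem_range t ?_ q)
    rw [eg, h, MonObj.comp_mul, ← Category.assoc t (toUnit _), toUnit_unique (t ≫ toUnit _) (toUnit _), ht, gp_gv,
      Category.assoc, _root_.mul_assoc]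

end Groth.L14.Chev.Cell
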