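import Groth.Agent.L14.RankOne.NonComm
import Groth.Agent.L14.Chev.Cell.Scale
import Groth.Agent.L08.Borel.Points

/-!
Points of a geometric fibre over a chart.
-/

set_option autoImplicit false
universe u

open CategoryTheory CategoryTheory.Limits AlgebraicGeometry MonoidalCategory CartesianMonoidalCategory MonObj
open Groth.L14.RankOne Groth.L25 Groth.L14.Chart

set_option backward.isDefEq.respectTransparency.types false
set_option linter.style.haveILetI false
set_option linter.unusedSectionVars false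

noncomputable section

namespace Groth.L14.Chev.Cell

variable {S : Scheme.{u}} {R : Type u} [CommRing R] (j : Spec (CommRingCat.of R) ⟶ S) (K : Type u) [Field K]
  [Algebra R K]

/-- The point of the base under a chart point. -/
abbrev qK : Spec (CommRingCat.of K) ⟶ S := Spec.map (CommRingCat.ofHom (algebraMap R K)) ≫ j

/-- The unit object as a point of the chart. -/
def unitTo : Over.mk ((𝟙_ (Over (Spec (CommRingCat.of K)))).hom ≫ qK j K) ⟶ Sp j K :=
  Over.homMk (𝟙 _) (by
    show 𝟙 _ ≫ qK j K = 𝟙 _ ≫ qK j K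
    rfl)

/-- A chart point as the unit object. -/
def toUnitK : Sp j K ⟶ Over.mk ((𝟙_ (Over (Spec (CommRingCat.of K)))).hom ≫ qK j K) :=
  Over.homMk (𝟙 _) (by
    show 𝟙 _ ≫ 𝟙 _ ≫ qK j K = _
    rw [Category.id_comp, Category.id_comp]; rfl)

theorem unitTo_toUnitK : unitTo j K ≫ toUnitK j K = 𝟙 _ := Over.OverMorphism.ext (Category.id_comp _)

theorem toUnitK_unitTo : toUnitK j K ≫ unitTo j K = 𝟙 _ := Over.OverMorphism.ext (Category.id_comp _)

/-- Points of the fibre are points over the chart. -/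
def ptBC {X : Over S} : (𝟙_ (Over (Spec (CommRingCat.of K))) ⟶ Red.bc (qK j K) X) ≃ (Sp j K ⟶ X) where
  toFun x := toUnitK j K ≫ NilAction.toBase (qK j K) x
  invFun g := NilAction.ofBase (qK j K) (unitTo j K ≫ g)
  left_inv x := by
    show NilAction.ofBase _ (unitTo j K ≫ toUnitK j K ≫ _) = x
    rw [← Category.assoc, unitTo_toUnitK, Category.id_comp, NilAction.ofBase_toBase]
  right_inv g := by
    show toUnitK j K ≫ NilAction.toBase _ (NilAction.ofBase _ _) = g
    rw [NilAction.toBase_ofBase, ← Category.assoc, toUnitK_unitTo, Category.id_comp]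

theorem ptBC_comp {X X' : Over S} (x : 𝟙_ (Over (Spec (CommRingCat.of K))) ⟶ Red.bc (qK j K) X) (f : X ⟶ X') :
    ptBC j K (x ≫ (Over.pullback (qK j K)).map f) = ptBC j K x ≫ f := by
  show toUnitK j K ≫ NilAction.toBase _ _ = (toUnitK j K ≫ _) ≫ f
  rw [toBase_comp_map, Category.assoc]

theorem ptBC_symm_comp {X X' : Over S} (g : Sp j K ⟶ X) (f : X ⟶ X') :
    (ptBC j K).symm g ≫ (Over.pullback (qK j K)).map f = (ptBC j K).symm (g ≫ f) :=
  (ptBC j K).injective (by rw [ptBC_comp, Equiv.apply_symm_apply, Equiv.apply_symm_apply])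

/-- Points of the fibre of a group form the group of points over the chart. -/
def ptHom (G : Over S) [GrpObj G] :
    (𝟙_ (Over (Spec (CommRingCat.of K))) ⟶ Red.bc (qK j K) G) →* (Sp j K ⟶ G) where
  toFun := ptBC j K
  map_one' := by
    show toUnitK j K ≫ NilAction.toBase _ 1 = 1
    rw [NilAction.toBase_one, MonObj.comp_one]
  map_mul' a b := by
    show toUnitK j K ≫ NilAction.toBase _ (a * b) = _
    rw [NilAction.toBase_mul, MonObj.comp_mul]
    rfl

theorem ptBC_closedPoint {X : Over S} (x : 𝟙_ (Over (Spec (CommRingCat.of K))) ⟶ Red.bc (qK j K) X) :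
    (ptBC j K x).left (IsLocalRing.closedPoint K) =
      (pullback.fst X.hom (qK j K)) (Groth.L08.Borel.ptOf x) := by
  show (𝟙 _ ≫ x.left ≫ pullback.fst X.hom (qK j K)) _ = _
  rw [Category.id_comp]
  rfl

/-- Base change of homomorphisms are homomorphisms. -/
theorem isMonHom_bcMap {P : Scheme.{u}} (q : P ⟶ S) {A B : Over S} [GrpObj A] [GrpObj B] (f : A ⟶ B) [IsMonHom f] :
    @IsMonHom _ _ _ (Red.bc q A) (Red.bc q B) _ _ ((Over.pullback q).map f) :=
  ((Over.pullback q).mapGrp.map (Grp.homMk'' (A := Grp.mk A) (B := Grp.mk B) f (IsMonHom.one_hom f)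
    (IsMonHom.mul_hom f))).hom.isMonHom_hom

theorem mono_bcMap {P : Scheme.{u}} (q : P ⟶ S) {A B : Over S} (f : A ⟶ B) [Mono f] :
    Mono ((Over.pullback q).map f) := inferInstance

theorem toBase_injective' {P : Scheme.{u}} (q : P ⟶ S) {X : Over S} {Y : Over P} {a b : Y ⟶ Red.bc q X}
    (h : NilAction.toBase q a = NilAction.toBase q b) : a = b := by
  rw [← NilAction.ofBase_toBase q a, h, NilAction.ofBase_toBase]

/-- The base change of a solvable group is solvable. -/
theorem isSolvableGrp_bc {P : Scheme.{u}} (q : P ⟶ S) {B : Over S} [GrpObj B] (h : Red.IsSolvableGrp B) :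
    Red.IsSolvableGrp (Red.bc q B) := by
  obtain ⟨n, hn⟩ := h
  refine ⟨n, fun X => (Subgroup.eq_bot_iff_forall _).2 fun a ha => ?_⟩
  let Φ : (X ⟶ Red.bc q B) →* (Over.mk (X.hom ≫ q) ⟶ B) :=
    MonoidHom.mk' (NilAction.toBase q) (NilAction.toBase_mul q)
  have hm : Φ a ∈ derivedSeries (Over.mk (X.hom ≫ q) ⟶ B) n :=
    map_derivedSeries_le_derivedSeries Φ n ⟨a, ha, rfl⟩
  rw [hn, Subgroup.mem_bot] at hm
  exact toBase_injective' q (by rw [NilAction.toBase_one]; exact hm)

end Groth.L14.Chev.Cell
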