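import Groth.Agent.L14.Chev.Cell.BorelGroup
import Groth.Agent.L14.Chev.Cell.FibrePts
import Groth.Agent.L14.Luna.SemiRank.RootBase
import Groth.Agent.L14.Luna.SemiRank.SplitField

/-!
The subgroup spanned by the root groups of a closed set of roots without opposite roots.
-/

set_option autoImplicit false
universe u

open CategoryTheory CategoryTheory.Limits AlgebraicGeometry MonoidalCategory CartesianMonoidalCategory MonObj
open Groth.L14.RankOne Groth.L25 Groth.L14.Chart

set_option backward.isDefEq.respectTransparency.types false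
set_option linter.style.haveILetI false
set_option linter.unusedSectionVars false
set_option maxHeartbeats 1000000

noncomputable section

namespace Groth.L14.Chev.Cell

section General

variable {S : Scheme.{u}}

theorem ofFn_prod_append {M : Type*} [Monoid M] {m k : ℕ} (f : Fin (m + k) → M) :
    (List.ofFn f).prod = (List.ofFn fun i => f (Fin.castAdd k i)).prod * (List.ofFn fun i => f (Fin.natAdd m i)).prod := by
  rw [List.ofFn_add, List.prod_append]
  rfl

/-- An iterated product of a sum of exponents is the product of the iterated products. -/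
def powAppend (X : Over S) (m k : ℕ) : RedSub.pow X m ⊗ RedSub.pow X k ≅ RedSub.pow X (m + k) where
  hom := tup (m + k) (Fin.append (fun i => fst _ _ ≫ proj X m i) fun i => snd _ _ ≫ proj X k i)
  inv := lift (tup m fun i => proj X (m + k) (Fin.castAdd k i)) (tup k fun i => proj X (m + k) (Fin.natAdd m i))
  hom_inv_id := by
    apply CartesianMonoidalCategory.hom_ext <;> refine pow_ext fun i => ?_
    · simp only [Category.assoc, lift_fst_assoc, tup_proj, Fin.append_left, Category.id_comp]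
    · simp only [Category.assoc, lift_snd_assoc, tup_proj, Fin.append_right, Category.id_comp]
  inv_hom_id := pow_ext fun i => by
    induction i using Fin.addCases with
    | left i => simp only [Category.assoc, tup_proj, Fin.append_left, lift_fst_assoc, Category.id_comp]
    | right i => simp only [Category.assoc, tup_proj, Fin.append_right, lift_snd_assoc, Category.id_comp]

theorem powAppend_prodMap {X G : Over S} [GrpObj G] {m k : ℕ} (f : Fin (m + k) → (X ⟶ G)) :
    (powAppend X m k).hom ≫ RedSub.prodMap X (m + k) f =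
      (fst _ _ ≫ RedSub.prodMap X m fun i => f (Fin.castAdd k i)) *
        (snd _ _ ≫ RedSub.prodMap X k fun i => f (Fin.natAdd m i)) := by
  rw [comp_prodMap, comp_prodMap, comp_prodMap, ofFn_prod_append]
  simp only [powAppend, tup_proj, Fin.append_left, Fin.append_right]

theorem connectedSpace_pow {K : Type u} [Field K] (g : Spec (CommRingCat.of K) ⟶ S) (m : ℕ) :
    ConnectedSpace (Red.bc g (RedSub.pow (Red.Ga S) m)).left := by
  let A := MvPolynomial (Fin m) K
  let W := RedSub.pow (Red.Ga S) m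
  let p : Sp g A ⟶ W := tup m fun k => gp g (MvPolynomial.X k : A)
  let φ : (Sp g A).left ⟶ (Red.bc g W).left :=
    pullback.lift p.left (Spec.map (CommRingCat.ofHom (algebraMap K A))) (Over.w p)
  haveI : Surjective φ := by
    refine ⟨fun v => ?_⟩
    let L : Type u := (Red.bc g W).left.residueField v
    let l : Spec (CommRingCat.of L) ⟶ Spec (CommRingCat.of K) :=
      (Red.bc g W).left.fromSpecResidueField v ≫ (Red.bc g W).hom
    letI : Algebra K L := (Spec.preimage l).hom.toAlgebra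
    have hl : Spec.map (CommRingCat.ofHom (algebraMap K L)) = l := Spec.map_preimage l
    let t : Sp g L ⟶ W := Over.homMk ((Red.bc g W).left.fromSpecResidueField v ≫ pullback.fst _ _) (by
      show (_ ≫ _) ≫ _ = Spec.map (CommRingCat.ofHom (algebraMap K L)) ≫ g
      rw [hl, Category.assoc, pullback.condition]
      exact (Category.assoc _ _ _).symm)
    let ev : A →ₐ[K] L := MvPolynomial.aeval fun k => gv (t ≫ proj (Red.Ga S) m k)
    have ht : mor g ev ≫ p = t := pow_ext fun k => by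
      simp only [p, Category.assoc, tup_proj, mor_gp, ev]
      exact (congrArg (gp g) (MvPolynomial.aeval_X _ k)).trans (gp_gv _)
    have e : (mor g ev).left ≫ φ = (Red.bc g W).left.fromSpecResidueField v := by
      apply pullback.hom_ext
      · rw [Category.assoc, pullback.lift_fst]
        exact congrArg CommaMorphism.left ht
      · rw [Category.assoc, pullback.lift_snd]
        show Spec.map _ ≫ Spec.map _ = _
        rw [← Spec.map_comp, ← CommRingCat.ofHom_comp, AlgHom.toRingHom_eq_coe, AlgHom.comp_algebraMap, hl]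
        rfl
    obtain ⟨z, hz⟩ : v ∈ Set.range ((Red.bc g W).left.fromSpecResidueField v) := by
      rw [Scheme.range_fromSpecResidueField]; rfl
    exact ⟨_, (congrArg (fun ψ : Spec (CommRingCat.of L) ⟶ (Red.bc g W).left => ψ z) e).trans hz⟩
  haveI : IrreducibleSpace (Sp g A).left := inferInstanceAs (IrreducibleSpace (PrimeSpectrum A))
  exact φ.surjective.connectedSpace φ.continuous

theorem exists_chart (s : S) : ∃ (R : Type u) (_ : CommRing R) (j : Spec (CommRingCat.of R) ⟶ S)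
    (_ : Algebra R (AlgebraicClosure (S.residueField s))),
    IsOpenImmersion j ∧ qK j (AlgebraicClosure (S.residueField s)) = Red.geomPt s := by
  obtain ⟨_, ⟨U, hU, rfl⟩, hsU, -⟩ := S.isBasis_affineOpens.exists_subset_of_mem_open (Set.mem_univ s) isOpen_univ
  have hr : Set.range (Red.geomPt s) ⊆ Set.range hU.fromSpec := by
    rintro _ ⟨x, rfl⟩
    rw [hU.range_fromSpec]
    have hs : (Red.geomPt s) x ∈ Set.range (S.fromSpecResidueField s) :=
      ⟨_, (Scheme.Hom.comp_apply _ _ _).symm⟩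
    rw [Scheme.range_fromSpecResidueField, Set.mem_singleton_iff] at hs
    rw [hs]
    exact hsU
  letI alg : Algebra Γ(S, U) (AlgebraicClosure (S.residueField s)) :=
    (Spec.preimage (IsOpenImmersion.lift hU.fromSpec (Red.geomPt s) hr)).hom.toAlgebra
  refine ⟨_, inferInstance, hU.fromSpec, alg, inferInstance, ?_⟩
  show Spec.map (CommRingCat.ofHom (algebraMap _ _)) ≫ hU.fromSpec = _
  rw [RingHom.algebraMap_toAlgebra, CommRingCat.ofHom_hom, Spec.map_preimage, IsOpenImmersion.lift_fac]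

end General

variable {S : Scheme.{u}} {G : Over S} [GrpObj G] {D : Red.SplitRed G} {Ψ : Set D.idx} {lv : D.idx → ℕ}
  {R : Type u} [CommRing R] {j : Spec (CommRingCat.of R) ⟶ S} {C : Type u} [CommRing C] [Algebra R C]

/-- The ordered product of root homomorphisms along an enumeration. -/
abbrev spanMap (D : Red.SplitRed G) {m : ℕ} (e : Fin m → D.idx) : RedSub.pow (Red.Ga S) m ⟶ G :=
  RedSub.prodMap (Red.Ga S) m fun k => D.u (e k)

theorem isClosedImmersion_spanMap_of_base (b : D.P.Base) (hΨ : Ψ ⊆ RedSub.posRoots D.P b) {m : ℕ}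
    {e : Fin m → D.idx} (he : RedSub.Enumerates Ψ e) : IsClosedImmersion (spanMap D e).left := by
  obtain ⟨k, e', he'⟩ := exists_enum (D := D) (RedSub.posRoots D.P b \ Ψ)
  have hE : RedSub.Enumerates (RedSub.posRoots D.P b) (Fin.append e e') := by
    refine ⟨Fin.append_injective_iff.2 ⟨he.1, he'.1, fun i l h => ?_⟩, ?_⟩
    · exact (he'.2 ▸ Set.mem_range_self l : e' l ∈ RedSub.posRoots D.P b \ Ψ).2 (h ▸ (he.2 ▸ Set.mem_range_self i))
    · refine Eq.trans ?_ (Set.union_sdiff_cancel hΨ)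
      rw [← he'.2, ← he.2]
      ext a
      refine ⟨?_, ?_⟩
      · rintro ⟨i, rfl⟩
        induction i using Fin.addCases with
        | left i => exact Or.inl ⟨i, (Fin.append_left e e' i).symm⟩
        | right i => exact Or.inr ⟨i, (Fin.append_right e e' i).symm⟩
      · rintro (⟨i, rfl⟩ | ⟨i, rfl⟩)
        · exact ⟨_, Fin.append_left e e' i⟩
        · exact ⟨_, Fin.append_right e e' i⟩
  haveI := isMonHom_i (D := D)
  haveI : ∀ c, IsMonHom (D.u c) := fun c => (D.rootHom c).1
  let X := Red.Ga S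
  let sec : RedSub.pow X m ⟶ D.T ⊗ RedSub.pow X (m + k) := lift 1 (tup (m + k) (Fin.append (proj X m) fun _ => 1))
  let ret : D.T ⊗ RedSub.pow X (m + k) ⟶ RedSub.pow X m :=
    snd _ _ ≫ tup m fun i => proj X (m + k) (Fin.castAdd k i)
  have hret : sec ≫ ret = 𝟙 _ := pow_ext fun i => by
    simp only [sec, ret, Category.assoc, tup_proj, lift_snd_assoc, Fin.append_left, Category.id_comp]
  have hsec : sec ≫ RedSub.borelMap D (Fin.append e e') = spanMap D e := by
    rw [comp_borelMap, ← Category.id_comp (spanMap D e), comp_prodMap, ofFn_prod_append]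
    simp only [sec, lift_snd, tup_proj, Fin.append_left, Fin.append_right, MonObj.one_comp,
      Category.id_comp, List.ofFn_const, List.prod_replicate, one_pow, _root_.mul_one]
    erw [lift_fst, MonObj.one_comp, _root_.one_mul]
  haveI := (affSmooth_borel D (m + k)).1
  haveI := (affSmooth_ga (S := S)).pow m |>.1
  haveI : IsClosedImmersion (sec.left ≫ ret.left) := by
    rw [← Over.comp_left, hret]
    exact inferInstanceAs (IsClosedImmersion (𝟙 _))
  haveI : IsSeparated ret.left := by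
    haveI : IsSeparated (ret.left ≫ (RedSub.pow X m).hom) := by rw [Over.w ret]; infer_instance
    exact IsSeparated.of_comp ret.left (RedSub.pow X m).hom
  haveI : IsClosedImmersion sec.left := IsClosedImmersion.of_comp sec.left ret.left
  haveI := isClosedImmersion_borelMap hE
  rw [← hsec, Over.comp_left]
  infer_instance

/-- The hypotheses on a set of roots. -/
def NoOpp (D : Red.SplitRed G) (Ψ : Set D.idx) : Prop :=
  (∀ a b c : D.idx, a ∈ Ψ → b ∈ Ψ → D.P.root a + D.P.root b = D.P.root c → c ∈ Ψ) ∧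
    ∀ a b : D.idx, a ∈ Ψ → D.P.root b = -D.P.root a → b ∉ Ψ

theorem exists_base_of_noOpp [Nonempty S] (h : NoOpp D Ψ) : ∃ b : D.P.Base, Ψ ⊆ RedSub.posRoots D.P b := by
  haveI : Finite D.idx := Finite.of_fintype _
  haveI : D.P.IsReduced := Groth.L14.Luna.SemiRank.isReduced_splitRed D
  exact Groth.L14.Luna.SemiRank.exists_base_ge (fun i l c hi hl e => h.1 i l c hi hl e.symm)
    fun i hi hi' => h.2 i _ hi (Groth.L24.RootD.root_neg (P := D.P) i) hi'

theorem exists_lam_of_noOpp [Nonempty S] (h : NoOpp D Ψ) :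
    ∃ lam : D.M →+ ℤ, ∀ a ∈ Ψ, 0 < lam (D.P.root a) := by
  obtain ⟨b, hb⟩ := exists_base_of_noOpp h
  obtain ⟨lam, hl⟩ := hasLam b
  exact ⟨lam, fun a ha => (hl a).1 (hb ha)⟩

variable (hF : Filt D Ψ lv)

/-- The enumeration spans the part of the set above a level. -/
def Level (D : Red.SplitRed G) (Ψ : Set D.idx) (lv : D.idx → ℕ) (n : ℕ) {m : ℕ} (e : Fin m → D.idx) : Prop :=
  RedSub.Enumerates {a | a ∈ Ψ ∧ n ≤ lv a} e

include hF in
theorem exists_pt_iff [IsOpenImmersion j] {n m : ℕ} {e : Fin m → D.idx} (he : Level D Ψ lv n e)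
    {g : Sp j C ⟶ G} : g ∈ gen j C D.u Ψ lv n ↔ ∃ t : Sp j C ⟶ RedSub.pow (Red.Ga S) m, t ≫ spanMap D e = g := by
  constructor
  · intro hg
    let Ψ' : Set D.idx := {a | a ∈ Ψ ∧ n ≤ lv a}
    have hF' : Filt D Ψ' lv := ⟨fun a ha b hb => hF.ne a ha.1 b hb.1, fun a ha b hb c i k hi hk h => by
      obtain ⟨h1, h2, h3⟩ := hF.step a ha.1 b hb.1 c i k hi hk h
      exact ⟨⟨h1, ha.2.trans h2.le⟩, h2, h3⟩⟩
    have hg' : g ∈ gen j C D.u Ψ' lv 0 := by
      refine Subgroup.closure_mono ?_ hg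
      rintro _ ⟨c, hc, hn, x, e⟩
      exact ⟨c, ⟨hc, hn⟩, Nat.zero_le _, x, e⟩
    obtain ⟨x, rfl⟩ := (mem_gen_iff D.rootHom hF' (nodup_list he) (mem_list_iff he)).1 hg'
    refine ⟨tup m fun k => gp j (x (e k)), ?_⟩
    rw [comp_prodMap, rootProd_ofFn]
    simp only [tup_proj]
  · rintro ⟨t, rfl⟩
    rw [comp_prodMap, ofFn_prod_eq_rootProd j he.1]
    exact rootProd_mem_gen D.rootHom fun c hc _ => (mem_list_iff he c).1 hc

/-- A map into the group factors through the span as soon as its points are generated by root points. -/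
theorem exists_lift_span (hF : Filt D Ψ lv) {n m : ℕ} {e : Fin m → D.idx} (he : Level D Ψ lv n e) {U : Over S}
    (v : U ⟶ G) [Mono v] (ψ : RedSub.pow (Red.Ga S) m ⟶ U) (hψ : ψ ≫ v = spanMap D e) {Z : Over S} (hZ : IsAffineHom Z.hom)
    (f : Z ⟶ G) (h : ∀ (R : Type u) [CommRing R] (j : Spec (CommRingCat.of R) ⟶ S) [IsOpenImmersion j]
      (C : Type u) [CommRing C] [Algebra R C] (t : Sp j C ⟶ Z), t ≫ f ∈ gen j C D.u Ψ lv n) :
    ∃ w : Z ⟶ U, w ≫ v = f := by
  haveI := hZ
  refine exists_lift_of_univ v f fun R _ j _ => ?_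
  obtain ⟨t, ht⟩ := (exists_pt_iff hF he).1 (h R j _ (univ j Z))
  exact ⟨t ≫ ψ, by rw [Category.assoc, hψ, ht]⟩

include hF in
theorem pts_mem [IsOpenImmersion j] {n m : ℕ} {e : Fin m → D.idx} (he : Level D Ψ lv n e) {U : Over S}
    (v : U ⟶ G) (ψ : RedSub.pow (Red.Ga S) m ≅ U) (hψ : ψ.hom ≫ v = spanMap D e) (t : Sp j C ⟶ U) :
    t ≫ v ∈ gen j C D.u Ψ lv n :=
  (exists_pt_iff hF he).2 ⟨t ≫ ψ.inv, by rw [← hψ, Category.assoc, Iso.inv_hom_id_assoc]⟩

theorem exists_grpObj_span (hF : Filt D Ψ lv) {n m : ℕ} {e : Fin m → D.idx} (he : Level D Ψ lv n e)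
    [Mono (spanMap D e)] : ∃ _ : GrpObj (RedSub.pow (Red.Ga S) m), IsMonHom (spanMap D e) := by
  have hU := (affSmooth_ga (S := S)).pow m
  refine Groth.L08.exists_grpObj_of_mono _ ?_ ?_ ?_
  · refine exists_lift_span hF he _ (𝟙 _) (Category.id_comp _) affSmooth_one.1 _ fun R _ j _ C _ _ t => ?_
    rw [show η[G] = (1 : 𝟙_ (Over S) ⟶ G) by rw [Hom.one_def, toUnit_unique (toUnit _) (𝟙 _), Category.id_comp],
      MonObj.comp_one]
    exact one_mem _
  · refine exists_lift_span hF he _ (𝟙 _) (Category.id_comp _) (hU.tensor hU).1 _ fun R _ j _ C _ _ t => ?_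
    rw [MonObj.comp_mul, ← Category.assoc, ← Category.assoc]
    exact mul_mem (pts_mem hF he _ (Iso.refl _) (Category.id_comp _) _) (pts_mem hF he _ (Iso.refl _) (Category.id_comp _) _)
  · refine exists_lift_span hF he _ (𝟙 _) (Category.id_comp _) hU.1 _ fun R _ j _ C _ _ t => ?_
    rw [GrpObj.comp_inv]
    exact inv_mem (pts_mem hF he _ (Iso.refl _) (Category.id_comp _) _)

include hF in
theorem pow_mul_mod [IsOpenImmersion j] {l : List D.idx} (hl : ∀ c, c ∈ l ↔ c ∈ Ψ) {n : ℕ} (y : D.idx → C)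
    (hy : ∀ c ∈ l, y c ≠ 0 → n ≤ lv c) {k : Sp j C ⟶ G} (hk : k ∈ gen j C D.u Ψ lv (n + 1)) :
    ∀ i : ℕ, ∃ k' ∈ gen j C D.u Ψ lv (n + 1),
      (rootProd j D.u l y * k) ^ i = rootProd j D.u l (i • y) * k' := by
  haveI : ∀ c, IsMonHom (D.u c) := fun c => (D.rootHom c).1
  intro i
  induction i with
  | zero => exact ⟨1, one_mem _, by rw [pow_zero, zero_smul, rootProd_eq_one j (x := (0 : D.idx → C)) fun _ _ => rfl,
      _root_.one_mul]⟩
  | succ i ih =>
    obtain ⟨k', hk', e'⟩ := ih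
    have hP : rootProd j D.u l y ∈ gen j C D.u Ψ lv 0 :=
      rootProd_mem_gen D.rootHom fun c hc _ => ⟨(hl c).1 hc, Nat.zero_le _⟩
    obtain ⟨k₂, hk₂, e₂⟩ := rootProd_add (j := j) D.rootHom hF (fun c hc => (hl c).1 hc) (i • y) y hy
    refine ⟨k₂⁻¹ * ((rootProd j D.u l y)⁻¹ * k' * rootProd j D.u l y) * k,
      mul_mem (mul_mem (inv_mem hk₂) (conj_mem_gen D.rootHom hF hP k' hk').2) hk, ?_⟩
    rw [succ_nsmul, e₂, pow_succ, e']
    group

theorem hasNoSubtorus_span (lam : D.M →+ ℤ) (hlam : ∀ a ∈ Ψ, 0 < lam (D.P.root a)) (hF : Filt D Ψ lv) {m : ℕ}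
    {e : Fin m → D.idx} (he : RedSub.Enumerates Ψ e) [GrpObj (RedSub.pow (Red.Ga S) m)] [IsMonHom (spanMap D e)]
    [Mono (spanMap D e)] (s : S) :
    Red.HasNoSubtorus (AlgebraicClosure (S.residueField s)) (Red.geomFibre s (RedSub.pow (Red.Ga S) m)) := by
  obtain ⟨R, _, j, _, hj, hq⟩ := exists_chart s
  haveI := hj
  show Red.HasNoSubtorus _ (Red.bc (Red.geomPt s) (RedSub.pow (Red.Ga S) m))
  rw [← hq]
  haveI : ∀ c, IsMonHom (D.u c) := fun c => (D.rootHom c).1
  refine Groth.L08.WeilInsep.hasNoSubtorus_of_torsion _ fun n t hn ht => ?_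
  let K := AlgebraicClosure (S.residueField s)
  let g : Sp j K ⟶ G := ptBC j K t ≫ spanMap D e
  have hgn : g ^ n = 1 := by
    rw [← MonObj.pow_comp, show ptBC j K t = ptHom j K _ t from rfl, ← map_pow, ht, map_one, MonObj.one_comp]
  let l := List.ofFn e
  have hl := mem_list_iff he
  have hmem : ∀ d, g ∈ gen j K D.u Ψ lv d := fun d => by
    induction d with
    | zero =>
      refine (exists_pt_iff hF (n := 0) (e := e) ?_).2 ⟨_, rfl⟩
      simpa [Level] using he
    | succ d ih =>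
      obtain ⟨y, hy, k, hk, e₁⟩ := exists_rootProd_succ D.rootHom hF (nodup_list he) hl ih
      obtain ⟨k', hk', e₂⟩ := pow_mul_mod hF hl y (fun c _ => hy c) hk n
      rw [← e₁, hgn, eq_comm, mul_eq_one_iff_eq_inv] at e₂
      obtain ⟨x, hx, e₃⟩ := exists_rootProd D.rootHom hF (nodup_list he) hl (e₂ ▸ inv_mem hk' :
        rootProd j D.u l (n • y) ∈ gen j K D.u Ψ lv (d + 1))
      have heq := rootProd_injective_of_pos D.rootHom (mu := lam) (nodup_list he) (fun c hc => hlam c ((hl c).1 hc)) e₃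
      rw [e₁]
      refine mul_mem (rootProd_mem_gen D.rootHom fun c hc hne => ⟨(hl c).1 hc, ?_⟩) hk
      refine hx c fun h0 => hne ?_
      have := heq c hc
      rw [h0, Pi.smul_apply, nsmul_eq_mul, eq_comm] at this
      exact (mul_eq_zero.1 this).resolve_left hn
  have hg1 : g = 1 := by
    have := hmem (Finset.univ.sup lv + 1)
    rwa [gen_eq_bot fun c => Nat.lt_succ_of_le (Finset.le_sup (Finset.mem_univ c)), Subgroup.mem_bot] at this
  refine (ptBC j K).injective ?_
  rw [← cancel_mono (spanMap D e), show ptBC j K (1 : 𝟙_ _ ⟶ _) = ptHom j K _ 1 from rfl, map_one, MonObj.one_comp]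
  exact hg1

theorem exists_spanned (D : Red.SplitRed G) (Ψ : Set D.idx) (h : NoOpp D Ψ) [Nonempty S] {m₀ : ℕ}
    {e₀ : Fin m₀ → D.idx} (he₀ : RedSub.Enumerates Ψ e₀) :
    ∃ (_ : GrpObj (RedSub.pow (Red.Ga S) m₀)), IsMonHom (spanMap D e₀) ∧ IsClosedImmersion (spanMap D e₀).left ∧
      (∀ s : S, Red.HasNoSubtorus (AlgebraicClosure (S.residueField s)) (Red.geomFibre s (RedSub.pow (Red.Ga S) m₀))) ∧
      (∀ (X : Over S) (t : X ⟶ D.T) (x : X ⟶ RedSub.pow (Red.Ga S) m₀), ∃ x', (t ≫ D.i) * (x ≫ spanMap D e₀) * (t ≫ D.i)⁻¹ = x' ≫ spanMap D e₀) ∧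
      ∀ {m : ℕ} (e : Fin m → D.idx), RedSub.Enumerates Ψ e →
        ∃ ψ : RedSub.pow (Red.Ga S) m ≅ RedSub.pow (Red.Ga S) m₀, ψ.hom ≫ spanMap D e₀ = spanMap D e := by
  obtain ⟨b, hb⟩ := exists_base_of_noOpp h
  obtain ⟨lam, hlam⟩ := exists_lam_of_noOpp h
  have hcl : ∀ {m : ℕ} {e : Fin m → D.idx}, RedSub.Enumerates Ψ e → IsClosedImmersion (spanMap D e).left :=
    fun he => isClosedImmersion_spanMap_of_base b hb he
  have hF := filt_of_closed h.1 lam hlam
  have hL : ∀ {m : ℕ} {e : Fin m → D.idx}, RedSub.Enumerates Ψ e →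
      Level D Ψ (fun c => (lam (D.P.root c)).natAbs) 0 e := fun he => by simpa [Level] using he
  haveI := hcl he₀
  haveI : Mono (spanMap D e₀) := Groth.L08.mono_of_closedImmersion _
  obtain ⟨hU, hv⟩ := exists_grpObj_span hF (hL he₀)
  letI := hU; haveI := hv
  refine ⟨hU, hv, inferInstance, fun s => hasNoSubtorus_span lam hlam hF he₀ s, ?_, fun {m} e he => ?_⟩
  · have hZ := (affSmooth_torus D).tensor ((affSmooth_ga (S := S)).pow m₀)
    obtain ⟨w, hw⟩ := exists_lift_span hF (hL he₀) (spanMap D e₀) (𝟙 _) (Category.id_comp _) hZ.1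
      ((fst _ _ ≫ D.i) * (snd _ _ ≫ spanMap D e₀) * (fst _ _ ≫ D.i)⁻¹) fun R _ j _ C _ _ t => by
        simp only [MonObj.comp_mul, GrpObj.comp_inv, ← Category.assoc]
        obtain ⟨χ, hχ⟩ := exists_tpt j (t ≫ fst _ _)
        rw [← hχ]
        exact conjT_mem_gen χ (pts_mem hF (hL he₀) _ (Iso.refl _) (Category.id_comp _) _)
    exact fun X t x => ⟨lift t x ≫ w, by
      rw [Category.assoc, hw]; simp only [MonObj.comp_mul, GrpObj.comp_inv, lift_fst_assoc, lift_snd_assoc]⟩
  · haveI := hcl he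
    haveI : Mono (spanMap D e) := Groth.L08.mono_of_closedImmersion _
    obtain ⟨p, hp⟩ := exists_lift_span hF (hL he₀) (spanMap D e₀) (𝟙 _) (Category.id_comp _)
      ((affSmooth_ga (S := S)).pow m).1 (spanMap D e) fun R _ j _ C _ _ t =>
        pts_mem hF (hL he) _ (Iso.refl _) (Category.id_comp _) t
    obtain ⟨q, hq⟩ := exists_lift_span hF (hL he) (spanMap D e) (𝟙 _) (Category.id_comp _)
      ((affSmooth_ga (S := S)).pow m₀).1 (spanMap D e₀) fun R _ j _ C _ _ t =>
        pts_mem hF (hL he₀) _ (Iso.refl _) (Category.id_comp _) t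
    exact ⟨⟨p, q, (cancel_mono (spanMap D e)).1 (by rw [Category.assoc, hq, hp, Category.id_comp]),
      (cancel_mono (spanMap D e₀)).1 (by rw [Category.assoc, hp, hq, Category.id_comp])⟩, hp⟩

end Groth.L14.Chev.Cell

namespace Groth.L14.Chev.Cell

variable {S : Scheme.{u}}

theorem isEmpty_left [IsEmpty S] (X : Over S) : IsEmpty X.left := ⟨fun x => isEmptyElim (X.hom x)⟩

theorem subsingleton_hom [IsEmpty S] (X Y : Over S) : Subsingleton (X ⟶ Y) :=
  haveI := isEmpty_left X
  ⟨fun f g => Over.OverMorphism.ext (Limits.IsInitial.hom_ext isInitialOfIsEmpty f.left g.left)⟩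

theorem nonempty_hom [IsEmpty S] (X Y : Over S) : Nonempty (X ⟶ Y) :=
  haveI := isEmpty_left X
  ⟨Over.homMk (isInitialOfIsEmpty.to Y.left) (isInitialOfIsEmpty.hom_ext _ _)⟩

theorem isIso_of_empty [IsEmpty S] {X Y : Over S} (f : X ⟶ Y) : IsIso f :=
  haveI := subsingleton_hom X X
  haveI := subsingleton_hom Y Y
  ⟨(nonempty_hom Y X).some, Subsingleton.elim _ _, Subsingleton.elim _ _⟩

/-- The span of a closed set of roots without opposite roots, over any base. -/
theorem exists_span {G : Over S} [GrpObj G] (D : Red.SplitRed G) (Ψ : Set D.idx) (h : NoOpp D Ψ) :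
    ∃ (m₀ : ℕ) (e₀ : Fin m₀ → D.idx) (_ : GrpObj (RedSub.pow (Red.Ga S) m₀)),
      RedSub.Enumerates Ψ e₀ ∧ IsMonHom (spanMap D e₀) ∧ IsClosedImmersion (spanMap D e₀).left ∧
      (∀ s : S, Red.HasNoSubtorus (AlgebraicClosure (S.residueField s)) (Red.geomFibre s (RedSub.pow (Red.Ga S) m₀))) ∧
      (∀ (X : Over S) (t : X ⟶ D.T) (x : X ⟶ RedSub.pow (Red.Ga S) m₀), ∃ x',
        (t ≫ D.i) * (x ≫ spanMap D e₀) * (t ≫ D.i)⁻¹ = x' ≫ spanMap D e₀) ∧
      ∀ {m : ℕ} (e : Fin m → D.idx), RedSub.Enumerates Ψ e →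
        ∃ ψ : RedSub.pow (Red.Ga S) m ≅ RedSub.pow (Red.Ga S) m₀, ψ.hom ≫ spanMap D e₀ = spanMap D e := by
  obtain ⟨m₀, e₀, he₀⟩ := exists_enum (D := D) Ψ
  rcases isEmpty_or_nonempty S with hS | hS
  · haveI := fun X Y : Over S => subsingleton_hom X Y
    haveI := isIso_of_empty (spanMap D e₀)
    haveI : IsIso (spanMap D e₀).left := inferInstanceAs (IsIso ((Over.forget S).map (spanMap D e₀)))
    obtain ⟨hU, hv⟩ := Groth.L08.exists_grpObj_of_mono (spanMap D e₀)
      ⟨(nonempty_hom _ _).some, Subsingleton.elim _ _⟩ ⟨(nonempty_hom _ _).some, Subsingleton.elim _ _⟩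
      ⟨(nonempty_hom _ _).some, Subsingleton.elim _ _⟩
    exact ⟨m₀, e₀, hU, he₀, hv, inferInstance, fun s => isEmptyElim s, fun X t x => ⟨x, Subsingleton.elim _ _⟩,
      fun {m} e _ => ⟨@asIso _ _ _ _ (nonempty_hom _ _).some (isIso_of_empty _), Subsingleton.elim _ _⟩⟩
  · obtain ⟨hU, hv, h1, h2, h3, h4⟩ := exists_spanned D Ψ h he₀
    exact ⟨m₀, e₀, hU, he₀, hv, h1, h2, h3, h4⟩

end Groth.L14.Chev.Cell
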