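import Groth.Agent.L14.Chev.Cell.Points
import Mathlib.AlgebraicGeometry.Morphisms.Etale
import Mathlib.AlgebraicGeometry.Morphisms.FlatMono

/-!
The big cell map is an open immersion.
-/

set_option autoImplicit false
universe u

open CategoryTheory CategoryTheory.Limits AlgebraicGeometry MonoidalCategory CartesianMonoidalCategory MonObj
open Groth.L14.RankOne Groth.L25 Groth.L14.Chart

set_option backward.isDefEq.respectTransparency.types false
set_option linter.style.haveILetI false
set_option linter.unusedSectionVars false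

noncomputable section

namespace Groth.L14.Chev.Cell

variable {S : Scheme.{u}}

/-- The map of coordinate rings of a morphism of affine schemes over the base. -/
def crdMap {X Y : Over S} [IsAffineHom X.hom] [IsAffineHom Y.hom] (f : X ⟶ Y) {R : Type u} [CommRing R]
    (j : Spec (CommRingCat.of R) ⟶ S) : Crd j Y →ₐ[R] Crd j X := ptEquiv.symm (univ j X ≫ f)

theorem ptEquiv_comp_crdMap {X Y : Over S} [IsAffineHom X.hom] [IsAffineHom Y.hom] (f : X ⟶ Y) {R : Type u}
    [CommRing R] (j : Spec (CommRingCat.of R) ⟶ S) {C : Type u} [CommRing C] [Algebra R C] (φ : Crd j X →ₐ[R] C) :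
    ptEquiv (φ.comp (crdMap f j)) = ptEquiv φ ≫ f := by
  rw [ptEquiv_comp, crdMap, Equiv.apply_symm_apply, ptEquiv_apply, Category.assoc]

theorem crdMap_spec {X Y : Over S} [IsAffineHom X.hom] [IsAffineHom Y.hom] (f : X ⟶ Y) {R : Type u} [CommRing R]
    (j : Spec (CommRingCat.of R) ⟶ S) :
    Spec.map (CommRingCat.ofHom (crdMap f j).toRingHom) ≫ (pullback Y.hom j).isoSpec.inv ≫ pullback.fst Y.hom j =
      (pullback X.hom j).isoSpec.inv ≫ pullback.fst X.hom j ≫ f.left := by
  have h := congrArg CommaMorphism.left (ptEquiv.apply_symm_apply (univ j X ≫ f))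
  exact h.trans (Category.assoc _ _ _)

theorem etale_pullback_snd {X Y : Over S} [IsAffineHom X.hom] [IsAffineHom Y.hom] (f : X ⟶ Y) {R : Type u}
    [CommRing R] (j : Spec (CommRingCat.of R) ⟶ S) (h : (crdMap f j).toRingHom.Etale) :
    Etale (pullback.snd f.left (pullback.fst Y.hom j)) := by
  let φ := Spec.map (CommRingCat.ofHom (crdMap f j).toRingHom)
  have hφ : Etale φ := (HasRingHomProperty.Spec_iff (P := @Etale)).2 h
  let g : pullback X.hom j ⟶ pullback Y.hom j :=
    (pullback X.hom j).isoSpec.hom ≫ φ ≫ (pullback Y.hom j).isoSpec.inv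
  have h1 : g ≫ pullback.fst Y.hom j = pullback.fst X.hom j ≫ f.left := by
    simp only [g, φ, Category.assoc]
    rw [crdMap_spec, Iso.hom_inv_id_assoc]
  have hY : (pullback Y.hom j).isoSpec.inv ≫ pullback.snd Y.hom j =
      Spec.map (CommRingCat.ofHom (algebraMap R (Crd j Y))) := by
    rw [Iso.inv_comp_eq, specMap_algebraMap_crd]
  have h2 : g ≫ pullback.snd Y.hom j = pullback.snd X.hom j := by
    simp only [g, φ, Category.assoc]
    rw [hY, ← Spec.map_comp, ← CommRingCat.ofHom_comp, AlgHom.toRingHom_eq_coe, AlgHom.comp_algebraMap,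
      specMap_algebraMap_crd]
  have hg : Etale g := by
    show Etale ((pullback X.hom j).isoSpec.hom ≫ φ ≫ (pullback Y.hom j).isoSpec.inv)
    rw [MorphismProperty.cancel_left_of_respectsIso @Etale, MorphismProperty.cancel_right_of_respectsIso @Etale]
    exact hφ
  have hpb : IsPullback (pullback.fst X.hom j) g f.left (pullback.fst Y.hom j) := by
    refine IsPullback.of_bot ?_ h1.symm (IsPullback.of_hasPullback Y.hom j)
    rw [h2, Over.w f]
    exact IsPullback.of_hasPullback X.hom j
  rw [← IsPullback.isoPullback_inv_snd hpb, MorphismProperty.cancel_left_of_respectsIso @Etale]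
  exact hg

/-- A morphism of affine schemes over the base which is étale on coordinate rings over affine opens is étale. -/
theorem etale_of_crdMap {X Y : Over S} [IsAffineHom X.hom] [IsAffineHom Y.hom] (f : X ⟶ Y)
    (h : ∀ (R : Type u) [CommRing R] (j : Spec (CommRingCat.of R) ⟶ S) [IsOpenImmersion j],
      (crdMap f j).toRingHom.Etale) : Etale f.left :=
  IsZariskiLocalAtTarget.of_openCover (P := @Etale) (S.affineOpenCover.openCover.pullback₁ Y.hom) fun i =>
    etale_pullback_snd f (R := S.affineOpenCover.X i) (S.affineOpenCover.f i)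
      (@h (S.affineOpenCover.X i) _ (S.affineOpenCover.f i) (S.affineOpenCover.map_prop i))

theorem exists_chart_through {X : Over S} (x : X.left) :
    ∃ (R : Type u) (_ : CommRing R) (j : Spec (CommRingCat.of R) ⟶ S) (_ : IsOpenImmersion j)
      (K : Type u) (_ : CommRing K) (_ : Algebra R K) (t : Sp j K ⟶ X) (p : (Sp j K).left),
      t.left p = x := by
  let s : S := X.hom x
  let i₀ := S.affineOpenCover.idx s
  let R : Type u := S.affineOpenCover.X i₀
  let j : Spec (CommRingCat.of R) ⟶ S := S.affineOpenCover.f i₀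
  have hj : IsOpenImmersion j := S.affineOpenCover.map_prop i₀
  let K : Type u := X.left.residueField x
  let k : Spec (CommRingCat.of K) ⟶ S := X.left.fromSpecResidueField x ≫ X.hom
  have hr : Set.range k ⊆ Set.range j := by
    rintro _ ⟨y, rfl⟩
    rw [show k y = X.hom x by
      simp only [k, Scheme.Hom.comp_apply]
      exact congrArg _ (Scheme.fromSpecResidueField_apply _ _)]
    exact S.affineOpenCover.covers s
  let l := IsOpenImmersion.lift j k hr
  letI alg : Algebra R K := (Spec.preimage l).hom.toAlgebra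
  have hl : Spec.map (CommRingCat.ofHom (algebraMap R K)) = l := Spec.map_preimage l
  exact ⟨R, inferInstance, j, hj, K, inferInstance, alg, Over.homMk (X.left.fromSpecResidueField x) (by
    show _ = Spec.map (CommRingCat.ofHom (algebraMap R K)) ≫ j
    rw [hl, IsOpenImmersion.lift_fac]), IsLocalRing.closedPoint K, Scheme.fromSpecResidueField_apply _ _⟩

variable {G : Over S} [GrpObj G] {D : Red.SplitRed G} {b : D.P.Base} {n m : ℕ} {eneg : Fin n → D.idx}
  {epos : Fin m → D.idx}

theorem etale_cellMap (hneg : RedSub.Enumerates (RedSub.negRoots D.P b) eneg)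
    (hpos : RedSub.Enumerates (RedSub.posRoots D.P b) epos) : Etale (RedSub.cellMap D eneg epos).left := by
  haveI := reductive_affine D
  haveI := reductive_smooth D
  haveI := (affSmooth_cell D n m).1
  haveI := (affSmooth_cell D n m).2
  refine etale_of_crdMap _ fun R _ j _ => ?_
  let A := Crd j G
  let B := Crd j (cellSpace D n m)
  let ψ : A →ₐ[R] B := crdMap (RedSub.cellMap D eneg epos) j
  letI : Algebra A B := ψ.toRingHom.toAlgebra
  haveI : IsScalarTower R A B := IsScalarTower.of_algebraMap_eq' ψ.comp_algebraMap.symm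
  haveI : Algebra.FormallyEtale A B := by
    refine Algebra.FormallyEtale.iff_comp_bijective.2 fun C _ _ I hI => ?_
    letI : Algebra R C := ((algebraMap A C).comp (algebraMap R A)).toAlgebra
    haveI : IsScalarTower R A C := IsScalarTower.of_algebraMap_eq' rfl
    have hψ : ∀ {C' : Type u} [CommRing C'] [Algebra R C'] [Algebra A C'] [IsScalarTower R A C'] (f : B →ₐ[A] C'),
        ptEquiv (f.restrictScalars R) ≫ RedSub.cellMap D eneg epos = ptEquiv (IsScalarTower.toAlgHom R A C') := by
      intro C' _ _ _ _ f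
      rw [← ptEquiv_comp_crdMap]
      exact congrArg ptEquiv (AlgHom.ext fun a => f.commutes a)
    refine ⟨fun f f' _ => AlgHom.restrictScalars_injective R (ptEquiv.injective ?_), fun g => ?_⟩
    · exact cellMap_injective hneg hpos ((hψ f).trans (hψ f').symm)
    · have hnil : IsNilpotent I := ⟨2, hI⟩
      let q : C →ₐ[R] C ⧸ I := Ideal.Quotient.mkₐ R I
      let t₁ : Sp j C ⟶ cellSpace D n m := ptEquiv (Algebra.FormallySmooth.lift I hnil (g.restrictScalars R))
      have h1 : mor j q ≫ t₁ = ptEquiv (g.restrictScalars R) := by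
        rw [← ptEquiv_comp, Algebra.FormallySmooth.comp_lift]
      obtain ⟨t, ht⟩ := exists_lift_point hneg hpos I hnil t₁ (ptEquiv (IsScalarTower.toAlgHom R A C)) (by
        rw [← Category.assoc, h1, hψ, ← ptEquiv_comp]
        exact congrArg ptEquiv (AlgHom.ext fun a => rfl))
      let f₀ : B →ₐ[R] C := ptEquiv.symm t
      have hf₀ : ∀ a, f₀ (algebraMap A B a) = algebraMap A C a := fun a => by
        have : f₀.comp ψ = IsScalarTower.toAlgHom R A C := ptEquiv.injective (by
          rw [ptEquiv_comp_crdMap, Equiv.apply_symm_apply, ht])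
        exact DFunLike.congr_fun this a
      let f : B →ₐ[A] C := { f₀.toRingHom with commutes' := hf₀ }
      refine ⟨f, AlgHom.restrictScalars_injective R (ptEquiv.injective ?_)⟩
      exact cellMap_injective hneg hpos ((hψ _).trans (hψ g).symm)
  haveI : Algebra.FinitePresentation A B :=
    Algebra.FinitePresentation.of_restrict_scalars_finitePresentation R A B
  exact RingHom.etale_algebraMap.2 (Algebra.Etale.mk ‹_› ‹_›)

theorem mono_cellMap (hneg : RedSub.Enumerates (RedSub.negRoots D.P b) eneg)
    (hpos : RedSub.Enumerates (RedSub.posRoots D.P b) epos) : Mono (RedSub.cellMap D eneg epos) :=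
  ⟨fun p q h => hom_ext_open fun R _ j _ C _ _ t => cellMap_injective hneg hpos (by
    rw [Category.assoc, Category.assoc, h])⟩

theorem isOpenImmersion_cellMap (hneg : RedSub.Enumerates (RedSub.negRoots D.P b) eneg)
    (hpos : RedSub.Enumerates (RedSub.posRoots D.P b) epos) : IsOpenImmersion (RedSub.cellMap D eneg epos).left := by
  haveI := mono_cellMap hneg hpos
  haveI := etale_cellMap hneg hpos
  obtain ⟨hfl, -, hfp⟩ := Etale.iff_flat_and_formallyUnramified.1 (etale_cellMap hneg hpos)
  exact IsOpenImmersion.of_flat_of_mono _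

theorem range_cellMap_subset {eneg' : Fin n → D.idx} {epos' : Fin m → D.idx} {n' m' : ℕ}
    {en : Fin n' → D.idx} {ep : Fin m' → D.idx}
    (hneg : RedSub.Enumerates (RedSub.negRoots D.P b) eneg') (hpos : RedSub.Enumerates (RedSub.posRoots D.P b) epos')
    (hn : RedSub.Enumerates (RedSub.negRoots D.P b) en) (hp : RedSub.Enumerates (RedSub.posRoots D.P b) ep) :
    Set.range (RedSub.cellMap D eneg' epos').left.base ⊆ Set.range (RedSub.cellMap D en ep).left.base := by
  rintro _ ⟨x, rfl⟩
  obtain ⟨R, _, j, _, K, _, _, t, p, ht⟩ := exists_chart_through (X := cellSpace D n m) x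
  obtain ⟨χ, y, z, e, -⟩ := exists_coords (eneg := eneg') (epos := epos') t hneg.1 hpos.1
  haveI : Finite D.idx := Finite.of_fintype _
  obtain ⟨lvn, hFn⟩ := exists_filt_neg (D := D) b
  obtain ⟨lvp, hFp⟩ := exists_filt_pos (D := D) b
  obtain ⟨y', hy'⟩ := (mem_gen_iff (j := j) D.rootHom hFn (nodup_list hn) (mem_list_iff hn)).1
    (rootProd_mem_gen (lv := lvn) (n := 0) D.rootHom (x := y) (l := List.ofFn eneg')
      fun c hc _ => ⟨(mem_list_iff hneg c).1 hc, Nat.zero_le _⟩)
  obtain ⟨z', hz'⟩ := (mem_gen_iff (j := j) D.rootHom hFp (nodup_list hp) (mem_list_iff hp)).1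
    (rootProd_mem_gen (lv := lvp) (n := 0) D.rootHom (x := z) (l := List.ofFn epos')
      fun c hc _ => ⟨(mem_list_iff hpos c).1 hc, Nat.zero_le _⟩)
  rw [← hy', ← hz', ← lift_cellMap] at e
  have e' : (t ≫ RedSub.cellMap D eneg' epos').left p = _ := congrArg (fun f : Sp j K ⟶ G => f.left p) e
  exact ⟨_, ((Scheme.Hom.comp_apply _ _ p).symm.trans e'.symm).trans ((Scheme.Hom.comp_apply _ _ p).trans (congrArg _ ht))⟩

end Groth.L14.Chev.Cell
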