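import Groth.Agent.L14.Chev.Cell.Scale
import Groth.Agent.L14.Chev.Cell.Open
import Groth.Agent.L08.Borel.Cartan
import Groth.Agent.L08.Borel.Points
import Groth.Agent.L08.Borel.Geom
import Groth.Agent.L25.ConnIrred
import Groth.Agent.L25.Locus.FixedConn
import Groth.Agent.L25.SplitSub.Image
import Groth.Agent.L01.Unip.Affine

/-!
Geometric points fixed by a regular cocharacter lie in the torus.
-/

set_option autoImplicit false
universe u

open CategoryTheory CategoryTheory.Limits AlgebraicGeometry MonoidalCategory CartesianMonoidalCategory MonObj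
open Groth.L14.RankOne Groth.L25 Groth.L14.Chart

set_option backward.isDefEq.respectTransparency.types false
set_option linter.style.haveILetI false
set_option linter.unusedSectionVars false
set_option maxHeartbeats 1000000

noncomputable section

namespace Groth.L14.Chev.Cell

variable {S : Scheme.{u}} {G : Over S} [GrpObj G] {D : Red.SplitRed G}

/-- A functional separating a base which is primitive or zero. -/
theorem exists_lam_prim {D : Red.SplitRed G} (b : D.P.Base) : ∃ lam : D.M →+ ℤ,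
    (∀ c : D.idx, (c ∈ RedSub.posRoots D.P b → 0 < lam (D.P.root c)) ∧
      (c ∈ RedSub.negRoots D.P b → lam (D.P.root c) < 0)) ∧ (lam = 0 ∨ Function.Surjective lam) := by
  obtain ⟨lam, hl⟩ := hasLam b
  by_cases h0 : lam = 0
  · exact ⟨lam, hl, Or.inl h0⟩
  obtain ⟨d, hd⟩ := Int.subgroup_cyclic lam.range
  rw [← AddSubgroup.zmultiples_eq_closure] at hd
  have hd0 : d ≠ 0 := by
    rintro rfl
    refine h0 (AddMonoidHom.ext fun m => ?_)
    have : lam m ∈ lam.range := ⟨m, rfl⟩
    rw [hd] at this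
    simpa using this
  have hdiv : ∀ m, d ∣ lam m := fun m => by
    have : lam m ∈ lam.range := ⟨m, rfl⟩
    rw [hd] at this
    exact Int.mem_zmultiples_iff.1 this
  let mu : D.M →+ ℤ := AddMonoidHom.mk' (fun m => Int.sign d * (lam m / d)) fun a c => by
    rw [map_add, Int.add_ediv_of_dvd_left (hdiv a), mul_add]
  have hmu : ∀ m, lam m = |d| * mu m := fun m => by
    show lam m = |d| * (Int.sign d * (lam m / d))
    rw [← Int.mul_assoc, Int.mul_comm |d|, Int.sign_mul_abs, Int.mul_ediv_cancel' (hdiv m)]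
  have habs : 0 < |d| := abs_pos.2 hd0
  refine ⟨mu, fun c => ⟨fun hc => ?_, fun hc => ?_⟩, Or.inr fun k => ?_⟩
  · have := (hl c).1 hc
    rw [hmu] at this
    exact pos_of_mul_pos_right this habs.le
  · have := (hl c).2 hc
    rw [hmu] at this
    exact neg_of_mul_neg_right this habs.le
  · obtain ⟨m, hm⟩ : |d| * k ∈ lam.range := by
      rw [hd, Int.mem_zmultiples_iff]
      exact Dvd.dvd.mul_right (dvd_abs _ _|>.2 dvd_rfl) k
    rw [hmu] at hm
    exact ⟨m, mul_left_cancel₀ habs.ne' hm⟩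

theorem eq_unitChar_of_kills {lam : D.M →+ ℤ} (hlam : lam = 0 ∨ Function.Surjective lam) {C : Type u} [CommRing C]
    (χ : Multiplicative D.M →* C) (h : ∀ m, lam m = 0 → χ (Multiplicative.ofAdd m) = 1) :
    ∃ u : Cˣ, χ = unitChar lam u := by
  rcases hlam with rfl | hs
  · exact ⟨1, MonoidHom.ext fun m => by simpa [unitChar] using h m.toAdd rfl⟩
  · obtain ⟨m₁, hm₁⟩ := hs 1
    refine ⟨((Group.isUnit (Multiplicative.ofAdd m₁)).map χ).unit, MonoidHom.ext fun m => ?_⟩
    let χu : Multiplicative D.M →* Cˣ := χ.toHomUnits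
    have h1 : χu (m * (Multiplicative.ofAdd m₁ ^ lam m.toAdd)⁻¹) = 1 := Units.ext (by
      have := h (m.toAdd - lam m.toAdd • m₁) (by rw [map_sub, map_zsmul, hm₁, smul_eq_mul, Int.mul_one, sub_self])
      rw [ofAdd_sub, ofAdd_zsmul, ofAdd_toAdd, div_eq_mul_inv] at this
      exact this)
    rw [map_mul, map_inv, mul_inv_eq_one, map_zpow] at h1
    show χ m = (((((Group.isUnit (Multiplicative.ofAdd m₁)).map χ).unit) ^ lam m.toAdd : Cˣ) : C)
    have h2 := congrArg Units.val h1
    refine Eq.trans h2 ?_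
    congr 2
    exact Units.ext rfl

variable {b : D.P.Base} {n m : ℕ} {eneg : Fin n → D.idx} {epos : Fin m → D.idx}
  {R : Type u} [CommRing R] {j : Spec (CommRingCat.of R) ⟶ S} [IsOpenImmersion j]

/-- Points of the big cell fixed by a regular cocharacter lie in the torus. -/
theorem torus_of_cell_fixed (hneg : RedSub.Enumerates (RedSub.negRoots D.P b) eneg)
    (hpos : RedSub.Enumerates (RedSub.posRoots D.P b) epos) {lam : D.M →+ ℤ}
    (hl : ∀ c : D.idx, (c ∈ RedSub.posRoots D.P b → 0 < lam (D.P.root c)) ∧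
      (c ∈ RedSub.negRoots D.P b → lam (D.P.root c) < 0))
    {C : Type u} [CommRing C] [Algebra R C] (h : Sp j C ⟶ G) (t : Sp j C ⟶ cellSpace D n m)
    (ht : t ≫ RedSub.cellMap D eneg epos = h)
    (hfix : conjT D j (chiLam C lam) (mor j (lauC (R := R)) ≫ h) = mor j (lauC (R := R)) ≫ h) :
    ∃ χ : Multiplicative D.M →* C, tpt D j χ ≫ D.i = h := by
  haveI := isMonHom_i (D := D)
  haveI : ∀ c, IsMonHom (D.u c) := fun c => (D.rootHom c).1
  obtain ⟨χ, y, z, e, -⟩ := exists_coords t hneg.1 hpos.1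
  rw [ht] at e
  let L := LaurentPolynomial C
  rw [e] at hfix
  simp only [MonObj.comp_mul, mor_rootProd, ← Category.assoc, mor_tpt] at hfix
  have h2 : rootProd j D.u (List.ofFn eneg) (fun c => chiLam C lam (Multiplicative.ofAdd (D.P.root c)) * (lauC (R := R) (C := C)) (y c)) *
      ((tpt D j (((lauC (R := R) (C := C)) : C →* L).comp χ) ≫ D.i) *
        rootProd j D.u (List.ofFn epos) (fun c => chiLam C lam (Multiplicative.ofAdd (D.P.root c)) * (lauC (R := R) (C := C)) (z c))) =
      rootProd j D.u (List.ofFn eneg) (fun c => (lauC (R := R) (C := C)) (y c)) *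
        ((tpt D j (((lauC (R := R) (C := C)) : C →* L).comp χ) ≫ D.i) * rootProd j D.u (List.ofFn epos) (fun c => (lauC (R := R) (C := C)) (z c))) := by
    refine Eq.trans ?_ hfix
    rw [← conj_rootProd j D.rootHom, ← conj_rootProd j D.rootHom, conjT]
    have hcomm : (tpt D j (chiLam C lam) ≫ D.i) * (tpt D j (((lauC (R := R) (C := C)) : C →* L).comp χ) ≫ D.i) =
        (tpt D j (((lauC (R := R) (C := C)) : C →* L).comp χ) ≫ D.i) * (tpt D j (chiLam C lam) ≫ D.i) := by
      rw [← MonObj.mul_comp, ← MonObj.mul_comp, ← tpt_mul, ← tpt_mul, mul_comm]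
    calc _ = (tpt D j (chiLam C lam) ≫ D.i) * rootProd j D.u (List.ofFn eneg) (fun c => (lauC (R := R) (C := C)) (y c)) *
          ((tpt D j (chiLam C lam) ≫ D.i)⁻¹ * ((tpt D j (((lauC (R := R) (C := C)) : C →* L).comp χ) ≫ D.i) * (tpt D j (chiLam C lam) ≫ D.i))) *
          rootProd j D.u (List.ofFn epos) (fun c => (lauC (R := R) (C := C)) (z c)) * (tpt D j (chiLam C lam) ≫ D.i)⁻¹ := by group
      _ = _ := by rw [← hcomm]; group
  obtain ⟨-, hy, hz⟩ := cell_injective D.rootHom (mu := lam) (nodup_list hneg) (nodup_list hpos)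
    (fun c hc => (hl c).2 ((mem_list_iff hneg c).1 hc)) (fun c hc => (hl c).1 ((mem_list_iff hpos c).1 hc)) h2
  have key : ∀ (c : D.idx) (a : C), lam (D.P.root c) ≠ 0 →
      chiLam C lam (Multiplicative.ofAdd (D.P.root c)) * (lauC (R := R) (C := C)) a = (lauC (R := R) (C := C)) a → a = 0 := fun c a hne ha => by
    have h3 := congrArg (fun p : L => p.coeff 0) ha
    change ((LaurentPolynomial.T (lam (D.P.root c)) : L) * LaurentPolynomial.C a).coeff 0 = (LaurentPolynomial.C a).coeff 0 at h3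
    classical
    rw [_root_.mul_comm, ← LaurentPolynomial.single_eq_C_mul_T, ← LaurentPolynomial.single_eq_C] at h3
    simp only [AddMonoidAlgebra.coeff_single, Finsupp.single_apply, hne, if_false, if_true] at h3
    exact h3.symm
  refine ⟨χ, ?_⟩
  rw [e, rootProd_eq_one j fun c hc => key c _ ((hl c).2 ((mem_list_iff hneg c).1 hc)).ne (hy c hc),
    rootProd_eq_one j fun c hc => key c _ ((hl c).1 ((mem_list_iff hpos c).1 hc)).ne' (hz c hc),
    _root_.one_mul, _root_.mul_one]

/-- A fixed point commutes with the subtorus of the cocharacter. -/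
theorem commutes_of_fixed {lam : D.M →+ ℤ} (hlam : lam = 0 ∨ Function.Surjective lam)
    {K : Type u} [CommRing K] [Algebra R K] (g : Sp j K ⟶ G)
    (hfix : ∀ (C' : Type u) [CommRing C'] [Algebra R C'] (f : K →ₐ[R] C') (u : C'ˣ),
      conjT D j (unitChar lam u) (mor j f ≫ g) = mor j f ≫ g)
    {r : ℕ} {φ : D.M →+ (Fin r → ℤ)} (hker : ∀ x, lam x = 0 → φ x = 0)
    {Y : Over S} (y : Y ⟶ Sp j K) (h : Y ⟶ Red.DS S (Fin r → ℤ)) :
    (y ≫ g) * (h ≫ Red.DSmap S φ ≫ D.split.inv.hom.hom ≫ D.i) =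
      (h ≫ Red.DSmap S φ ≫ D.split.inv.hom.hom ≫ D.i) * (y ≫ g) := by
  refine hom_ext_open fun R' _ j' _ C _ _ t => ?_
  letI algK : Algebra K C := (Spec.preimage (t ≫ y).left).hom.toAlgebra
  letI algR : Algebra R C := ((algebraMap K C).comp (algebraMap R K)).toAlgebra
  haveI : IsScalarTower R K C := IsScalarTower.of_algebraMap_eq' rfl
  let f : K →ₐ[R] C := IsScalarTower.toAlgHom R K C
  have hKC : Spec.map (CommRingCat.ofHom (algebraMap K C)) = (t ≫ y).left := Spec.map_preimage _
  let t' : Sp j C ⟶ Y := Over.homMk t.left (by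
    show t.left ≫ Y.hom = Spec.map (CommRingCat.ofHom (algebraMap R C)) ≫ j
    rw [show algebraMap R C = (algebraMap K C).comp (algebraMap R K) from rfl, CommRingCat.ofHom_comp,
      Spec.map_comp, hKC, ← Over.w y, Over.comp_left]
    simp only [Category.assoc]
    rfl)
  suffices key : (t' ≫ y ≫ g) * (t' ≫ h ≫ Red.DSmap S φ ≫ D.split.inv.hom.hom ≫ D.i) =
      (t' ≫ h ≫ Red.DSmap S φ ≫ D.split.inv.hom.hom ≫ D.i) * (t' ≫ y ≫ g) by
    rw [← MonObj.comp_mul, ← MonObj.comp_mul] at key
    have k := congrArg CommaMorphism.left key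
    exact Over.OverMorphism.ext k
  have hx : t' ≫ y = mor j f := Over.OverMorphism.ext hKC.symm
  obtain ⟨χ, hχ⟩ := exists_tpt (D := D) j ((t' ≫ h) ≫ Red.DSmap S φ ≫ D.split.inv.hom.hom)
  obtain ⟨u, rfl⟩ := eq_unitChar_of_kills (D := D) hlam χ fun x hx0 => by
    have h1 := congrArg (fun s => DSPts.char (s ≫ D.split.hom.hom.hom) (Multiplicative.ofAdd x)) hχ
    simp only [tpt_hom, DSPts.char_pt, Category.assoc] at h1
    rw [split_inv_hom, Category.comp_id, ← Category.assoc, SplitSub.char_DSmap] at h1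
    refine (ConcreteCategory.bijective_of_isIso (Scheme.ΓSpecIso (CommRingCat.of C)).inv).1 ?_
    rw [map_one]
    refine Eq.trans h1 ?_
    show DSPts.char (t' ≫ h) (Multiplicative.ofAdd (φ x)) = 1
    rw [hker x hx0, ofAdd_zero, map_one]
  have := hfix C f u
  rw [conjT, mul_inv_eq_iff_eq_mul, hχ, ← hx] at this
  simpa only [Category.assoc] using this.symm

/-- Geometric points fixed by a regular cocharacter lie in the torus. -/
theorem torus_of_fixed (hneg : RedSub.Enumerates (RedSub.negRoots D.P b) eneg)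
    (hpos : RedSub.Enumerates (RedSub.posRoots D.P b) epos) {lam : D.M →+ ℤ}
    (hl : ∀ c : D.idx, (c ∈ RedSub.posRoots D.P b → 0 < lam (D.P.root c)) ∧
      (c ∈ RedSub.negRoots D.P b → lam (D.P.root c) < 0)) (hlam : lam = 0 ∨ Function.Surjective lam)
    {K : Type u} [Field K] [IsAlgClosed K] [Algebra R K] (g : Sp j K ⟶ G)
    (hfix : ∀ (C' : Type u) [CommRing C'] [Algebra R C'] (f : K →ₐ[R] C') (u : C'ˣ),
      conjT D j (unitChar lam u) (mor j f ≫ g) = mor j f ≫ g) :
    ∃ χ : Multiplicative D.M →* K, tpt D j χ ≫ D.i = g := by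
  haveI := reductive_affine D
  haveI := reductive_smooth D
  haveI := isMonHom_i (D := D)
  haveI := D.maximalTorus.2.1
  obtain ⟨r, φ, a, hφ, hker, ha⟩ : ∃ (r : ℕ) (φ : D.M →+ (Fin r → ℤ)) (a : (Fin r → ℤ) →+ ℤ),
      Function.Surjective φ ∧ (∀ x, lam x = 0 → φ x = 0) ∧ ∀ x, a (φ x) = lam x := by
    rcases hlam with h | h
    · exact ⟨0, 0, 0, fun v => ⟨0, Subsingleton.elim _ _⟩, fun x _ => rfl, fun x => by simp [h]⟩
    · exact ⟨1, AddMonoidHom.mk' (fun x _ => lam x) (fun a c => funext fun _ => map_add lam a c),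
        Pi.evalAddMonoidHom (fun _ => ℤ) 0,
        fun v => (h (v 0)).imp fun x hx => funext fun i => by rw [Subsingleton.elim i 0]; exact hx,
        fun x hx => funext fun _ => hx, fun x => rfl⟩
  let q : Spec (CommRingCat.of K) ⟶ S := Spec.map (CommRingCat.ofHom (algebraMap R K)) ≫ j
  let GK := Red.bc q G
  let T' := Red.DS S (Fin r → ℤ)
  let emb : T' ⟶ G := Red.DSmap S φ ≫ D.split.inv.hom.hom ≫ D.i
  haveI : IsMonHom emb := inferInstanceAs (IsMonHom (Red.DSmap S φ ≫ D.split.inv.hom.hom ≫ D.i))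
  haveI : Mono emb := by
    haveI : Mono (Red.DSmap S φ) := SplitSub.mono_DSmap φ hφ
    haveI : IsIso D.split.inv.hom.hom := ⟨D.split.hom.hom.hom, split_inv_hom, split_hom_inv⟩
    exact mono_comp _ _
  let embK : Red.bc q T' ⟶ GK := (Over.pullback q).map emb
  haveI : IsMonHom embK :=
    ((Over.pullback q).mapGrp.map (Grp.homMk'' (A := Grp.mk T') (B := Grp.mk G) emb
      (IsMonHom.one_hom emb) (IsMonHom.mul_hom emb))).hom.isMonHom_hom
  haveI : Mono embK := inferInstanceAs (Mono ((Over.pullback q).map emb))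
  have hT : Red.IsTorus (Red.bc q T') := Locus.isTorus_bc (Groth.L01.Unip.isTorus_DS S r) q
  -- the geometric fibre is connected
  haveI : IsAffineHom GK.hom := MorphismProperty.pullback_snd _ _ ‹IsAffineHom G.hom›
  haveI : IsAffine GK.left := isAffine_of_isAffineHom GK.hom
  haveI : Smooth GK.hom := MorphismProperty.pullback_snd _ _ ‹Smooth G.hom›
  haveI : ConnectedSpace GK.left := by
    let s : S := q (IsLocalRing.closedPoint K)
    let dK : S.residueField s ⟶ CommRingCat.of K := Scheme.descResidueField (Scheme.stalkClosedPointTo q)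
    have hd : Spec.map dK ≫ S.fromSpecResidueField s = q :=
      Scheme.descResidueField_stalkClosedPointTo_fromSpecResidueField K S q
    letI : Algebra (S.residueField s) K := dK.hom.toAlgebra
    let σ : AlgebraicClosure (S.residueField s) →ₐ[S.residueField s] K := IsAlgClosed.lift
    let θ : Spec (CommRingCat.of K) ⟶ Spec (CommRingCat.of (AlgebraicClosure (S.residueField s))) :=
      Spec.map (CommRingCat.ofHom σ.toRingHom)
    have hθ : θ ≫ Red.geomPt s = q := by
      refine Eq.trans ?_ hd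
      show Spec.map _ ≫ Spec.map _ ≫ _ = _
      rw [← Spec.map_comp_assoc]
      congr 2
      ext x
      exact σ.commutes x
    obtain ⟨-, h2, h3, -⟩ := D.reductive.2.2 s
    haveI := h2; haveI := h3
    haveI := Groth.L08.Borel.connectedSpace_bc' θ (Red.geomFibre s G)
    let e : Red.bc θ (Red.geomFibre s G) ≅ GK := ActBC.bcCompIso θ (Red.geomPt s) G hθ
    let h : (Red.bc θ (Red.geomFibre s G)).left ≃ₜ GK.left := ((Over.forget _).mapIso e).hom.homeomorph
    exact h.surjective.connectedSpace h.continuous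
  obtain ⟨Z, _, c, hc⟩ := Groth.L08.Borel.exists_centralizer_torus embK hT
  obtain ⟨hccl, hZaff, hZsm, hZcon, -, hcen⟩ := Groth.L08.Borel.centralizer_props hT hc
  haveI := hccl; haveI := hZaff; haveI := hZsm; haveI := hZcon; haveI := hc.1
  haveI : LocallyOfFiniteType Z.hom := inferInstance
  haveI := ConnIrred.irreducibleSpace Z
  -- points of the fibre
  let U1 := 𝟙_ (Over (Spec (CommRingCat.of K)))
  let ident : Sp j K ⟶ Over.mk (U1.hom ≫ q) := Over.homMk (𝟙 _) (by
    show 𝟙 _ ≫ 𝟙 _ ≫ q = _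
    rw [Category.id_comp, Category.id_comp]; rfl)
  let ident' : Over.mk (U1.hom ≫ q) ⟶ Sp j K := Over.homMk (𝟙 _) (by
    show 𝟙 _ ≫ q = 𝟙 _ ≫ q
    rfl)
  have hid : ident ≫ ident' = 𝟙 _ := Over.OverMorphism.ext (Category.id_comp _)
  let dn : (U1 ⟶ GK) →* (Sp j K ⟶ G) :=
    { toFun := fun x => ident ≫ NilAction.toBase q x
      map_one' := by rw [NilAction.toBase_one, MonObj.comp_one]
      map_mul' := fun x y => by rw [NilAction.toBase_mul, MonObj.comp_mul] }
  have he2 : ∀ {X'' : Over (Spec (CommRingCat.of K))} (h : X'' ⟶ Red.bc q T'),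
      NilAction.toBase q (h ≫ embK) = NilAction.toBase q h ≫ emb := fun h => by
    apply Over.OverMorphism.ext
    simp only [NilAction.toBase, Over.comp_left, Over.homMk_left, Category.assoc, embK, Over.pullback_map_left,
      pullback.lift_fst]
  -- the point is centralised
  obtain ⟨z₀, hz₀⟩ : ∃ z, z ≫ c = NilAction.ofBase q (ident' ≫ g) := by
    refine (hc.2.2 U1 _).2 fun X' x h => ?_
    rw [← NilAction.ofBase_toBase q ((x ≫ _) * (h ≫ embK)), ← NilAction.ofBase_toBase q ((h ≫ embK) * _)]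
    congr 1
    rw [NilAction.toBase_mul, NilAction.toBase_mul]
    let y : Over.mk (X'.hom ≫ q) ⟶ Sp j K := Over.homMk X'.hom rfl
    have e1 : NilAction.toBase q (x ≫ NilAction.ofBase q (ident' ≫ g)) = y ≫ g := by
      apply Over.OverMorphism.ext
      simp only [NilAction.toBase, NilAction.ofBase, Over.comp_left, Over.homMk_left, Category.assoc,
        pullback.lift_fst, ident', y]
      rw [show (x.left : X'.left ⟶ _) = X'.hom from (Category.comp_id _).symm.trans (Over.w x)]
      simp only [Category.id_comp]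
    rw [e1, he2]
    exact commutes_of_fixed hlam g hfix hker y (NilAction.toBase q h)
  -- the open set of points in the cell
  let W : Set Z.left := (c.left ≫ pullback.fst G.hom q) ⁻¹' Set.range (RedSub.cellMap D eneg epos).left
  haveI := isOpenImmersion_cellMap hneg hpos
  have hW : IsOpen W := (RedSub.cellMap D eneg epos).left.isOpenEmbedding.isOpen_range.preimage
    (Scheme.Hom.continuous _)
  have hWT : ∀ w : U1 ⟶ Z, Groth.L08.Borel.ptOf w ∈ W → ∃ χ, tpt D j χ ≫ D.i = dn (w ≫ c) := by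
    intro w hw
    have e : (dn (w ≫ c)).left = w.left ≫ c.left ≫ pullback.fst G.hom q := by
      show 𝟙 _ ≫ (w.left ≫ c.left) ≫ pullback.fst G.hom q = _
      rw [Category.id_comp, Category.assoc]
    have hr : Set.range (dn (w ≫ c)).left ⊆ Set.range (RedSub.cellMap D eneg epos).left := by
      rintro _ ⟨y, rfl⟩
      rw [show y = IsLocalRing.closedPoint K from Subsingleton.elim (α := PrimeSpectrum K) _ _, e]
      exact hw
    let l := IsOpenImmersion.lift (RedSub.cellMap D eneg epos).left (dn (w ≫ c)).left hr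
    let t : Sp j K ⟶ cellSpace D n m := Over.homMk l (by
      rw [← Over.w (RedSub.cellMap D eneg epos), IsOpenImmersion.lift_fac_assoc, Over.w])
    have ht : t ≫ RedSub.cellMap D eneg epos = dn (w ≫ c) := Over.OverMorphism.ext (IsOpenImmersion.lift_fac _ _ _)
    refine torus_of_cell_fixed hneg hpos hl _ t ht ?_
    -- the cocharacter is a point of the subtorus
    let L := LaurentPolynomial K
    let X' : Over (Spec (CommRingCat.of K)) := Over.mk (Spec.map (CommRingCat.ofHom (algebraMap K L)))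
    let τ : Multiplicative (Fin r → ℤ) →* L :=
      { toFun := fun v => LaurentPolynomial.T (a v.toAdd)
        map_one' := by
          show LaurentPolynomial.T (a 0) = 1
          rw [map_zero, LaurentPolynomial.T_zero]
        map_mul' := fun v v' => by
          show LaurentPolynomial.T (a (v.toAdd + v'.toAdd)) = _
          rw [map_add, LaurentPolynomial.T_add] }
    let s₀ : Sp j L ⟶ T' := DSPts.pt ((Scheme.ΓSpecIso (CommRingCat.of L)).inv.hom.toMonoidHom.comp τ)
    have hs₀ : s₀ ≫ emb = tpt D j (chiLam K lam) ≫ D.i := by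
      rw [show emb = Red.DSmap S φ ≫ D.split.inv.hom.hom ≫ D.i from rfl, tpt, ← Category.assoc s₀,
        ← Category.assoc _ D.split.inv.hom.hom D.i]
      congr 2
      refine DSPts.char_injective (MonoidHom.ext fun v => ?_)
      rw [SplitSub.char_DSmap, DSPts.char_pt, DSPts.char_pt]
      exact congrArg (fun k => (Scheme.ΓSpecIso (CommRingCat.of L)).inv (LaurentPolynomial.T k : L)) (ha v.toAdd)
    have hspec : Spec.map (CommRingCat.ofHom (algebraMap R L)) ≫ j =
        Spec.map (CommRingCat.ofHom (algebraMap K L)) ≫ q := by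
      rw [IsScalarTower.algebraMap_eq R K L, CommRingCat.ofHom_comp, Spec.map_comp, Category.assoc]
    let up : Sp j L ⟶ Over.mk (X'.hom ≫ q) := Over.homMk (𝟙 _) (by
      show 𝟙 _ ≫ _ = _
      rw [Category.id_comp]; exact hspec.symm)
    let down : Over.mk (X'.hom ≫ q) ⟶ Sp j L := Over.homMk (𝟙 _) (by
      show 𝟙 _ ≫ _ = _
      rw [Category.id_comp]; exact hspec)
    have hud : up ≫ down = 𝟙 _ := Over.OverMorphism.ext (Category.id_comp _)
    have h1 := (hc.2.2 U1 (w ≫ c)).1 ⟨w, rfl⟩ X' (toUnit X') (NilAction.ofBase q (down ≫ s₀))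
    have h2 : (up ≫ NilAction.toBase q (toUnit X' ≫ w ≫ c)) * (up ≫ NilAction.toBase q (NilAction.ofBase q (down ≫ s₀) ≫ embK)) =
        (up ≫ NilAction.toBase q (NilAction.ofBase q (down ≫ s₀) ≫ embK)) * (up ≫ NilAction.toBase q (toUnit X' ≫ w ≫ c)) := by
      rw [← MonObj.comp_mul, ← MonObj.comp_mul, ← NilAction.toBase_mul, ← NilAction.toBase_mul]
      exact congrArg (fun s => up ≫ NilAction.toBase q s) h1
    rw [he2, NilAction.toBase_ofBase] at h2
    simp only [← Category.assoc, hud, Category.id_comp] at h2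
    rw [hs₀] at h2
    have h3 : up ≫ NilAction.toBase q ((toUnit X' ≫ w) ≫ c) = mor j (lauC (R := R)) ≫ dn (w ≫ c) := by
      apply Over.OverMorphism.ext
      show 𝟙 _ ≫ (((toUnit X').left ≫ w.left) ≫ c.left) ≫ pullback.fst G.hom q =
        Spec.map _ ≫ (dn (w ≫ c)).left
      rw [e, Category.id_comp, Category.assoc, Category.assoc, show (toUnit X').left = X'.hom from
        (Category.comp_id _).symm.trans (Over.w (toUnit X'))]
      rfl
    rw [h3] at h2
    rw [conjT, ← h2]
    group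
  -- two translates of the open set meet
  let one' : U1 ⟶ Z := 1
  have hone : Groth.L08.Borel.ptOf one' ∈ W := by
    obtain ⟨y, hy⟩ : ∃ y : Sp j K ⟶ cellSpace D n m, y ≫ RedSub.cellMap D eneg epos = dn (one' ≫ c) := by
      refine ⟨lift (tup n fun _ => gp j 0) (lift (tpt D j 1) (tup m fun _ => gp j 0)), ?_⟩
      haveI : ∀ c, IsMonHom (D.u c) := fun c => (D.rootHom c).1
      rw [show dn (one' ≫ c) = 1 by rw [show one' ≫ c = 1 from MonObj.one_comp c, map_one]]
      have := lift_cellMap (j := j) (eneg := eneg) (epos := epos) (1 : Multiplicative D.M →* K) 0 0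
      simp only [Pi.zero_apply] at this
      rw [this, tpt_one, MonObj.one_comp, rootProd_eq_one j (x := (0 : D.idx → K)) fun _ _ => rfl,
        rootProd_eq_one j (x := (0 : D.idx → K)) fun _ _ => rfl, _root_.one_mul, _root_.one_mul]
    exact ⟨y.left (IsLocalRing.closedPoint K), by
      have := congrArg (fun s : Sp j K ⟶ G => s.left (IsLocalRing.closedPoint K)) hy
      simp only [Over.comp_left, Scheme.Hom.comp_apply] at this
      refine this.trans ?_
      show ((𝟙 _ : _ ⟶ _) ≫ (one'.left ≫ c.left) ≫ pullback.fst G.hom q) _ = _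
      rw [Category.id_comp]
      rfl⟩
  let tr : Z ⟶ Z := (toUnit Z ≫ z₀) * 𝟙 Z
  have htr : ∀ w : U1 ⟶ Z, w ≫ tr = z₀ * w := fun w => by
    rw [MonObj.comp_mul, ← Category.assoc, toUnit_unique (w ≫ toUnit Z) (𝟙 _), Category.id_comp, Category.comp_id]
  obtain ⟨w, hw1, hw2⟩ : (W ∩ tr.left ⁻¹' W).Nonempty := by
    refine nonempty_preirreducible_inter hW (hW.preimage (Scheme.Hom.continuous _)) ⟨_, hone⟩ ⟨Groth.L08.Borel.ptOf (z₀⁻¹), ?_⟩
    show tr.left (Groth.L08.Borel.ptOf z₀⁻¹) ∈ W
    have : tr.left (Groth.L08.Borel.ptOf z₀⁻¹) = Groth.L08.Borel.ptOf one' := by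
      show _ = one'.left _
      rw [show one' = z₀⁻¹ ≫ tr by rw [htr, mul_inv_cancel], Over.comp_left, Scheme.Hom.comp_apply]
    rw [this]; exact hone
  obtain ⟨p, hp1, hp2⟩ := Groth.L08.Borel.exists_pt_mem (X := Z)
    (hW.inter (hW.preimage (Scheme.Hom.continuous tr.left))).isLocallyClosed ⟨w, hw1, hw2⟩
  obtain ⟨χ₁, hχ₁⟩ := hWT p hp1
  obtain ⟨χ₂, hχ₂⟩ := hWT (z₀ * p) (by
    show (z₀ * p).left _ ∈ W
    rw [← htr, Over.comp_left, Scheme.Hom.comp_apply]
    exact hp2)
  rw [MonObj.mul_comp, map_mul, hz₀] at hχ₂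
  have hg : dn (NilAction.ofBase q (ident' ≫ g)) = g := by
    show ident ≫ NilAction.toBase q (NilAction.ofBase q (ident' ≫ g)) = g
    rw [NilAction.toBase_ofBase, ← Category.assoc, hid, Category.id_comp]
  rw [hg, ← hχ₁] at hχ₂
  obtain ⟨χ, hχ⟩ := exists_tpt (D := D) j (tpt D j χ₂ * (tpt D j χ₁)⁻¹)
  refine ⟨χ, ?_⟩
  rw [hχ, MonObj.mul_comp, GrpObj.inv_comp, hχ₂, mul_inv_cancel_right]

end Groth.L14.Chev.Cell
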