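import Groth.Agent.L14.Chev.Cell.Fibre

/-!
Points with a limit under a regular cocharacter are the points of the torus times the positive root groups.
-/

set_option autoImplicit false
universe u

open CategoryTheory CategoryTheory.Limits AlgebraicGeometry MonoidalCategory CartesianMonoidalCategory MonObj
open Groth.L14.RankOne Groth.L25 Groth.L14.Chart
open Polynomial (toLaurent X)
open LaurentPolynomial (T)

set_option backward.isDefEq.respectTransparency.types false
set_option linter.style.haveILetI false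
set_option linter.unusedSectionVars false
set_option maxHeartbeats 1000000

noncomputable section

namespace Groth.L14.Chev.Cell

variable {S : Scheme.{u}} {G : Over S} [GrpObj G] {D : Red.SplitRed G} {b : D.P.Base} {n m : ℕ}
  {eneg : Fin n → D.idx} {epos : Fin m → D.idx} {R : Type u} [CommRing R] {j : Spec (CommRingCat.of R) ⟶ S}
  [IsOpenImmersion j] {C : Type u} [CommRing C] [Algebra R C] {lam : D.M →+ ℤ}

variable (hneg : RedSub.Enumerates (RedSub.negRoots D.P b) eneg)
  (hpos : RedSub.Enumerates (RedSub.posRoots D.P b) epos)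
  (hl : ∀ c : D.idx, (c ∈ RedSub.posRoots D.P b → 0 < lam (D.P.root c)) ∧
      (c ∈ RedSub.negRoots D.P b → lam (D.P.root c) < 0))
  (hlam : lam = 0 ∨ Function.Surjective lam)

omit [IsOpenImmersion j] in
/-- Conjugation of a point of the big cell. -/
theorem conjT_cell (χ τ : Multiplicative D.M →* C) (ln lp : List D.idx) (y z : D.idx → C) :
    conjT D j χ (rootProd j D.u ln y * ((tpt D j τ ≫ D.i) * rootProd j D.u lp z)) =
      rootProd j D.u ln (fun c => χ (Multiplicative.ofAdd (D.P.root c)) * y c) *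
        ((tpt D j τ ≫ D.i) * rootProd j D.u lp (fun c => χ (Multiplicative.ofAdd (D.P.root c)) * z c)) := by
  haveI := isMonHom_i (D := D)
  rw [← conj_rootProd j D.rootHom, ← conj_rootProd j D.rootHom, conjT]
  have hcomm : (tpt D j χ ≫ D.i) * (tpt D j τ ≫ D.i) = (tpt D j τ ≫ D.i) * (tpt D j χ ≫ D.i) := by
    rw [← MonObj.mul_comp, ← MonObj.mul_comp, ← tpt_mul, ← tpt_mul, mul_comm]
  calc _ = (tpt D j χ ≫ D.i) * rootProd j D.u ln y *
        ((tpt D j χ ≫ D.i)⁻¹ * ((tpt D j χ ≫ D.i) * (tpt D j τ ≫ D.i))) *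
        rootProd j D.u lp z * (tpt D j χ ≫ D.i)⁻¹ := by group
    _ = _ := by rw [hcomm]; group

theorem exists_root_avoiding {K : Type u} [Field K] [Infinite K] {p : Polynomial K} (hp : p ≠ 0) :
    ∃ a : K, a ≠ 0 ∧ p.eval a ≠ 0 := by
  classical
  obtain ⟨a, ha⟩ := Infinite.exists_notMem_finset (p.roots.toFinset ∪ {0})
  simp only [Finset.mem_union, Multiset.mem_toFinset, Polynomial.mem_roots hp, Finset.mem_singleton, not_or] at ha
  exact ⟨a, ha.2, ha.1⟩

omit [IsOpenImmersion j] in
theorem unitChar_inv_mul (u : Cˣ) : unitChar lam u⁻¹ * unitChar lam u = 1 := MonoidHom.ext fun k => by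
  show ((u⁻¹ ^ lam k.toAdd : Cˣ) : C) * ((u ^ lam k.toAdd : Cˣ) : C) = 1
  rw [← Units.val_mul, ← mul_zpow, inv_mul_cancel, one_zpow, Units.val_one]

include hneg hpos in
theorem exists_cell_of_range {K : Type u} [Field K] [Algebra R K] (h : Sp j K ⟶ G)
    (hh : h.left (IsLocalRing.closedPoint K) ∈ Set.range (RedSub.cellMap D eneg epos).left) :
    ∃ t : Sp j K ⟶ cellSpace D n m, t ≫ RedSub.cellMap D eneg epos = h := by
  haveI := isOpenImmersion_cellMap hneg hpos
  have hr : Set.range h.left ⊆ Set.range (RedSub.cellMap D eneg epos).left := by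
    rintro _ ⟨y, rfl⟩
    rw [show y = IsLocalRing.closedPoint K from Subsingleton.elim (α := PrimeSpectrum K) _ _]
    exact hh
  exact ⟨Over.homMk (IsOpenImmersion.lift _ h.left hr) (by
    rw [← Over.w (RedSub.cellMap D eneg epos), IsOpenImmersion.lift_fac_assoc, Over.w]),
    Over.OverMorphism.ext (IsOpenImmersion.lift_fac _ _ _)⟩

omit [IsOpenImmersion j] in
theorem range_of_comp {K : Type u} [Field K] [Algebra R K] (h : Sp j K ⟶ G) (t : Sp j K ⟶ cellSpace D n m)
    (e : t ≫ RedSub.cellMap D eneg epos = h) :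
    h.left (IsLocalRing.closedPoint K) ∈ Set.range (RedSub.cellMap D eneg epos).left := by
  subst e
  exact ⟨_, (Scheme.Hom.comp_apply _ _ _).symm⟩

include hneg hpos hl hlam in
/-- Over an algebraically closed field the orbit closure stays in the big cell. -/
theorem cell_of_attracted_field {K : Type u} [Field K] [IsAlgClosed K] [Algebra R K] {p : Sp j K ⟶ G}
    {γ : Sp j (Polynomial K) ⟶ G} (h : Attracted j lam p γ) (x : K) :
    ∃ t : Sp j K ⟶ cellSpace D n m, t ≫ RedSub.cellMap D eneg epos = mor j (polEval (AlgHom.id R K) x) ≫ γ := by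
  haveI : ∀ c, IsMonHom (D.u c) := fun c => (D.rootHom c).1
  haveI := isOpenImmersion_cellMap hneg hpos
  have torus_cell : ∀ χ : Multiplicative D.M →* K,
      ∃ t : Sp j K ⟶ cellSpace D n m, t ≫ RedSub.cellMap D eneg epos = tpt D j χ ≫ D.i := fun χ => by
    refine ⟨lift (tup n fun _ => gp j 0) (lift (tpt D j χ) (tup m fun _ => gp j 0)), ?_⟩
    have := lift_cellMap (j := j) (eneg := eneg) (epos := epos) χ (0 : D.idx → K) 0
    simp only [Pi.zero_apply] at this
    rw [this, rootProd_eq_one j (x := (0 : D.idx → K)) fun _ _ => rfl,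
      rootProd_eq_one j (x := (0 : D.idx → K)) fun _ _ => rfl, _root_.one_mul, _root_.mul_one]
  obtain ⟨χ₀, hχ₀⟩ := torus_of_fixed hneg hpos hl hlam (mor j (polEval (AlgHom.id R K) 0) ≫ γ)
    fun C' _ _ f u => by
      have := h.zero_fixed f u
      rwa [← Category.assoc, ← mor_comp, show f.comp (polEval (AlgHom.id R K) 0) = polEval f 0 from
        AlgHom.coe_ringHom_injective (Polynomial.ringHom_ext (fun r => by simp [polEval]) (by simp [polEval]))]
  rcases eq_or_ne x 0 with rfl | hx
  · rw [← hχ₀]; exact torus_cell χ₀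
  -- some nonzero parameter lands in the cell
  let V : Set (Spec (CommRingCat.of (Polynomial K))) := γ.left ⁻¹' Set.range (RedSub.cellMap D eneg epos).left
  have hV : IsOpen V := (RedSub.cellMap D eneg epos).left.isOpenEmbedding.isOpen_range.preimage
    (Scheme.Hom.continuous _)
  let pt : K → PrimeSpectrum (Polynomial K) := fun a =>
    Spec.map (CommRingCat.ofHom (polEval (AlgHom.id R K) a).toRingHom) (IsLocalRing.closedPoint K)
  have hpt : ∀ a (g : Polynomial K), g ∈ (pt a).asIdeal ↔ g.eval a = 0 := fun a g => by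
    show Polynomial.eval₂ (RingHom.id K) a g ∈ IsLocalRing.maximalIdeal K ↔ _
    rw [IsLocalRing.maximalIdeal_eq_bot, Ideal.mem_bot]
    rfl
  have h0 : pt 0 ∈ V := by
    obtain ⟨t, ht⟩ := torus_cell χ₀
    have := range_of_comp _ t (ht.trans hχ₀)
    rwa [Over.comp_left, Scheme.Hom.comp_apply] at this
  obtain ⟨_, ⟨g, rfl⟩, hg0, hgV⟩ := PrimeSpectrum.isTopologicalBasis_basic_opens.exists_subset_of_mem_open h0 hV
  have hg : g ≠ 0 := fun e => hg0 (e ▸ Ideal.zero_mem _)
  obtain ⟨a, ha, hga⟩ := exists_root_avoiding hg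
  have haV : pt a ∈ V := hgV (fun e => hga ((hpt a g).1 e))
  obtain ⟨t, ht⟩ := exists_cell_of_range hneg hpos (mor j (polEval (AlgHom.id R K) a) ≫ γ) (by
    rw [Over.comp_left, Scheme.Hom.comp_apply]; exact haV)
  obtain ⟨χ, y, z, e, -⟩ := exists_coords t hneg.1 hpos.1
  rw [ht] at e
  have hev : ∀ u : Kˣ, mor j (polEval (AlgHom.id R K) (u : K)) ≫ γ = conjT D j (unitChar lam u) p := fun u => by
    rw [h.eval_unit, mor_id, Category.id_comp]
  have hp : p = conjT D j (unitChar lam (Units.mk0 a ha)⁻¹) (mor j (polEval (AlgHom.id R K) a) ≫ γ) := by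
    rw [show (polEval (AlgHom.id R K) a) = polEval (AlgHom.id R K) ((Units.mk0 a ha : Kˣ) : K) from rfl, hev,
      ← conjT_mul, unitChar_inv_mul, conjT_one]
  rw [e, conjT_cell] at hp
  rw [show (polEval (AlgHom.id R K) x) = polEval (AlgHom.id R K) ((Units.mk0 x hx : Kˣ) : K) from rfl, hev, hp,
    conjT_cell]
  exact ⟨_, lift_cellMap (j := j) χ _ _⟩

include hneg hpos hl hlam in
/-- Points with a limit lie in the image of the torus and the positive root groups. -/
theorem borel_of_attracted {p : Sp j C ⟶ G} {γ : Sp j (Polynomial C) ⟶ G} (h : Attracted j lam p γ) :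
    ∃ (χ : Multiplicative D.M →* C) (z : D.idx → C), p = (tpt D j χ ≫ D.i) * rootProd j D.u (List.ofFn epos) z := by
  haveI : ∀ c, IsMonHom (D.u c) := fun c => (D.rootHom c).1
  haveI := isOpenImmersion_cellMap hneg hpos
  have hr : Set.range γ.left ⊆ Set.range (RedSub.cellMap D eneg epos).left := by
    rintro _ ⟨P, rfl⟩
    let K : Type u := AlgebraicClosure (FractionRing (Polynomial C ⧸ P.asIdeal))
    let f : Polynomial C →ₐ[R] K :=
      (IsScalarTower.toAlgHom R (Polynomial C ⧸ P.asIdeal) K).comp (Ideal.Quotient.mkₐ R P.asIdeal)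
    obtain ⟨t, ht⟩ := cell_of_attracted_field hneg hpos hl hlam (h.map (f.comp polC)) (f X)
    have hf : (polEval (AlgHom.id R K) (f X)).comp (polEval ((polC (C := K)).comp (f.comp polC)) X) = f :=
      AlgHom.coe_ringHom_injective (Polynomial.ringHom_ext (fun r => by simp [polEval, polC]) (by simp [polEval]))
    rw [← Category.assoc, ← mor_comp, hf] at ht
    have hm := range_of_comp _ t ht
    rw [Over.comp_left, Scheme.Hom.comp_apply] at hm
    have hP : (mor j f).left (IsLocalRing.closedPoint K) = P := by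
      refine PrimeSpectrum.ext (Ideal.ext fun g => ?_)
      show f g ∈ IsLocalRing.maximalIdeal K ↔ _
      rw [IsLocalRing.maximalIdeal_eq_bot, Ideal.mem_bot]
      show algebraMap (Polynomial C ⧸ P.asIdeal) K (Ideal.Quotient.mk P.asIdeal g) = 0 ↔ _
      rw [IsScalarTower.algebraMap_apply (Polynomial C ⧸ P.asIdeal) (FractionRing (Polynomial C ⧸ P.asIdeal)) K,
        _root_.map_eq_zero,
        map_eq_zero_iff (algebraMap (Polynomial C ⧸ P.asIdeal) (FractionRing (Polynomial C ⧸ P.asIdeal)))
          (IsFractionRing.injective _ _), Ideal.Quotient.eq_zero_iff_mem]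
    rwa [hP] at hm
  let w : Sp j (Polynomial C) ⟶ cellSpace D n m := Over.homMk (IsOpenImmersion.lift _ γ.left hr) (by
    rw [← Over.w (RedSub.cellMap D eneg epos), IsOpenImmersion.lift_fac_assoc, Over.w])
  obtain ⟨τ, Y, Z, e, -⟩ := exists_coords w hneg.1 hpos.1
  rw [show w ≫ RedSub.cellMap D eneg epos = γ from Over.OverMorphism.ext (IsOpenImmersion.lift_fac _ _ _)] at e
  let ev1 : Polynomial C →ₐ[R] C := polEval (AlgHom.id R C) 1
  have hp : p = rootProd j D.u (List.ofFn eneg) (fun c => ev1 (Y c)) *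
      ((tpt D j ((ev1 : Polynomial C →* C).comp τ) ≫ D.i) * rootProd j D.u (List.ofFn epos) (fun c => ev1 (Z c))) := by
    have := h.eval_one (AlgHom.id R C)
    rw [mor_id, Category.id_comp, e] at this
    simp only [MonObj.comp_mul, mor_rootProd, ← Category.assoc, mor_tpt] at this
    exact this.symm
  have h1 := h
  rw [Attracted, e, hp] at h1
  simp only [MonObj.comp_mul, mor_rootProd, ← Category.assoc, mor_tpt] at h1
  rw [conjT_cell] at h1
  obtain ⟨-, hy, -⟩ := cell_injective D.rootHom (mu := lam) (nodup_list hneg) (nodup_list hpos)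
    (fun c hc => (hl c).2 ((mem_list_iff hneg c).1 hc)) (fun c hc => (hl c).1 ((mem_list_iff hpos c).1 hc)) h1
  refine ⟨(ev1 : Polynomial C →* C).comp τ, fun c => ev1 (Z c), ?_⟩
  rw [rootProd_eq_one j fun c hc => ?_, _root_.one_mul] at hp
  · exact hp
  obtain ⟨k, hk⟩ := Int.exists_eq_neg_ofNat ((hl c).2 ((mem_list_iff hneg c).1 hc)).le
  have hk0 : k ≠ 0 := by
    rintro rfl
    have := (hl c).2 ((mem_list_iff hneg c).1 hc)
    omega
  have h3 : X ^ k * Y c = Polynomial.C (ev1 (Y c)) := by
    refine Polynomial.toLaurent_injective ?_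
    have h4 : toLaurent (Y c) = T (lam (D.P.root c)) * LaurentPolynomial.C (ev1 (Y c)) := hy c hc
    rw [map_mul, Polynomial.toLaurent_X_pow, Polynomial.toLaurent_C, h4, hk, ← _root_.mul_assoc,
      ← LaurentPolynomial.T_add, add_neg_cancel, LaurentPolynomial.T_zero, _root_.one_mul]
  have h5 := congrArg (fun q : Polynomial C => q.coeff 0) h3
  simpa [Polynomial.coeff_X_pow, hk0, Polynomial.mul_coeff_zero, eq_comm] using h5

end Groth.L14.Chev.Cell
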