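import Groth.Agent.L14.Chev.Cell.Isolate
import Groth.Agent.L14.Chev.Cell.Fibre
import Groth.Agent.L14.Chev.Cell.Limit
import Groth.Agent.L14.Chev.Cell.FibrePts
import Groth.Agent.L08.Borel.Weyl
import Groth.Agent.L19.AlgGrpBasic.Points
import Groth.Agent.L25.GenWords.Fibre

/-!
On geometric fibres the torus times the positive root groups is a Borel subgroup.
-/

set_option autoImplicit false
universe u

open CategoryTheory CategoryTheory.Limits AlgebraicGeometry MonoidalCategory CartesianMonoidalCategory MonObj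
open Groth.L14.RankOne Groth.L25 Groth.L14.Chart
open Groth.L08.Borel (ptOf exists_pt_mem exists_pt_lift)

set_option backward.isDefEq.respectTransparency.types false
set_option linter.style.haveILetI false
set_option linter.unusedSectionVars false
set_option maxHeartbeats 1000000

noncomputable section

namespace Groth.L14.Chev.Cell

section Functional

variable {M : Type} [AddCommGroup M]

theorem exists_primitive (lam : M →+ ℤ) :
    ∃ mu : M →+ ℤ, (mu = 0 ∨ Function.Surjective mu) ∧ ∀ m, mu m = 0 ↔ lam m = 0 := by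
  by_cases h0 : lam = 0
  · exact ⟨0, Or.inl rfl, fun m => by simp [h0]⟩
  obtain ⟨d, hd⟩ := Int.subgroup_cyclic lam.range
  rw [← AddSubgroup.zmultiples_eq_closure] at hd
  have hdiv : ∀ m, d ∣ lam m := fun m => by
    have : lam m ∈ lam.range := ⟨m, rfl⟩
    rw [hd] at this
    exact Int.mem_zmultiples_iff.1 this
  have hd0 : d ≠ 0 := by
    rintro rfl
    exact h0 (AddMonoidHom.ext fun m => by simpa using hdiv m)
  let mu : M →+ ℤ := AddMonoidHom.mk' (fun m => lam m / d) fun a c => by
    rw [map_add, Int.add_ediv_of_dvd_left (hdiv a)]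
  refine ⟨mu, Or.inr fun k => ?_, fun m => ⟨fun h => ?_, fun h => by show lam m / d = 0; rw [h, Int.zero_ediv]⟩⟩
  · obtain ⟨m, hm⟩ : k * d ∈ lam.range := by rw [hd]; exact Int.mem_zmultiples_iff.2 (Dvd.intro_left k rfl)
    exact ⟨m, by show lam m / d = k; rw [hm, Int.mul_ediv_cancel k hd0]⟩
  · have h' : lam m / d = 0 := h
    rw [← Int.mul_ediv_cancel' (hdiv m), h', mul_zero]

/-- A functional killing one vector but none of a finite independent family. -/
theorem exists_functional_avoid [Module.Finite ℤ M] [Module.Free ℤ M] {c : M} (s : Finset M)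
    (h : ∀ d ∈ s, ∀ p q : ℤ, p ≠ 0 → p • d ≠ q • c) :
    ∃ f : M →+ ℤ, f c = 0 ∧ ∀ d ∈ s, f d ≠ 0 := by
  classical
  induction s using Finset.induction_on with
  | empty => exact ⟨0, rfl, fun d hd => absurd hd (Finset.notMem_empty d)⟩
  | insert d s _ ih =>
    obtain ⟨f, hfc, hf⟩ := ih fun e he => h e (Finset.mem_insert_of_mem he)
    obtain ⟨g, hgc, hgd⟩ := exists_functional_sep (h d (Finset.mem_insert_self d s))
    obtain ⟨N, hN⟩ := Infinite.exists_notMem_finset ((insert d s).image fun e => -f e / g e)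
    refine ⟨f + N • g, by simp [hfc, hgc], fun e he h0 => hN (Finset.mem_image.2 ⟨e, he, ?_⟩)⟩
    simp only [AddMonoidHom.add_apply, AddMonoidHom.smul_apply, smul_eq_mul] at h0
    rw [show -f e = N * g e by linarith]
    refine Int.mul_ediv_cancel N fun hge => ?_
    rw [hge, mul_zero, _root_.add_zero] at h0
    rcases Finset.mem_insert.1 he with rfl | he'
    · exact hgd hge
    · exact hf e he' h0

end Functional

variable {S : Scheme.{u}} {G : Over S} [GrpObj G] {D : Red.SplitRed G} {b : D.P.Base} {m : ℕ}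
  {epos : Fin m → D.idx} {R : Type u} [CommRing R] {j : Spec (CommRingCat.of R) ⟶ S} [IsOpenImmersion j]
  {K : Type u} [Field K] [IsAlgClosed K] [Algebra R K]

section Maximal

variable {B' : Over (Spec (CommRingCat.of K))} [GrpObj B'] (i' : B' ⟶ Red.bc (qK j K) G) [IsMonHom i']

/-- The subgroup of points of a subgroup of the fibre. -/
def ptRange : Subgroup (Sp j K ⟶ G) :=
  ((ptHom j K G).comp (MonoidHom.mk' (· ≫ i') fun a c => MonObj.mul_comp a c i' :
    (𝟙_ (Over (Spec (CommRingCat.of K))) ⟶ B') →* _)).range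

theorem mem_ptRange {g : Sp j K ⟶ G} :
    g ∈ ptRange i' ↔ ∃ x : 𝟙_ (Over (Spec (CommRingCat.of K))) ⟶ B', ptBC j K (x ≫ i') = g := Iff.rfl

/-- A solvable connected subgroup containing the torus and the positive root groups contains no negative root
group. -/
theorem no_neg_root (hpos : RedSub.Enumerates (RedSub.posRoots D.P b) epos)
    (hT : AGF.IsMaxTorus ((Over.pullback (qK j K)).map D.i)) [ConnectedSpace (Red.bc (qK j K) G).left]
    [IsClosedImmersion i'.left] [Smooth B'.hom] [ConnectedSpace B'.left] (hsolv : Red.IsSolvableGrp B')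
    (hP : ∀ t : Sp j K ⟶ D.T ⊗ RedSub.pow (Red.Ga S) m, t ≫ RedSub.borelMap D epos ∈ ptRange i')
    (tB : Red.bc (qK j K) D.T ⟶ B') (htB : tB ≫ i' = (Over.pullback (qK j K)).map D.i)
    {c : D.idx} (hc : c ∈ RedSub.negRoots D.P b) (hU : ∀ y : K, gp j y ≫ D.u c ∈ ptRange i') : False := by
  classical
  haveI := reductive_affine D
  haveI := reductive_smooth D
  haveI := isMonHom_i (D := D)
  haveI : ∀ c, IsMonHom (D.u c) := fun c => (D.rootHom c).1
  haveI : Finite D.idx := Finite.of_fintype _
  haveI := D.maximalTorus.2.1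
  haveI := isMonHom_bcMap (qK j K) D.i
  let GK := Red.bc (qK j K) G
  haveI : IsAffineHom GK.hom := MorphismProperty.pullback_snd _ _ ‹IsAffineHom G.hom›
  haveI : IsAffine GK.left := isAffine_of_isAffineHom GK.hom
  haveI : Smooth GK.hom := MorphismProperty.pullback_snd _ _ ‹Smooth G.hom›
  haveI : ConnectedSpace GK.left := ‹ConnectedSpace (Red.bc (qK j K) G).left›
  haveI : IsAffine B'.left := isAffine_of_isAffineHom i'.left
  haveI : Mono i' := Groth.L08.mono_of_closedImmersion i'
  obtain ⟨n, eneg, hneg⟩ := exists_enum (D := D) (RedSub.negRoots D.P b)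
  -- a functional killing exactly the given root and its opposite
  obtain ⟨f₀, hf₀c, hf₀⟩ := exists_functional_avoid (c := D.P.root c)
    ((Finset.univ.filter fun d => d ≠ c ∧ D.P.root d ≠ -D.P.root c).image D.P.root) fun d hd => by
      obtain ⟨d', hd', rfl⟩ := Finset.mem_image.1 hd
      obtain ⟨-, h1, h2⟩ := Finset.mem_filter.1 hd'
      exact fun p r hp e => (eq_or_neg_of_dep D.P b hp e).elim h1 h2
  obtain ⟨f, hfp, hf⟩ := exists_primitive f₀
  have hfc : f (D.P.root c) = 0 := (hf _).2 hf₀c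
  have hfd : ∀ d, d ≠ c → D.P.root d ≠ -D.P.root c → f (D.P.root d) ≠ 0 := fun d h1 h2 h =>
    hf₀ _ (Finset.mem_image.2 ⟨d, Finset.mem_filter.2 ⟨Finset.mem_univ _, h1, h2⟩, rfl⟩) ((hf _).1 h)
  obtain ⟨r, φ, a, hφ, hker, ha⟩ : ∃ (r : ℕ) (φ : D.M →+ (Fin r → ℤ)) (a : (Fin r → ℤ) →+ ℤ),
      Function.Surjective φ ∧ (∀ x, f x = 0 → φ x = 0) ∧ ∀ x, a (φ x) = f x := by
    rcases hfp with h | h
    · exact ⟨0, 0, 0, fun v => ⟨0, Subsingleton.elim _ _⟩, fun x _ => rfl, fun x => by simp [h]⟩
    · exact ⟨1, AddMonoidHom.mk' (fun x _ => f x) (fun a c => funext fun _ => map_add f a c),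
        Pi.evalAddMonoidHom (fun _ => ℤ) 0,
        fun v => (h (v 0)).imp fun x hx => funext fun i => by rw [Subsingleton.elim i 0]; exact hx,
        fun x hx => funext fun _ => hx, fun x => rfl⟩
  -- the subtorus and its centraliser
  let T' := Red.DS S (Fin r → ℤ)
  let emb : T' ⟶ G := Red.DSmap S φ ≫ D.split.inv.hom.hom ≫ D.i
  haveI : IsMonHom emb := inferInstanceAs (IsMonHom (Red.DSmap S φ ≫ D.split.inv.hom.hom ≫ D.i))
  haveI : Mono emb := by
    haveI : Mono (Red.DSmap S φ) := SplitSub.mono_DSmap φ hφ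
    haveI : IsIso D.split.inv.hom.hom := ⟨D.split.hom.hom.hom, split_inv_hom, split_hom_inv⟩
    exact mono_comp _ _
  let embK : Red.bc (qK j K) T' ⟶ GK := (Over.pullback (qK j K)).map emb
  haveI : IsMonHom embK := isMonHom_bcMap (qK j K) emb
  haveI : Mono embK := inferInstanceAs (Mono ((Over.pullback (qK j K)).map emb))
  have hT' : Red.IsTorus (Red.bc (qK j K) T') := Locus.isTorus_bc (Groth.L01.Unip.isTorus_DS S r) (qK j K)
  obtain ⟨Z, _, z, hz⟩ := Groth.L08.Borel.exists_centralizer_torus embK hT'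
  obtain ⟨hzcl, hZaff, hZsm, hZcon, -, hcen⟩ := Groth.L08.Borel.centralizer_props hT' hz
  haveI := hzcl; haveI := hZaff; haveI := hZsm; haveI := hZcon; haveI := hz.1
  haveI := ConnIrred.irreducibleSpace Z
  let W : Set Z.left := (z.left ≫ pullback.fst G.hom (qK j K)) ⁻¹' Set.range (RedSub.cellMap D eneg epos).left
  let Y : Set Z.left := z.left ⁻¹' Set.range i'.left
  haveI := isOpenImmersion_cellMap hneg hpos
  have hW : IsOpen W := (RedSub.cellMap D eneg epos).left.isOpenEmbedding.isOpen_range.preimage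
    (Scheme.Hom.continuous _)
  have hY : IsClosed Y := i'.left.isClosedEmbedding.isClosed_range.preimage (Scheme.Hom.continuous _)
  -- points of the centraliser in the cell lie in the subgroup
  have hTH : ∀ χ : Multiplicative D.M →* K, tpt D j χ ≫ D.i ∈ ptRange i' := fun χ => by
    have := hP (lift (tpt D j χ) (tup m fun _ => gp j 0))
    have e := lift_borelMap (j := j) (epos := epos) χ (0 : D.idx → K)
    simp only [Pi.zero_apply] at e
    rwa [e, rootProd_eq_one j (x := (0 : D.idx → K)) fun _ _ => rfl, _root_.mul_one] at this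
  have hnp : ∀ d, D.P.root d = -D.P.root c → ∀ y : K, gp j y ≫ D.u d ∈ ptRange i' := fun d hd y => by
    obtain ⟨lv, hF⟩ := exists_filt_pos (D := D) b
    have hd' : d ∈ RedSub.posRoots D.P b := by
      show D.P.root d ∈ AddSubmonoid.closure (D.P.root '' (b.support : Set D.idx))
      rw [hd]; exact hc
    obtain ⟨t, ht⟩ := (mem_borelPts_iff (j := j) (C := K) hpos hF).1
      ⟨1, _, gp_mem_gen hd' (Nat.zero_le _) y, by rw [tpt_one, MonObj.one_comp, _root_.one_mul]⟩
    exact ht ▸ hP t
  have hWY : ∀ w : 𝟙_ (Over (Spec (CommRingCat.of K))) ⟶ Z, ptOf w ∈ W → ptOf w ∈ Y := by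
    intro w hw
    obtain ⟨t, ht⟩ := exists_cell_of_range hneg hpos (ptBC j K (w ≫ z)) (by
      rw [ptBC_closedPoint]; exact hw)
    obtain ⟨χ, y, x, e, -⟩ := exists_coords t hneg.1 hpos.1
    rw [ht] at e
    have hmem : ptBC j K (w ≫ z) ∈ ptRange i' := by
      obtain ⟨lam, hl⟩ := hasLam b
      have hfix : ∀ u : Kˣ, conjT D j (unitChar f u) (ptBC j K (w ≫ z)) = ptBC j K (w ≫ z) := fun u => by
        let τ : Multiplicative (Fin r → ℤ) →* K :=
          { toFun := fun v => ((u ^ a v.toAdd : Kˣ) : K)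
            map_one' := by simp
            map_mul' := fun v v' => by simp [toAdd_mul, map_add, zpow_add] }
        let s₀ : Sp j K ⟶ T' := DSPts.pt ((Scheme.ΓSpecIso (CommRingCat.of K)).inv.hom.toMonoidHom.comp τ)
        have hs₀ : s₀ ≫ emb = tpt D j (unitChar f u) ≫ D.i := by
          rw [show emb = Red.DSmap S φ ≫ D.split.inv.hom.hom ≫ D.i from rfl, tpt, ← Category.assoc s₀,
            ← Category.assoc _ D.split.inv.hom.hom D.i]
          congr 2
          refine DSPts.char_injective (MonoidHom.ext fun v => ?_)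
          rw [SplitSub.char_DSmap, DSPts.char_pt, DSPts.char_pt]
          exact congrArg (fun k => (Scheme.ΓSpecIso (CommRingCat.of K)).inv ((u ^ k : Kˣ) : K)) (ha v.toAdd)
        have h1 := congrArg (ptHom j K G) (hcen _ w ((ptBC j K).symm s₀))
        rw [map_mul, map_mul] at h1
        simp only [ptHom, MonoidHom.coe_mk, OneHom.coe_mk, embK] at h1
        rw [ptBC_comp (x := (ptBC j K).symm s₀), Equiv.apply_symm_apply, hs₀] at h1
        rw [conjT, mul_inv_eq_iff_eq_mul]
        exact h1.symm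
      rw [e] at hfix ⊢
      have hzero : ∀ d, d ≠ c → D.P.root d ≠ -D.P.root c →
          (d ∈ List.ofFn eneg → y d = 0) ∧ (d ∈ List.ofFn epos → x d = 0) := fun d h1 h2 => by
        obtain ⟨u, hu⟩ := exists_unit_zpow_ne_one (K := K) (hfd d h1 h2)
        have h := hfix u
        rw [conjT_cell] at h
        obtain ⟨-, hy, hx⟩ := cell_injective D.rootHom (mu := lam) (nodup_list hneg) (nodup_list hpos)
          (fun e he => (hl e).2 ((mem_list_iff hneg e).1 he)) (fun e he => (hl e).1 ((mem_list_iff hpos e).1 he)) h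
        refine ⟨fun hd => ?_, fun hd => ?_⟩
        · by_contra h0
          exact hu (mul_right_cancel₀ h0 ((hy d hd).trans (_root_.one_mul _).symm))
        · by_contra h0
          exact hu (mul_right_cancel₀ h0 ((hx d hd).trans (_root_.one_mul _).symm))
      refine mul_mem (Subgroup.list_prod_mem _ fun g hg => ?_)
        (mul_mem (hTH χ) (Subgroup.list_prod_mem _ fun g hg => ?_))
      · obtain ⟨d, hd, rfl⟩ := List.mem_map.1 hg
        by_cases h1 : d = c
        · exact h1 ▸ hU _
        by_cases h2 : D.P.root d = -D.P.root c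
        · exact hnp d h2 _
        rw [(hzero d h1 h2).1 hd, gp_zero, MonObj.one_comp]
        exact one_mem _
      · obtain ⟨d, hd, rfl⟩ := List.mem_map.1 hg
        by_cases h1 : d = c
        · exact h1 ▸ hU _
        by_cases h2 : D.P.root d = -D.P.root c
        · exact hnp d h2 _
        rw [(hzero d h1 h2).2 hd, gp_zero, MonObj.one_comp]
        exact one_mem _
    obtain ⟨x', hx'⟩ := (mem_ptRange i').1 hmem
    refine ⟨ptOf x', ?_⟩
    show (x' ≫ i').left _ = (w ≫ z).left _
    rw [(ptBC j K).injective hx']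
  have hYuniv : Y = Set.univ := by
    by_contra hne
    obtain ⟨p₀, hp₀⟩ := (Set.ne_univ_iff_exists_notMem _).1 hne
    have hW1 : ptOf (1 : 𝟙_ (Over (Spec (CommRingCat.of K))) ⟶ Z) ∈ W := by
      obtain ⟨y, hy⟩ : ∃ y : Sp j K ⟶ cellSpace D n m, y ≫ RedSub.cellMap D eneg epos = 1 := by
        refine ⟨lift (tup n fun _ => gp j 0) (lift (tpt D j 1) (tup m fun _ => gp j 0)), ?_⟩
        have := lift_cellMap (j := j) (eneg := eneg) (epos := epos) (1 : Multiplicative D.M →* K) 0 0
        simp only [Pi.zero_apply] at this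
        rw [this, tpt_one, MonObj.one_comp, rootProd_eq_one j (x := (0 : D.idx → K)) fun _ _ => rfl,
          rootProd_eq_one j (x := (0 : D.idx → K)) fun _ _ => rfl, _root_.one_mul, _root_.one_mul]
      refine ⟨y.left (IsLocalRing.closedPoint K), ?_⟩
      show (y ≫ RedSub.cellMap D eneg epos).left _ =
        (pullback.fst G.hom (qK j K)) (ptOf ((1 : 𝟙_ (Over (Spec (CommRingCat.of K))) ⟶ Z) ≫ z))
      rw [hy, ← ptBC_closedPoint, MonObj.one_comp]
      exact congrArg (fun s : Sp j K ⟶ G => s.left (IsLocalRing.closedPoint K)) (map_one (ptHom j K G)).symm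
    obtain ⟨p, hpW, hpY⟩ := nonempty_preirreducible_inter hW hY.isOpen_compl ⟨_, hW1⟩ ⟨p₀, hp₀⟩
    obtain ⟨w, hw1, hw2⟩ := exists_pt_mem (X := Z) (hW.inter hY.isOpen_compl).isLocallyClosed ⟨p, hpW, hpY⟩
    exact hw2 (hWY w hw1)
  -- the reflection
  obtain ⟨ν, hν⟩ := D.refl c
  let σc : D.M →+ D.M := (D.P.reflection c).toLinearMap.toAddMonoidHom
  let τ₀ : D.T ⟶ D.T := D.split.hom.hom.hom ≫ Red.DSmap S σc ≫ D.split.inv.hom.hom
  let νK : 𝟙_ (Over (Spec (CommRingCat.of K))) ⟶ GK := NilAction.ofBase (qK j K) (toUnit _ ≫ ν)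
  have hνbase : ∀ {X : Over (Spec (CommRingCat.of K))} (x : X ⟶ 𝟙_ (Over (Spec (CommRingCat.of K)))),
      NilAction.toBase (qK j K) (x ≫ νK) = toUnit (Over.mk (X.hom ≫ qK j K)) ≫ ν := fun {X} x => by
    apply Over.OverMorphism.ext
    simp only [νK, NilAction.toBase, NilAction.ofBase, Over.comp_left,
      Over.homMk_left, Category.assoc, pullback.lift_fst]
    rw [show (x.left : X.left ⟶ _) = X.hom from (Category.comp_id _).symm.trans (Over.w x)]
    simp only [Over.toUnit_left, Over.mk_hom]
    exact (Category.assoc _ _ _).symm.trans (congrArg (fun h => (X.hom ≫ h) ≫ ν.left) (Category.id_comp _))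
  have hσφ : ∀ x, φ (σc x) = φ x := fun x => by
    show φ (D.P.reflection c x) = φ x
    rw [RootPairing.reflection_apply, map_sub, map_zsmul, hker _ hfc, smul_zero, sub_zero]
  obtain ⟨wν, hwν⟩ : ∃ w, w ≫ z = νK := by
    refine (hz.2.2 _ _).2 fun X x h => ?_
    refine toBase_injective' (qK j K) ?_
    rw [NilAction.toBase_mul, NilAction.toBase_mul, hνbase, show NilAction.toBase (qK j K) (h ≫ embK) =
      NilAction.toBase (qK j K) h ≫ emb from toBase_comp_map (qK j K) h emb]
    have hh := hν _ (NilAction.toBase (qK j K) h ≫ Red.DSmap S φ ≫ D.split.inv.hom.hom)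
    rw [mul_inv_eq_iff_eq_mul] at hh
    simp only [Category.assoc] at hh
    rw [reassoc_of% (split_inv_hom (D := D)),
      reassoc_of% (TorusTorsion.DSmap_comp S (D.P.reflection c).toLinearMap.toAddMonoidHom φ),
      show φ.comp (D.P.reflection c).toLinearMap.toAddMonoidHom = φ from AddMonoidHom.ext hσφ] at hh
    exact hh
  obtain ⟨xν, hxν⟩ := exists_pt_lift i' νK (by
    have h : ptOf wν ∈ Y := hYuniv ▸ Set.mem_univ _
    rw [← hwν]
    exact h)
  -- the reflection centralises the torus
  let τK : Red.bc (qK j K) D.T ≅ Red.bc (qK j K) D.T := (Over.pullback (qK j K)).mapIso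
    { hom := τ₀, inv := τ₀
      hom_inv_id := by
        simp only [τ₀, Category.assoc]
        rw [reassoc_of% (split_inv_hom (D := D)), reassoc_of% (TorusTorsion.DSmap_comp S σc σc),
          show σc.comp σc = AddMonoidHom.id _ from AddMonoidHom.ext fun x => D.P.reflection_same c x,
          TorusTorsion.DSmap_id, Category.id_comp, split_hom_inv]
      inv_hom_id := by
        simp only [τ₀, Category.assoc]
        rw [reassoc_of% (split_inv_hom (D := D)), reassoc_of% (TorusTorsion.DSmap_comp S σc σc),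
          show σc.comp σc = AddMonoidHom.id _ from AddMonoidHom.ext fun x => D.P.reflection_same c x,
          TorusTorsion.DSmap_id, Category.id_comp, split_hom_inv] }
  haveI : IsMonHom tB := Groth.L08.Borel.isMonHom_of_comp_mono tB i' _ htB
  haveI : Mono tB := by
    haveI : Mono (tB ≫ i') := htB ▸ inferInstance
    exact mono_of_mono tB i'
  have hmax : AGF.IsMaxTorus tB := Groth.L08.Borel.isMaxTorus_factor (iB := i') (htB.symm ▸ hT)
  have hself : Red.IsBorelOver K (𝟙 B') := by
    refine ⟨inferInstance, inferInstanceAs (IsClosedImmersion (𝟙 B'.left)), ‹_›, ‹_›, hsolv,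
      fun B'' _ i'' _ g hcl _ _ _ hg => ?_⟩
    haveI := Groth.L08.mono_of_closedImmersion i''
    haveI : IsSplitEpi i'' := IsSplitEpi.mk' ⟨g, hg⟩
    haveI : IsIso i'' := isIso_of_mono_of_isSplitEpi i''
    haveI : IsIso (g ≫ i'') := hg ▸ inferInstance
    exact IsIso.of_isIso_comp_right g i''
  have hτ : τK.hom ≫ tB = AGF.conjBy xν tB := by
    rw [← cancel_mono i', Category.assoc, htB, Groth.L08.Borel.conjBy_comp, htB, hxν]
    simp only [AGF.conjBy]
    rw [eq_mul_inv_iff_mul_eq]
    refine toBase_injective' (qK j K) ?_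
    rw [NilAction.toBase_mul, NilAction.toBase_mul, hνbase]
    have hh := hν _ (NilAction.toBase (qK j K) (𝟙 (Red.bc (qK j K) D.T)))
    rw [mul_inv_eq_iff_eq_mul] at hh
    rw [show NilAction.toBase (qK j K) (τK.hom ≫ (Over.pullback (qK j K)).map D.i) = NilAction.toBase (qK j K) τK.hom ≫ D.i from
        toBase_comp_map (qK j K) _ D.i,
      show NilAction.toBase (qK j K) τK.hom = NilAction.toBase (qK j K) (𝟙 (Red.bc (qK j K) D.T)) ≫ τ₀ from
        (congrArg (NilAction.toBase (qK j K)) (Category.id_comp _).symm).trans (toBase_comp_map (qK j K) _ τ₀),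
      show NilAction.toBase (qK j K) ((Over.pullback (qK j K)).map D.i) = NilAction.toBase (qK j K) (𝟙 (Red.bc (qK j K) D.T)) ≫ D.i from
        (congrArg (NilAction.toBase (qK j K)) (Category.id_comp _).symm).trans (toBase_comp_map (qK j K) _ D.i)]
    simp only [τ₀, Category.assoc]
    exact hh.symm
  obtain ⟨σ, hσ⟩ := Groth.L08.Borel.exists_conjIso xν
  have key := Groth.L08.Borel.centralizes_of_normalizes hmax hself tB (Category.comp_id _) xν τK hτ σ (by
    rw [Category.comp_id]
    exact (Category.id_comp _).symm.trans (hσ (𝟙 B')))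
  rw [← hτ] at key
  -- evaluate on a point
  obtain ⟨w, hw⟩ := exists_unit_zpow_ne_one (K := K) (k := 2) two_ne_zero
  obtain ⟨χ, hχ⟩ := exists_char_eq (D := D) c w.ne_zero
  have h1 := congrArg (fun s => ptBC j K ((ptBC j K).symm (tpt D j χ) ≫ s ≫ i')) key
  simp only [Category.assoc, htB, τK, Functor.mapIso_hom] at h1
  rw [← Category.assoc, ptBC_comp, ptBC_comp, ptBC_comp, Equiv.apply_symm_apply, cancel_mono] at h1
  have h2 := congrArg (fun s => DSPts.char (s ≫ D.split.hom.hom.hom) (Multiplicative.ofAdd (D.P.root c))) h1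
  simp only [τ₀, Category.assoc, split_inv_hom, Category.comp_id] at h2
  rw [← Category.assoc, SplitSub.char_DSmap] at h2
  simp only [tpt_hom, DSPts.char_pt, MonoidHom.comp_apply] at h2
  have h3 : χ (Multiplicative.ofAdd (σc (D.P.root c))) = χ (Multiplicative.ofAdd (D.P.root c)) :=
    (ConcreteCategory.bijective_of_isIso (Scheme.ΓSpecIso (CommRingCat.of K)).inv).1 h2
  rw [show σc (D.P.root c) = -D.P.root c from D.P.reflection_apply_self c] at h3
  have h4 : χ (Multiplicative.ofAdd (-D.P.root c)) * χ (Multiplicative.ofAdd (D.P.root c)) = 1 := by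
    rw [← map_mul, ← ofAdd_add, neg_add_cancel, ofAdd_zero, map_one]
  rw [h3, hχ] at h4
  exact hw (by rw [zpow_two, Units.val_mul]; exact h4)

end Maximal

variable [GrpObj (D.T ⊗ RedSub.pow (Red.Ga S) m)] [IsMonHom (RedSub.borelMap D epos)]

/-- The torus times the positive root groups is a Borel subgroup of the geometric fibre. -/
theorem isBorelOver_borelMap (hpos : RedSub.Enumerates (RedSub.posRoots D.P b) epos)
    {q : Spec (CommRingCat.of K) ⟶ S} (hq : qK j K = q) (hT : AGF.IsMaxTorus ((Over.pullback q).map D.i))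
    [ConnectedSpace (Red.bc q G).left] :
    Red.IsBorelOver K ((Over.pullback q).map (RedSub.borelMap D epos)) := by
  subst hq
  haveI := reductive_affine D
  haveI := reductive_smooth D
  haveI := isMonHom_i (D := D)
  haveI : ∀ c, IsMonHom (D.u c) := fun c => (D.rootHom c).1
  haveI := isClosedImmersion_borelMap hpos
  haveI := isMonHom_bcMap (qK j K) (RedSub.borelMap D epos)
  let B := D.T ⊗ RedSub.pow (Red.Ga S) m
  let iK : Red.bc (qK j K) B ⟶ Red.bc (qK j K) G := (Over.pullback (qK j K)).map (RedSub.borelMap D epos)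
  haveI hcl : IsClosedImmersion iK.left :=
    MorphismProperty.overPullbackMap (P := @IsClosedImmersion) (qK j K) (RedSub.borelMap D epos) inferInstance
  haveI hsm : Smooth (Red.bc (qK j K) B).hom := MorphismProperty.pullback_snd _ _ (affSmooth_borel D m).2
  obtain ⟨n, eneg, hneg⟩ := exists_enum (D := D) (RedSub.negRoots D.P b)
  haveI : IsAffineHom (Red.bc (qK j K) G).hom := MorphismProperty.pullback_snd _ _ ‹IsAffineHom G.hom›
  haveI : Smooth (Red.bc (qK j K) G).hom := MorphismProperty.pullback_snd _ _ ‹Smooth G.hom›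
  haveI : IrreducibleSpace (Red.bc (qK j K) G).left := ConnIrred.irreducibleSpace _
  haveI := isOpenImmersion_cellMap hneg hpos
  -- connectedness
  haveI hcon : ConnectedSpace (Red.bc (qK j K) B).left := by
    let Ω := cellSpace D n m
    let cK : Red.bc (qK j K) Ω ⟶ Red.bc (qK j K) G := (Over.pullback (qK j K)).map (RedSub.cellMap D eneg epos)
    haveI : IsOpenImmersion cK.left := MorphismProperty.overPullbackMap (P := @IsOpenImmersion) (qK j K) (RedSub.cellMap D eneg epos) inferInstance
    let sec : B ⟶ Ω := lift (toUnit B ≫ tup n fun _ => (1 : 𝟙_ (Over S) ⟶ Red.Ga S)) (𝟙 B)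
    let pr : Red.bc (qK j K) Ω ⟶ Red.bc (qK j K) B := (Over.pullback (qK j K)).map (snd _ _)
    have hsec : ((Over.pullback (qK j K)).map sec).left ≫ pr.left = 𝟙 _ := by
      rw [← Over.comp_left, ← Functor.map_comp, lift_snd, CategoryTheory.Functor.map_id]
      rfl
    have hsur : Function.Surjective pr.left := fun y => ⟨((Over.pullback (qK j K)).map sec).left y, by
      rw [← Scheme.Hom.comp_apply, hsec]; rfl⟩
    haveI : Nonempty (Red.bc (qK j K) B).left :=
      ⟨(η[Red.bc (qK j K) B]).left (IsLocalRing.closedPoint K)⟩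
    haveI : Nonempty (Red.bc (qK j K) Ω).left := hsur.nonempty
    haveI : PreirreducibleSpace (Red.bc (qK j K) Ω).left := ⟨by
      rw [← Set.preimage_image_eq Set.univ cK.left.isOpenEmbedding.injective, Set.image_univ]
      exact (PreirreducibleSpace.isPreirreducible_univ.open_subset cK.left.isOpenEmbedding.isOpen_range
        (Set.subset_univ _)).preimage cK.left.isOpenEmbedding⟩
    haveI : IrreducibleSpace (Red.bc (qK j K) Ω).left := ⟨inferInstance⟩
    exact hsur.connectedSpace pr.left.continuous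
  refine ⟨inferInstance, hcl, hsm, hcon, isSolvableGrp_bc (qK j K) (isSolvable_borel hpos),
    fun B' _ i' _ f hcl' hsm' hcon' hsolv' hfi => ?_⟩
  haveI := hcl'; haveI := hsm'; haveI := hcon'
  haveI : Mono i' := Groth.L08.mono_of_closedImmersion i'
  have hP : ∀ t : Sp j K ⟶ B, t ≫ RedSub.borelMap D epos ∈ ptRange i' := fun t =>
    (mem_ptRange i').2 ⟨(ptBC j K).symm t ≫ f, by
      rw [Category.assoc, hfi]
      exact (ptBC_comp j K _ _).trans (by rw [Equiv.apply_symm_apply])⟩
  let tB : Red.bc (qK j K) D.T ⟶ B' :=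
    (Over.pullback (qK j K)).map (lift (𝟙 D.T) (toUnit D.T ≫ tup m fun _ => (1 : 𝟙_ (Over S) ⟶ Red.Ga S))) ≫ f
  have htB : tB ≫ i' = (Over.pullback (qK j K)).map D.i := by
    rw [Category.assoc, hfi, ← Functor.map_comp, comp_borelMap]
    congr 1
    rw [lift_fst, Category.id_comp, lift_snd, List.prod_eq_one (fun g hg => ?_), _root_.mul_one]
    obtain ⟨k, rfl⟩ := List.mem_ofFn.1 hg
    rw [Category.assoc (toUnit D.T), tup_proj, MonObj.comp_one, MonObj.one_comp]
  -- the image of the Borel subgroup fills the subgroup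
  haveI hfcl : IsClosedImmersion f.left := by
    haveI : IsClosedImmersion (f.left ≫ i'.left) := by
      rw [← Over.comp_left, hfi]
      exact hcl
    exact IsClosedImmersion.of_comp f.left i'.left
  haveI : LocallyOfFiniteType B'.hom := inferInstance
  haveI := ConnIrred.irreducibleSpace B'
  let W : Set B'.left := (i'.left ≫ pullback.fst G.hom (qK j K)) ⁻¹' Set.range (RedSub.cellMap D eneg epos).left
  have hW : IsOpen W := (RedSub.cellMap D eneg epos).left.isOpenEmbedding.isOpen_range.preimage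
    (Scheme.Hom.continuous _)
  have hWf : ∀ p : 𝟙_ (Over (Spec (CommRingCat.of K))) ⟶ B', ptOf p ∈ W → ptOf p ∈ Set.range f.left := by
    intro p hp
    obtain ⟨t, ht⟩ := exists_cell_of_range hneg hpos (ptBC j K (p ≫ i')) (by rw [ptBC_closedPoint]; exact hp)
    obtain ⟨χ, y, x, e, -⟩ := exists_coords t hneg.1 hpos.1
    rw [ht] at e
    obtain ⟨lv, hF⟩ := exists_filt_pos (D := D) b
    obtain ⟨lv', hF'⟩ := exists_filt_neg (D := D) b
    obtain ⟨lam, hl⟩ := hasLam b
    have hbor : (tpt D j χ ≫ D.i) * rootProd j D.u (List.ofFn epos) x ∈ ptRange i' := by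
      obtain ⟨t', ht'⟩ := (mem_borelPts_iff (j := j) (C := K) hpos hF).1
        ⟨χ, _, rootProd_mem_gen D.rootHom fun c hc _ => ⟨(mem_list_iff hpos c).1 hc, Nat.zero_le _⟩, rfl⟩
      exact ht' ▸ hP t'
    have hy : rootProd j D.u (List.ofFn eneg) y ∈ ptRange i' := by
      have := mul_mem ((mem_ptRange i').2 ⟨p, rfl⟩ : ptBC j K (p ≫ i') ∈ ptRange i') (inv_mem hbor)
      rwa [e, mul_inv_cancel_right] at this
    have hy1 : rootProd j D.u (List.ofFn eneg) y = 1 := by
      by_contra hne
      obtain ⟨c, hc, hU⟩ := exists_root_mem b hF' (nodup_list hneg) (mem_list_iff hneg) (fun χ' => by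
          obtain ⟨t', ht'⟩ := (mem_borelPts_iff (j := j) (C := K) hpos hF).1
            ⟨χ', 1, one_mem _, (_root_.mul_one _).symm⟩
          exact ht' ▸ hP t') hy (mu := -lam) (fun c hc => by simpa using (hl c).2 hc)
        (rootProd_mem_gen D.rootHom fun c hc _ => ⟨(mem_list_iff hneg c).1 hc, Nat.zero_le _⟩) hne
      exact no_neg_root i' hpos hT hsolv' hP tB htB hc hU
    rw [hy1, _root_.one_mul] at e
    obtain ⟨t', ht'⟩ := (mem_borelPts_iff (j := j) (C := K) hpos hF).1
      ⟨χ, _, rootProd_mem_gen D.rootHom fun c hc _ => ⟨(mem_list_iff hpos c).1 hc, Nat.zero_le _⟩, e⟩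
    have hpe : p = (ptBC j K).symm t' ≫ f := by
      rw [← cancel_mono i', Category.assoc, hfi]
      refine (ptBC j K).injective ?_
      exact ht'.symm.trans (((ptBC_comp j K _ _).trans (by rw [Equiv.apply_symm_apply])).symm)
    exact ⟨ptOf ((ptBC j K).symm t'), by rw [hpe]; rfl⟩
  have hsur : Function.Surjective f.left := by
    rw [← Set.range_eq_univ]
    by_contra hne
    obtain ⟨p₀, hp₀⟩ := (Set.ne_univ_iff_exists_notMem _).1 hne
    have hW1 : ptOf (1 : 𝟙_ (Over (Spec (CommRingCat.of K))) ⟶ B') ∈ W := by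
      obtain ⟨y, hy⟩ : ∃ y : Sp j K ⟶ cellSpace D n m, y ≫ RedSub.cellMap D eneg epos = 1 := by
        refine ⟨lift (tup n fun _ => gp j 0) (lift (tpt D j 1) (tup m fun _ => gp j 0)), ?_⟩
        have := lift_cellMap (j := j) (eneg := eneg) (epos := epos) (1 : Multiplicative D.M →* K) 0 0
        simp only [Pi.zero_apply] at this
        rw [this, tpt_one, MonObj.one_comp, rootProd_eq_one j (x := (0 : D.idx → K)) fun _ _ => rfl,
          rootProd_eq_one j (x := (0 : D.idx → K)) fun _ _ => rfl, _root_.one_mul, _root_.one_mul]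
      refine ⟨y.left (IsLocalRing.closedPoint K), ?_⟩
      show (y ≫ RedSub.cellMap D eneg epos).left _ =
        (pullback.fst G.hom (qK j K)) (ptOf ((1 : 𝟙_ (Over (Spec (CommRingCat.of K))) ⟶ B') ≫ i'))
      rw [hy, ← ptBC_closedPoint, MonObj.one_comp]
      exact congrArg (fun s : Sp j K ⟶ G => s.left (IsLocalRing.closedPoint K)) (map_one (ptHom j K G)).symm
    have hcl₂ := f.left.isClosedEmbedding.isClosed_range
    obtain ⟨x, hxW, hxf⟩ := nonempty_preirreducible_inter hW hcl₂.isOpen_compl ⟨_, hW1⟩ ⟨p₀, hp₀⟩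
    obtain ⟨p, hp1, hp2⟩ := exists_pt_mem (X := B') (hW.inter hcl₂.isOpen_compl).isLocallyClosed ⟨x, hxW, hxf⟩
    exact hp2 (hWf p hp1)
  haveI : IsReduced B'.left := Groth.L25.GenWords.isReduced_of_smooth_field B'.hom
  haveI : Surjective f.left := ⟨hsur⟩
  haveI : IsIso f.left := isIso_of_isClosedImmersion_of_surjective f.left
  haveI : IsIso ((Over.forget _).map f) := ‹IsIso f.left›
  exact isIso_of_reflects_iso f (Over.forget _)

end Groth.L14.Chev.Cell
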