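import Groth.Agent.L14.Chev.Cell.Borel

/-!
The group structure on the torus times the positive root groups; it is solvable.
-/

set_option autoImplicit false
universe u

open CategoryTheory CategoryTheory.Limits AlgebraicGeometry MonoidalCategory CartesianMonoidalCategory MonObj
open Groth.L14.RankOne Groth.L25 Groth.L14.Chart

set_option backward.isDefEq.respectTransparency.types false
set_option linter.style.haveILetI false
set_option linter.unusedSectionVars false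
set_option maxHeartbeats 1000000

noncomputable section

namespace Groth.L14.Chev.Cell

variable {S : Scheme.{u}} {G : Over S} [GrpObj G] {D : Red.SplitRed G} {b : D.P.Base} {m : ℕ} {epos : Fin m → D.idx}
  {R : Type u} [CommRing R] {j : Spec (CommRingCat.of R) ⟶ S} [IsOpenImmersion j]
  {C : Type u} [CommRing C] [Algebra R C] {Ψ : Set D.idx} {lv : D.idx → ℕ}

theorem conjT_mem_gen (χ : Multiplicative D.M →* C) {k : ℕ} {g : Sp j C ⟶ G} (hg : g ∈ gen j C D.u Ψ lv k) :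
    conjT D j χ g ∈ gen j C D.u Ψ lv k := by
  rw [conjT]
  induction hg using Subgroup.closure_induction with
  | mem g hg =>
    obtain ⟨c, hc, hn, x, rfl⟩ := hg
    rw [conj_root j D.rootHom]
    exact gp_mem_gen hc hn _
  | one => simp
  | mul g g' _ _ hg hg' =>
    rw [show (tpt D j χ ≫ D.i) * (g * g') * (tpt D j χ ≫ D.i)⁻¹ = ((tpt D j χ ≫ D.i) * g * (tpt D j χ ≫ D.i)⁻¹) *
      ((tpt D j χ ≫ D.i) * g' * (tpt D j χ ≫ D.i)⁻¹) by group]
    exact mul_mem hg hg'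
  | inv g _ hg =>
    rw [show (tpt D j χ ≫ D.i) * g⁻¹ * (tpt D j χ ≫ D.i)⁻¹ = ((tpt D j χ ≫ D.i) * g * (tpt D j χ ≫ D.i)⁻¹)⁻¹ by group]
    exact inv_mem hg

/-- Elements of a level commute with all elements modulo the next level. -/
theorem commute_mod (hF : Filt D Ψ lv) {k : ℕ} {p g : Sp j C ⟶ G} (hp : p ∈ gen j C D.u Ψ lv k)
    (hg : g ∈ gen j C D.u Ψ lv 0) : ∃ h ∈ gen j C D.u Ψ lv (k + 1), p * g = g * p * h := by
  have hN : ∀ {x : Sp j C ⟶ G}, x ∈ gen j C D.u Ψ lv 0 → ∀ h ∈ gen j C D.u Ψ lv (k + 1),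
      x * h * x⁻¹ ∈ gen j C D.u Ψ lv (k + 1) ∧ x⁻¹ * h * x ∈ gen j C D.u Ψ lv (k + 1) := fun hx =>
    conj_mem_gen D.rootHom hF hx
  induction hp using Subgroup.closure_induction with
  | mem p hp =>
    obtain ⟨c, hc, hn, x, rfl⟩ := hp
    exact gp_commute_mod D.rootHom hF hc hn x hg
  | one => exact ⟨1, one_mem _, by simp⟩
  | mul p p' hp₀ hp'₀ hp hp' =>
    obtain ⟨h, hh, e⟩ := hp
    obtain ⟨h', hh', e'⟩ := hp'
    refine ⟨p'⁻¹ * h * p' * h', mul_mem (hN (gen_le_zero hp'₀) h hh).2 hh', ?_⟩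
    calc p * p' * g = p * (p' * g) := by group
      _ = (p * g) * p' * h' := by rw [e']; group
      _ = _ := by rw [e]; group
  | inv p hp₀ hp =>
    obtain ⟨h, hh, e⟩ := hp
    refine ⟨p * h⁻¹ * p⁻¹, (hN (gen_le_zero hp₀) _ (inv_mem hh)).1, ?_⟩
    calc p⁻¹ * g = p⁻¹ * (g * p * h) * h⁻¹ * p⁻¹ := by group
      _ = p⁻¹ * (p * g) * h⁻¹ * p⁻¹ := by rw [e]
      _ = _ := by group

variable (j C D b) in
/-- Products of a torus point and a product of positive root points. -/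
def borelPts (lv : D.idx → ℕ) : Set (Sp j C ⟶ G) :=
  {g | ∃ (χ : Multiplicative D.M →* C), ∃ u ∈ gen j C D.u (RedSub.posRoots D.P b) lv 0, g = (tpt D j χ ≫ D.i) * u}

variable (hpos : RedSub.Enumerates (RedSub.posRoots D.P b) epos) (hF : Filt D (RedSub.posRoots D.P b) lv)

include hpos hF in
theorem mem_borelPts_iff {g : Sp j C ⟶ G} :
    g ∈ borelPts D b j C lv ↔ ∃ t : Sp j C ⟶ D.T ⊗ RedSub.pow (Red.Ga S) m, t ≫ RedSub.borelMap D epos = g := by
  constructor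
  · rintro ⟨χ, u, hu, rfl⟩
    obtain ⟨z, rfl⟩ := (mem_gen_iff D.rootHom hF (nodup_list hpos) (mem_list_iff hpos)).1 hu
    exact ⟨_, lift_borelMap χ z⟩
  · rintro ⟨t, rfl⟩
    obtain ⟨χ, z, e, -⟩ := exists_borel_coords t hpos.1
    exact ⟨χ, _, rootProd_mem_gen D.rootHom fun c hc _ => ⟨(mem_list_iff hpos c).1 hc, Nat.zero_le _⟩, e⟩

theorem borelPts_one : (1 : Sp j C ⟶ G) ∈ borelPts D b j C lv :=
  haveI := isMonHom_i (D := D)
  ⟨1, 1, one_mem _, by rw [tpt_one, MonObj.one_comp, _root_.one_mul]⟩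

theorem borelPts_mul {g g' : Sp j C ⟶ G} (hg : g ∈ borelPts D b j C lv) (hg' : g' ∈ borelPts D b j C lv) :
    g * g' ∈ borelPts D b j C lv := by
  haveI := isMonHom_i (D := D)
  obtain ⟨χ, u, hu, rfl⟩ := hg
  obtain ⟨χ', u', hu', rfl⟩ := hg'
  let χi : Multiplicative D.M →* C := χ'.comp invMonoidHom
  have hi : tpt D j χi ≫ D.i = (tpt D j χ' ≫ D.i)⁻¹ := by
    rw [eq_inv_iff_mul_eq_one, ← MonObj.mul_comp, ← tpt_mul, show χi * χ' = 1 from MonoidHom.ext fun k => by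
      show χ' k⁻¹ * χ' k = 1
      rw [← map_mul, inv_mul_cancel, map_one], tpt_one, MonObj.one_comp]
  have hc := conjT_mem_gen χi hu
  rw [conjT, hi, inv_inv] at hc
  refine ⟨χ * χ', _, mul_mem hc hu', ?_⟩
  rw [tpt_mul, MonObj.mul_comp]
  group

theorem borelPts_inv {g : Sp j C ⟶ G} (hg : g ∈ borelPts D b j C lv) : g⁻¹ ∈ borelPts D b j C lv := by
  haveI := isMonHom_i (D := D)
  obtain ⟨χ, u, hu, rfl⟩ := hg
  let χi : Multiplicative D.M →* C := χ.comp invMonoidHom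
  have hi : tpt D j χi ≫ D.i = (tpt D j χ ≫ D.i)⁻¹ := by
    rw [eq_inv_iff_mul_eq_one, ← MonObj.mul_comp, ← tpt_mul, show χi * χ = 1 from MonoidHom.ext fun k => by
      show χ k⁻¹ * χ k = 1
      rw [← map_mul, inv_mul_cancel, map_one], tpt_one, MonObj.one_comp]
  refine ⟨χi, _, conjT_mem_gen χ (inv_mem hu), ?_⟩
  rw [conjT, hi]
  group

include hpos in
theorem mono_borelMap : Mono (RedSub.borelMap D epos) :=
  ⟨fun p q h => hom_ext_open fun R _ j _ C _ _ t => borelMap_injective hpos (by rw [Category.assoc, Category.assoc, h])⟩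

include hpos in
theorem isClosedImmersion_borelMap : IsClosedImmersion (RedSub.borelMap D epos).left := by
  haveI := reductive_affine D
  haveI := (affSmooth_borel D m).1
  exact isClosedImmersion_of_crdMap _ fun R _ j _ => surjective_crdMap_borel b hpos

include hpos in
theorem exists_grpObj_borel :
    ∃ _ : GrpObj (D.T ⊗ RedSub.pow (Red.Ga S) m), IsMonHom (RedSub.borelMap D epos) := by
  obtain ⟨lv, hF⟩ := exists_filt_pos (D := D) b
  haveI := mono_borelMap hpos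
  have hB := affSmooth_borel D m
  refine Groth.L08.exists_grpObj_of_mono _ ?_ ?_ ?_
  · haveI := affSmooth_one (S := S) |>.1
    refine exists_lift_of_univ _ _ fun R _ j _ => (mem_borelPts_iff hpos hF).1 ?_
    rw [show η[G] = (1 : 𝟙_ (Over S) ⟶ G) by rw [Hom.one_def, toUnit_unique (toUnit _) (𝟙 _), Category.id_comp],
      MonObj.comp_one]
    exact borelPts_one
  · haveI := (hB.tensor hB).1
    refine exists_lift_of_univ _ _ fun R _ j _ => (mem_borelPts_iff hpos hF).1 ?_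
    rw [MonObj.comp_mul, ← Category.assoc, ← Category.assoc]
    exact borelPts_mul ((mem_borelPts_iff hpos hF).2 ⟨_, rfl⟩) ((mem_borelPts_iff hpos hF).2 ⟨_, rfl⟩)
  · haveI := hB.1
    refine exists_lift_of_univ _ _ fun R _ j _ => (mem_borelPts_iff hpos hF).1 ?_
    rw [GrpObj.comp_inv]
    exact borelPts_inv ((mem_borelPts_iff hpos hF).2 ⟨_, rfl⟩)

include hF in
theorem derived_le [hB : GrpObj (D.T ⊗ RedSub.pow (Red.Ga S) m)] [IsMonHom (RedSub.borelMap D epos)]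
    (hpos : RedSub.Enumerates (RedSub.posRoots D.P b) epos) (k : ℕ)
    {t : Sp j C ⟶ D.T ⊗ RedSub.pow (Red.Ga S) m}
    (ht : t ∈ derivedSeries (Sp j C ⟶ D.T ⊗ RedSub.pow (Red.Ga S) m) (k + 1)) :
    t ≫ RedSub.borelMap D epos ∈ gen j C D.u (RedSub.posRoots D.P b) lv k := by
  let Φ : (Sp j C ⟶ D.T ⊗ RedSub.pow (Red.Ga S) m) →* (Sp j C ⟶ G) :=
    MonoidHom.mk' (· ≫ RedSub.borelMap D epos) fun a c => MonObj.mul_comp a c _
  suffices derivedSeries _ (k + 1) ≤ (gen j C D.u (RedSub.posRoots D.P b) lv k).comap Φ from this ht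
  clear ht t
  have hnorm : ∀ {x : Sp j C ⟶ G}, x ∈ gen j C D.u (RedSub.posRoots D.P b) lv 0 → ∀ {n : ℕ},
      ∀ h ∈ gen j C D.u (RedSub.posRoots D.P b) lv n, x * h * x⁻¹ ∈ gen j C D.u (RedSub.posRoots D.P b) lv n :=
    fun hx _ h hh => (conj_mem_gen D.rootHom hF hx h hh).1
  induction k with
  | zero =>
    rw [derivedSeries_succ, derivedSeries_zero, Subgroup.commutator_le]
    intro a _ c _
    rw [Subgroup.mem_comap, map_commutatorElement, commutatorElement_def]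
    haveI := isMonHom_i (D := D)
    obtain ⟨χ, u, hu, ea⟩ := (mem_borelPts_iff (j := j) (C := C) hpos hF).2 ⟨a, rfl⟩
    obtain ⟨χ', u', hu', ec⟩ := (mem_borelPts_iff (j := j) (C := C) hpos hF).2 ⟨c, rfl⟩
    show (a ≫ _) * (c ≫ _) * (a ≫ _)⁻¹ * (c ≫ _)⁻¹ ∈ _
    rw [ea, ec]
    have hT : (tpt D j χ ≫ D.i) * (tpt D j χ' ≫ D.i) = (tpt D j χ' ≫ D.i) * (tpt D j χ ≫ D.i) := by
      rw [← MonObj.mul_comp, ← MonObj.mul_comp, ← tpt_mul, ← tpt_mul, mul_comm]
    let A := tpt D j χ ≫ D.i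
    let B := tpt D j χ' ≫ D.i
    rw [show A * u * (B * u') * (A * u)⁻¹ * (B * u')⁻¹ =
        (A * u * A⁻¹) * (A * B * u' * B⁻¹ * A⁻¹) * ((A * B * u⁻¹ * B⁻¹ * A⁻¹) * ((A * B) * (B * A)⁻¹)) *
          (B * u'⁻¹ * B⁻¹) by group,
      show (A * B) * (B * A)⁻¹ = 1 by rw [show A * B = B * A from hT, mul_inv_cancel], _root_.mul_one]
    refine mul_mem (mul_mem (mul_mem (conjT_mem_gen χ hu) ?_) ?_) (conjT_mem_gen χ' (inv_mem hu'))
    · rw [show A * B * u' * B⁻¹ * A⁻¹ = A * (B * u' * B⁻¹) * A⁻¹ by group]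
      exact conjT_mem_gen χ (conjT_mem_gen χ' hu')
    · rw [show A * B * u⁻¹ * B⁻¹ * A⁻¹ = A * (B * u⁻¹ * B⁻¹) * A⁻¹ by group]
      exact conjT_mem_gen χ (conjT_mem_gen χ' (inv_mem hu))
  | succ k ih =>
    rw [derivedSeries_succ, Subgroup.commutator_le]
    intro a ha c hc
    rw [Subgroup.mem_comap, map_commutatorElement, commutatorElement_def]
    obtain ⟨h, hh, e⟩ := commute_mod hF (ih ha) (gen_le_zero (ih hc))
    have h1 : Φ a * Φ c * (Φ a)⁻¹ * (Φ c)⁻¹ = (Φ c * Φ a) * h * (Φ c * Φ a)⁻¹ := by rw [e]; group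
    rw [h1]
    exact hnorm (mul_mem (gen_le_zero (ih hc)) (gen_le_zero (ih ha))) h hh

include hpos in
theorem isSolvable_borel [GrpObj (D.T ⊗ RedSub.pow (Red.Ga S) m)] [IsMonHom (RedSub.borelMap D epos)] :
    Red.IsSolvableGrp (D.T ⊗ RedSub.pow (Red.Ga S) m) := by
  obtain ⟨lv, hF⟩ := exists_filt_pos (D := D) b
  haveI := mono_borelMap hpos
  refine ⟨Finset.univ.sup lv + 1 + 1, fun Y => (Subgroup.eq_bot_iff_forall _).2 fun t ht => ?_⟩
  refine (cancel_mono (RedSub.borelMap D epos)).1 (hom_ext_open fun R _ j _ C _ _ s => ?_)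
  rw [MonObj.one_comp, MonObj.comp_one, ← Category.assoc]
  let Φ : (Y ⟶ D.T ⊗ RedSub.pow (Red.Ga S) m) →* (Sp j C ⟶ D.T ⊗ RedSub.pow (Red.Ga S) m) :=
    MonoidHom.mk' (s ≫ ·) fun a c => MonObj.comp_mul s a c
  have h := derived_le hF hpos (Finset.univ.sup lv + 1) (map_derivedSeries_le_derivedSeries Φ _ ⟨t, ht, rfl⟩)
  rw [gen_eq_bot fun c => Nat.lt_succ_of_le (Finset.le_sup (Finset.mem_univ c)), Subgroup.mem_bot] at h
  exact h

end Groth.L14.Chev.Cell
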