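import Groth.Agent.L14.Chev.Cell.FibrePts
import Groth.Agent.L08.Borel.Geom
import Groth.Agent.L08.Borel.Cartan
import Groth.Agent.L14.Chev.Cell.Fibre

/-!
Geometric fibres of split reductive groups are connected.
-/

set_option autoImplicit false
universe u

open CategoryTheory CategoryTheory.Limits AlgebraicGeometry MonoidalCategory CartesianMonoidalCategory MonObj
open Groth.L14.RankOne Groth.L25 Groth.L14.Chart

set_option backward.isDefEq.respectTransparency.types false
set_option linter.style.haveILetI false

noncomputable section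

namespace Groth.L14.Chev.Cell

theorem connectedSpace_fibre {S : Scheme.{u}} {G : Over S} [GrpObj G] (D : Red.SplitRed G) {K : Type u} [Field K]
    [IsAlgClosed K] (q : Spec (CommRingCat.of K) ⟶ S) : ConnectedSpace (Red.bc q G).left := by
  let s : S := q (IsLocalRing.closedPoint K)
  let dK : S.residueField s ⟶ CommRingCat.of K := Scheme.descResidueField (Scheme.stalkClosedPointTo q)
  have hd : Spec.map dK ≫ S.fromSpecResidueField s = q :=
    Scheme.descResidueField_stalkClosedPointTo_fromSpecResidueField K S q
  letI : Algebra (S.residueField s) K := dK.hom.toAlgebra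
  let σ : AlgebraicClosure (S.residueField s) →ₐ[S.residueField s] K := IsAlgClosed.lift
  let θ : Spec (CommRingCat.of K) ⟶ Spec (CommRingCat.of (AlgebraicClosure (S.residueField s))) :=
    Spec.map (CommRingCat.ofHom σ.toRingHom)
  have hθ : θ ≫ Red.geomPt s = q := by
    refine Eq.trans ?_ hd
    show Spec.map _ ≫ Spec.map _ ≫ _ = _
    rw [← Spec.map_comp_assoc]
    congr 2
    ext x
    exact σ.commutes x
  obtain ⟨-, h2, h3, -⟩ := D.reductive.2.2 s
  haveI := h2; haveI := h3
  haveI := Groth.L08.Borel.connectedSpace_bc' θ (Red.geomFibre s G)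
  let e : Red.bc θ (Red.geomFibre s G) ≅ Red.bc q G := ActBC.bcCompIso θ (Red.geomPt s) G hθ
  let h : (Red.bc θ (Red.geomFibre s G)).left ≃ₜ (Red.bc q G).left :=
    ((Over.forget _).mapIso e).hom.homeomorph
  exact h.surjective.connectedSpace h.continuous

end Groth.L14.Chev.Cell
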