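import Groth.Agent.L14.Chev.Cell.RankCent
import Groth.Agent.L14.Chev.Cell.NegBase
import Groth.Agent.L14.Chev.Cell.ConnFibre

/-!
Bruhat decomposition of the points over an algebraically closed field.
-/

set_option autoImplicit false
universe u

open CategoryTheory CategoryTheory.Limits AlgebraicGeometry MonoidalCategory CartesianMonoidalCategory MonObj
open Groth.L14.RankOne Groth.L25 Groth.L14.Chart
open Groth.L08.Borel (ptOf exists_pt_mem exists_pt_lift)

set_option backward.isDefEq.respectTransparency.types false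
set_option linter.style.haveILetI false
set_option linter.unusedSectionVars false
set_option maxHeartbeats 1000000

noncomputable section

namespace Groth.L14.Chev.Cell

variable {S : Scheme.{u}} {G : Over S} [GrpObj G] {D : Red.SplitRed G}
  {R : Type u} [CommRing R] {j : Spec (CommRingCat.of R) ⟶ S} {C : Type u} [CommRing C] [Algebra R C]

theorem tpt_inv (χ : Multiplicative D.M →* C) :
    tpt D j (χ.comp invMonoidHom) ≫ D.i = (tpt D j χ ≫ D.i)⁻¹ := by
  haveI := isMonHom_i (D := D)
  rw [eq_inv_iff_mul_eq_one, ← MonObj.mul_comp, ← tpt_mul, show χ.comp invMonoidHom * χ = 1 from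
    MonoidHom.ext fun k => by
      show χ k⁻¹ * χ k = 1
      rw [← map_mul, inv_mul_cancel, map_one], tpt_one, MonObj.one_comp]

variable (j C) in
/-- The product along a word of the points realising the reflections. -/
def wpt (nr : D.idx → (𝟙_ (Over S) ⟶ G)) (l : List D.idx) : Sp j C ⟶ G :=
  toUnit (Sp j C) ≫ (l.map nr).prod

variable {nr : D.idx → (𝟙_ (Over S) ⟶ G)}

theorem wpt_nil : wpt j C nr [] = 1 := MonObj.comp_one _

theorem wpt_cons (a : D.idx) (l : List D.idx) : wpt j C nr (a :: l) = (toUnit (Sp j C) ≫ nr a) * wpt j C nr l := by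
  rw [wpt, wpt, List.map_cons, List.prod_cons, MonObj.comp_mul]

theorem wordPerm_cons (a : D.idx) (l : List D.idx) (c : D.idx) :
    RedSub.wordPerm D.P (a :: l) c = D.P.reflectionPerm a (RedSub.wordPerm D.P l c) := by
  simp [RedSub.wordPerm]

/-- The action of a word on the characters. -/
def wordChar {C : Type u} [CommRing C] (l : List D.idx) (χ : Multiplicative D.M →* C) : Multiplicative D.M →* C :=
  l.foldr (fun a x => reflChar a x) χ

theorem wpt_tpt (hn : ∀ a, ActsBy (nr a) a) [IsOpenImmersion j] :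
    ∀ (l : List D.idx) (χ : Multiplicative D.M →* C),
      wpt j C nr l * (tpt D j χ ≫ D.i) = (tpt D j (wordChar l χ) ≫ D.i) * wpt j C nr l
  | [], χ => by simp [wpt_nil, wordChar]
  | a :: l, χ => by
    rw [wpt_cons, _root_.mul_assoc, wpt_tpt hn l χ, ← _root_.mul_assoc,
      show (tpt D j (wordChar (a :: l) χ) ≫ D.i) =
        (toUnit (Sp j C) ≫ nr a) * (tpt D j (wordChar l χ) ≫ D.i) * (toUnit (Sp j C) ≫ nr a)⁻¹ from
          (hn a R j C _).symm]
    group

theorem wpt_root (b : D.P.Base) (hn : ∀ a, ActsBy (nr a) a) [IsOpenImmersion j] :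
    ∀ (l : List D.idx) (c : D.idx), ∃ w : Rˣ, ∀ x : C, wpt j C nr l * (gp j x ≫ D.u c) =
      (gp j (algebraMap R C (w : R) * x) ≫ D.u (RedSub.wordPerm D.P l c)) * wpt j C nr l
  | [], c => ⟨1, fun x => by simp [wpt_nil, RedSub.wordPerm]⟩
  | a :: l, c => by
    obtain ⟨w, hw⟩ := wpt_root b hn l c
    obtain ⟨v, hv⟩ := exists_conj_scale (j := j) b (hn a) (RedSub.wordPerm D.P l c)
    refine ⟨v * w, fun x => ?_⟩
    rw [wpt_cons, _root_.mul_assoc, hw, wordPerm_cons, Units.val_mul, map_mul, _root_.mul_assoc (algebraMap R C _),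
      ← hv C]
    group

section Borel

variable {b : D.P.Base} {lv : D.idx → ℕ}

theorem gp_mem_borelPts {c : D.idx} (hc : c ∈ RedSub.posRoots D.P b) (x : C) :
    gp j x ≫ D.u c ∈ borelPts D b j C lv :=
  haveI := isMonHom_i (D := D)
  ⟨1, _, gp_mem_gen hc (Nat.zero_le _) x, by rw [tpt_one, MonObj.one_comp, _root_.one_mul]⟩

theorem tpt_mem_borelPts (χ : Multiplicative D.M →* C) : tpt D j χ ≫ D.i ∈ borelPts D b j C lv :=
  ⟨χ, 1, one_mem _, (_root_.mul_one _).symm⟩

theorem mem_borelPts_of_gen {g : Sp j C ⟶ G} (hg : g ∈ gen j C D.u (RedSub.posRoots D.P b) lv 0) :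
    g ∈ borelPts D b j C lv :=
  haveI := isMonHom_i (D := D)
  ⟨1, g, hg, by rw [tpt_one, MonObj.one_comp, _root_.one_mul]⟩

end Borel

variable [IsOpenImmersion j] {K : Type u} [Field K] [IsAlgClosed K] [Algebra R K]

/-- The square of a point realising a reflection is a torus point. -/
theorem sq_mem_torus (b : D.P.Base) {ν : 𝟙_ (Over S) ⟶ G} {a : D.idx} (hν : ActsBy ν a) :
    ∃ χ : Multiplicative D.M →* K, tpt D j χ ≫ D.i = (toUnit (Sp j K) ≫ ν) * (toUnit (Sp j K) ≫ ν) := by
  obtain ⟨n, eneg, hneg⟩ := exists_enum (D := D) (RedSub.negRoots D.P b)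
  obtain ⟨m, epos, hpos⟩ := exists_enum (D := D) (RedSub.posRoots D.P b)
  obtain ⟨lam, hl, hlp⟩ := exists_lam_prim b
  refine torus_of_fixed hneg hpos hl hlp _ fun C' _ _ f u => ?_
  have e : mor j f ≫ ((toUnit (Sp j K) ≫ ν) * (toUnit (Sp j K) ≫ ν)) = (toUnit (Sp j C') ≫ ν) * (toUnit (Sp j C') ≫ ν) := by
    rw [MonObj.comp_mul, ← Category.assoc, toUnit_unique (mor j f ≫ toUnit _) (toUnit _)]
  rw [e, conjT]
  clear e
  have h1 := hν R j C' (unitChar lam u)
  have h2 := hν R j C' (reflChar a (unitChar lam u))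
  rw [reflChar_reflChar] at h2
  rw [mul_inv_eq_iff_eq_mul]
  rw [mul_inv_eq_iff_eq_mul] at h1 h2
  symm
  calc _ = (toUnit (Sp j C') ≫ ν) * ((toUnit (Sp j C') ≫ ν) * (tpt D j (unitChar lam u) ≫ D.i)) := by group
    _ = (toUnit (Sp j C') ≫ ν) * (tpt D j (reflChar a (unitChar lam u)) ≫ D.i) * (toUnit (Sp j C') ≫ ν) := by
      rw [h1]; group
    _ = _ := by rw [h2]; group

/-- Every point over an algebraically closed field is a product of two points of the big cell. -/
theorem exists_two_cells {b : D.P.Base} {n m : ℕ} {eneg : Fin n → D.idx} {epos : Fin m → D.idx}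
    (hneg : RedSub.Enumerates (RedSub.negRoots D.P b) eneg) (hpos : RedSub.Enumerates (RedSub.posRoots D.P b) epos)
    (g : Sp j K ⟶ G) : ∃ t t' : Sp j K ⟶ cellSpace D n m,
      g = (t ≫ RedSub.cellMap D eneg epos) * (t' ≫ RedSub.cellMap D eneg epos)⁻¹ := by
  haveI := reductive_affine D
  haveI := reductive_smooth D
  haveI := isMonHom_i (D := D)
  haveI : ∀ c, IsMonHom (D.u c) := fun c => (D.rootHom c).1
  haveI := isOpenImmersion_cellMap hneg hpos
  haveI := connectedSpace_fibre D (qK j K)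
  let GK := Red.bc (qK j K) G
  haveI : IsAffineHom GK.hom := MorphismProperty.pullback_snd _ _ ‹IsAffineHom G.hom›
  haveI : IsAffine GK.left := isAffine_of_isAffineHom GK.hom
  haveI : Smooth GK.hom := MorphismProperty.pullback_snd _ _ ‹Smooth G.hom›
  haveI : ConnectedSpace GK.left := connectedSpace_fibre D (qK j K)
  haveI := ConnIrred.irreducibleSpace GK
  let π : GK.left → G.left := fun p => (pullback.fst G.hom (qK j K)) p
  let W : Set GK.left := π ⁻¹' Set.range (RedSub.cellMap D eneg epos).left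
  have hW : IsOpen W := (RedSub.cellMap D eneg epos).left.isOpenEmbedding.isOpen_range.preimage (Scheme.Hom.continuous _)
  have hπ : ∀ w, π (ptOf w) = (ptBC j K w).left (IsLocalRing.closedPoint K) := fun w => (ptBC_closedPoint (j := j) (K := K) w).symm
  obtain ⟨g', hg'⟩ : ∃ g', ptBC j K g' = g := ⟨_, (ptBC j K).apply_symm_apply g⟩
  let tr : GK ⟶ GK := (toUnit GK ≫ g') * 𝟙 GK
  have htr : ∀ w : 𝟙_ (Over (Spec (CommRingCat.of K))) ⟶ GK, w ≫ tr = g' * w := fun w => by
    rw [MonObj.comp_mul, ← Category.assoc, toUnit_unique (w ≫ toUnit GK) (𝟙 _), Category.id_comp, Category.comp_id]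
  have hW1 : ptOf (1 : 𝟙_ (Over (Spec (CommRingCat.of K))) ⟶ GK) ∈ W := by
    show π (ptOf _) ∈ Set.range (RedSub.cellMap D eneg epos).left
    have h := lift_cellMap (j := j) (eneg := eneg) (epos := epos) (1 : Multiplicative D.M →* K) 0 0
    rw [tpt_one, MonObj.one_comp, rootProd_eq_one j (x := (0 : D.idx → K)) fun _ _ => rfl,
      rootProd_eq_one j (x := (0 : D.idx → K)) fun _ _ => rfl, _root_.one_mul, _root_.one_mul] at h
    rw [hπ, show ptBC j K (1 : _ ⟶ GK) = 1 from map_one (ptHom j K G), ← h, Over.comp_left, Scheme.Hom.comp_apply]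
    exact Set.mem_range_self _
  have hWt : ptOf g'⁻¹ ∈ tr.left ⁻¹' W := by
    show tr.left (g'⁻¹.left (IsLocalRing.closedPoint K)) ∈ W
    rw [← Scheme.Hom.comp_apply, ← Over.comp_left, htr, mul_inv_cancel]
    exact hW1
  obtain ⟨w, hw1, hw2⟩ := exists_pt_mem (X := GK) (hW.inter (hW.preimage (Scheme.Hom.continuous tr.left))).isLocallyClosed
    (nonempty_preirreducible_inter hW (hW.preimage (Scheme.Hom.continuous _)) ⟨_, hW1⟩ ⟨_, hWt⟩)
  obtain ⟨t', ht'⟩ := exists_cell_of_range hneg hpos (ptBC j K w) (by rw [← hπ]; exact hw1)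
  obtain ⟨t, ht⟩ := exists_cell_of_range hneg hpos (ptBC j K (g' * w)) (by
    rw [← hπ, show ptOf (g' * w) = tr.left (ptOf w) by rw [← htr]; rfl]
    exact hw2)
  refine ⟨t, t', ?_⟩
  rw [ht, ht', eq_mul_inv_iff_mul_eq, ← hg']
  exact (map_mul (ptHom j K G) g' w).symm

variable (b b' : D.P.Base)

variable (j K) in
/-- The union of the double cosets of the two Borel groups of points through the words. -/
def brSet (nr : D.idx → (𝟙_ (Over S) ⟶ G)) (lv lv' : D.idx → ℕ) : Set (Sp j K ⟶ G) :=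
  {g | ∃ l : List D.idx, ∃ p ∈ borelPts D b' j K lv', ∃ q ∈ borelPts D b j K lv, g = p * wpt j K nr l * q}

/-- Bruhat decomposition over an algebraically closed field, for any two bases. -/
theorem exists_bruhat {lv lv' : D.idx → ℕ}
    (hF' : Filt D (RedSub.posRoots D.P b') lv') (hn : ∀ a, ActsBy (nr a) a) (g : Sp j K ⟶ G) :
    ∃ l : List D.idx, ∃ p ∈ borelPts D b' j K lv', ∃ q ∈ borelPts D b j K lv, g = p * wpt j K nr l * q := by
  classical
  haveI := connectedSpace_fibre D (qK j K)
  haveI := isMonHom_i (D := D)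
  haveI : ∀ c, IsMonHom (D.u c) := fun c => (D.rootHom c).1
  haveI : Finite D.idx := Finite.of_fintype _
  obtain ⟨m, epos, hpos⟩ := exists_enum (D := D) (RedSub.posRoots D.P b)
  obtain ⟨m', epos', hpos'⟩ := exists_enum (D := D) (RedSub.posRoots D.P b')
  let B := borelPts D b j K lv
  let B' := borelPts D b' j K lv'
  let X := brSet j K b b' nr lv lv'
  let N : D.idx → (Sp j K ⟶ G) := fun a => toUnit (Sp j K) ≫ nr a
  show g ∈ X
  have hleft : ∀ p ∈ B', ∀ h ∈ X, p * h ∈ X := by
    rintro p hp _ ⟨l, p', hp', q, hq, rfl⟩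
    exact ⟨l, p * p', borelPts_mul hp hp', q, hq, by group⟩
  have hinv : ∀ d : D.idx, D.P.reflectionPerm (D.P.reflectionPerm d d) (D.P.reflectionPerm d d) = d := fun d =>
    D.P.root.injective (by rw [root_neg', root_neg', neg_neg])
  have hperm : ∀ (l : List D.idx) (d : D.idx),
      D.P.root (RedSub.wordPerm D.P l (D.P.reflectionPerm d d)) = -D.P.root (RedSub.wordPerm D.P l d) := by
    intro l d
    induction l with
    | nil => simp [RedSub.wordPerm]
    | cons a l ih => rw [wordPerm_cons, wordPerm_cons, D.P.root_reflectionPerm, ih, map_neg, ← D.P.root_reflectionPerm]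
  have hN : ∀ (a : D.idx) (χ : Multiplicative D.M →* K),
      N a * (tpt D j χ ≫ D.i) * (N a)⁻¹ = tpt D j (reflChar a χ) ≫ D.i := fun a χ => hn a R j K χ
  -- left multiplication by a simple reflection
  have hsimple : ∀ a ∈ b'.support, ∀ h ∈ X, N a * h ∈ X := by
    rintro a ha _ ⟨l, p, ⟨χ, u, hu, rfl⟩, q, hq, rfl⟩
    have hapos := simple_pos D.P b' ha
    have hmem : a ∈ List.ofFn epos' := (mem_list_iff hpos' a).2 hapos
    let L₁ := (List.ofFn epos').erase a
    have hL₁ : ∀ c, c ∈ L₁ ↔ c ≠ a ∧ c ∈ RedSub.posRoots D.P b' := fun c => by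
      rw [(nodup_list hpos').mem_erase_iff, mem_list_iff hpos']
    have hnd : (L₁ ++ [a]).Nodup := List.nodup_append.2 ⟨(nodup_list hpos').erase a, List.nodup_singleton a,
      fun c hc d hd e => ((hL₁ c).1 hc).1 (e.trans (List.mem_singleton.1 hd))⟩
    have hL : ∀ c, c ∈ L₁ ++ [a] ↔ c ∈ RedSub.posRoots D.P b' := fun c => by
      rw [List.mem_append, List.mem_singleton, hL₁]
      by_cases hca : c = a
      · subst hca; exact ⟨fun _ => hapos, fun _ => Or.inr rfl⟩
      · simp [hca]
    obtain ⟨z, hz⟩ := (mem_gen_iff D.rootHom hF' hnd hL).1 hu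
    have hsplit : rootProd j D.u (L₁ ++ [a]) z = rootProd j D.u L₁ z * (gp j (z a) ≫ D.u a) := by
      simp [rootProd, List.map_append, List.prod_append]
    rw [← hz, hsplit]
    -- the part moved to the left
    have hmove : N a * rootProd j D.u L₁ z * (N a)⁻¹ ∈ B' := by
      have key : ∀ L : List D.idx, (∀ c ∈ L, c ∈ L₁) → N a * rootProd j D.u L z * (N a)⁻¹ ∈ B' := by
        intro L hL'
        induction L with
        | nil => simp [rootProd, B', borelPts_one]
        | cons c L ih =>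
          obtain ⟨w, hw⟩ := exists_conj_scale (j := j) b' (hn a) c
          haveI : IsOpenImmersion j := inferInstance
          obtain ⟨hca, hc⟩ := (hL₁ c).1 (hL' c (List.mem_cons_self ..))
          rw [show N a * rootProd j D.u (c :: L) z * (N a)⁻¹ = (N a * (gp j (z c) ≫ D.u c) * (N a)⁻¹) *
            (N a * rootProd j D.u L z * (N a)⁻¹) by simp only [rootProd, List.map_cons, List.prod_cons]; group]
          refine borelPts_mul ?_ (ih fun d hd => hL' d (List.mem_cons_of_mem _ hd))
          simp only [N]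
          rw [hw K]
          exact gp_mem_borelPts (refl_simple_pos D.P b' ha hc hca) _
      exact key L₁ fun c hc => hc
    rw [show N a * ((tpt D j χ ≫ D.i) * (rootProd j D.u L₁ z * (gp j (z a) ≫ D.u a)) * wpt j K nr l * q) =
        ((N a * (tpt D j χ ≫ D.i) * (N a)⁻¹) * (N a * rootProd j D.u L₁ z * (N a)⁻¹)) *
          (N a * (gp j (z a) ≫ D.u a) * wpt j K nr l * q) by group, hN]
    refine hleft _ (borelPts_mul (j := j) (b := b') (tpt_mem_borelPts _) hmove) _ ?_
    obtain ⟨d, hd⟩ : ∃ d, RedSub.wordPerm D.P l d = a := ⟨_, (RedSub.wordPerm D.P l).apply_symm_apply a⟩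
    obtain ⟨w, hw⟩ := wpt_root (j := j) (C := K) b hn l d
    rw [hd] at hw
    have hK : IsUnit (algebraMap R K (w : R)) := (Units.isUnit w).map _
    by_cases hcase : z a = 0 ∨ d ∈ RedSub.posRoots D.P b
    · refine ⟨a :: l, 1, borelPts_one, (gp j (z a / algebraMap R K (w : R)) ≫ D.u d) * q, borelPts_mul ?_ hq, ?_⟩
      · rcases hcase with h | h
        · rw [h, zero_div, gp_zero, MonObj.one_comp]; exact borelPts_one
        · exact gp_mem_borelPts h _
      · calc N a * (gp j (z a) ≫ D.u a) * wpt j K nr l * q =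
              N a * ((gp j (algebraMap R K (w : R) * (z a / algebraMap R K (w : R))) ≫ D.u a) * wpt j K nr l) * q := by
              rw [mul_div_cancel₀ _ hK.ne_zero]; group
          _ = _ := by rw [← hw, wpt_cons]; simp only [N]; group
    push Not at hcase
    obtain ⟨hza, hdn⟩ := hcase
    have hd' : D.P.reflectionPerm d d ∈ RedSub.posRoots D.P b := by
      show D.P.root _ ∈ AddSubmonoid.closure _
      rw [root_neg']
      exact (pos_or_neg D.P b d).resolve_left hdn
    obtain ⟨s, hs⟩ := exists_conj_scale (j := j) b' (hn a) a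
    have hs0 : algebraMap R K (s : R) * z a ≠ 0 := mul_ne_zero ((Units.isUnit s).map (algebraMap R K)).ne_zero hza
    obtain ⟨x, y, τ, hswap⟩ := exists_swap (j := j) b' hapos (hn a) hs0
    -- the square
    obtain ⟨σ, hσ⟩ := sq_mem_torus (j := j) (K := K) b (hn a)
    -- pull the last root point through
    obtain ⟨s', hs'⟩ := exists_conj_scale (j := j) b' (hn a) (D.P.reflectionPerm a a)
    rw [D.P.reflectionPerm_self] at hs'
    have hK' : IsUnit (algebraMap R K (s' : R)) := (Units.isUnit s').map _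
    obtain ⟨w', hw'⟩ := wpt_root (j := j) (C := K) b hn l (D.P.reflectionPerm d d)
    have hdd : RedSub.wordPerm D.P l (D.P.reflectionPerm d d) = D.P.reflectionPerm a a :=
      D.P.root.injective (by rw [hperm, hd, root_neg'])
    rw [hdd] at hw'
    have hw'K : IsUnit (algebraMap R K (w' : R)) := (Units.isUnit w').map _
    let y₁ := y / algebraMap R K (s' : R)
    let y₂ := y₁ / algebraMap R K (w' : R)
    have e1 : (gp j y ≫ D.u a) * N a = N a * (gp j y₁ ≫ D.u (D.P.reflectionPerm a a)) := by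
      rw [show y = algebraMap R K (s' : R) * y₁ from (mul_div_cancel₀ _ hK'.ne_zero).symm, ← hs' K y₁]
      simp only [N]; group
    have e2 : (gp j y₁ ≫ D.u (D.P.reflectionPerm a a)) * wpt j K nr l =
        wpt j K nr l * (gp j y₂ ≫ D.u (D.P.reflectionPerm d d)) := by
      rw [hw', mul_div_cancel₀ _ hw'K.ne_zero]
    have e3 : N a * (gp j (z a) ≫ D.u a) = (gp j x ≫ D.u a) * (tpt D j (reflChar a τ * σ) ≫ D.i) *
        ((gp j y₁ ≫ D.u (D.P.reflectionPerm a a))) := by
      calc N a * (gp j (z a) ≫ D.u a) = (N a * (gp j (z a) ≫ D.u a) * (N a)⁻¹) * N a := by group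
        _ = (gp j x ≫ D.u a) * N a * (tpt D j τ ≫ D.i) * ((gp j y ≫ D.u a) * N a) := by
          simp only [N]; rw [hs K, hswap]; group
        _ = (gp j x ≫ D.u a) * ((N a * (tpt D j τ ≫ D.i) * (N a)⁻¹) * (N a * N a)) *
            (gp j y₁ ≫ D.u (D.P.reflectionPerm a a)) := by rw [e1]; group
        _ = _ := by rw [hN, ← hσ, tpt_mul, MonObj.mul_comp]
    refine ⟨l, (gp j x ≫ D.u a) * (tpt D j (reflChar a τ * σ) ≫ D.i),
      borelPts_mul (gp_mem_borelPts hapos _) (tpt_mem_borelPts _),
      (gp j y₂ ≫ D.u (D.P.reflectionPerm d d)) * q, borelPts_mul (gp_mem_borelPts hd' _) hq, ?_⟩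
    rw [e3, _root_.mul_assoc (_ * _) (gp j y₁ ≫ _), e2]
    group
  -- the stabiliser
  let St : Set (Sp j K ⟶ G) := {h | ∀ x ∈ X, h * x ∈ X}
  have hSmul : ∀ h h', h ∈ St → h' ∈ St → h * h' ∈ St := fun h h' h1 h2 x hx => by
    rw [_root_.mul_assoc]; exact h1 _ (h2 x hx)
  have hBSt : ∀ p ∈ B', p ∈ St := fun p hp => hleft p hp
  have hNinv : ∀ a ∈ b'.support, (N a)⁻¹ ∈ St := fun a ha x hx => by
    obtain ⟨σ, hσ⟩ := sq_mem_torus (j := j) (K := K) b (hn a)
    have : (N a)⁻¹ = (tpt D j (σ.comp invMonoidHom) ≫ D.i) * N a := by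
      rw [tpt_inv, hσ]; simp only [N]; group
    rw [this, _root_.mul_assoc]
    exact hleft _ (tpt_mem_borelPts _) _ (hsimple a ha x hx)
  have hall : ∀ (c : D.idx) (x : K), gp j x ≫ D.u c ∈ St := by
    haveI := isReduced D.P b'
    haveI := Chart.RootCombo.isCrystallographic D.P
    suffices h2 : ∀ c : D.idx, (∀ x : K, gp j x ≫ D.u c ∈ St) ∧
        ∀ x : K, gp j x ≫ D.u (D.P.reflectionPerm c c) ∈ St from fun c x => (h2 c).1 x
    intro c
    have hconj : ∀ (e a : D.idx), a ∈ b'.support → (∀ x : K, gp j x ≫ D.u e ∈ St) →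
        ∀ x : K, gp j x ≫ D.u (D.P.reflectionPerm a e) ∈ St := by
      intro e a ha he x
      obtain ⟨w, hw⟩ := exists_conj_scale (j := j) b' (hn a) e
      have hK : IsUnit (algebraMap R K (w : R)) := (Units.isUnit w).map _
      rw [show x = algebraMap R K (w : R) * (x / algebraMap R K (w : R)) from (mul_div_cancel₀ _ hK.ne_zero).symm,
        ← hw K]
      exact hSmul _ _ (hSmul _ _ (hsimple a ha) (he _)) (hNinv a ha)
    induction c using RootPairing.Base.induction_reflect (b := b') with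
    | h₀ i hi => exact ⟨hi.2, by rw [hinv]; exact hi.1⟩
    | h₁ i hi =>
      have h1 : ∀ x : K, gp j x ≫ D.u i ∈ St := fun x => hBSt _ (gp_mem_borelPts (simple_pos D.P b' hi) x)
      exact ⟨h1, hconj i i hi h1⟩
    | h₂ i a hi ha =>
      refine ⟨hconj i a ha hi.1, fun x => ?_⟩
      have e : D.P.reflectionPerm (D.P.reflectionPerm a i) (D.P.reflectionPerm a i) =
          D.P.reflectionPerm a (D.P.reflectionPerm i i) := D.P.root.injective (by
        rw [root_neg', D.P.root_reflectionPerm, D.P.root_reflectionPerm a (D.P.reflectionPerm i i), root_neg', map_neg])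
      rw [e]
      exact hconj _ a ha hi.2 x
  have hgenSt : ∀ (L : List D.idx) (z : D.idx → K), rootProd j D.u L z ∈ St := by
    intro L z
    induction L with
    | nil => intro x hx; simpa [rootProd] using hx
    | cons c L ih =>
      rw [show rootProd j D.u (c :: L) z = (gp j (z c) ≫ D.u c) * rootProd j D.u L z by simp [rootProd]]
      exact hSmul _ _ (hall c _) ih
  have hrinv : ∀ (L : List D.idx) (z : D.idx → K), (rootProd j D.u L z)⁻¹ ∈ St := by
    intro L z
    induction L with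
    | nil => intro x hx; simpa [rootProd] using hx
    | cons c L ih =>
      rw [show (rootProd j D.u (c :: L) z)⁻¹ = (rootProd j D.u L z)⁻¹ * (gp j (-z c) ≫ D.u c) by
        rw [gp_neg, GrpObj.inv_comp]; simp [rootProd]]
      exact hSmul _ _ ih (hall c _)
  obtain ⟨n₀, eneg, hneg⟩ := exists_enum (D := D) (RedSub.negRoots D.P b)
  obtain ⟨t, t', hg⟩ := exists_two_cells hneg hpos g
  obtain ⟨χ, y, x, e, -⟩ := exists_coords t hneg.1 hpos.1
  obtain ⟨χ', y', x', e', -⟩ := exists_coords t' hneg.1 hpos.1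
  have hgSt : g ∈ St := by
    rw [hg, e, e', mul_inv_rev, mul_inv_rev, ← tpt_inv]
    exact hSmul _ _ (hSmul _ _ (hgenSt _ _) (hSmul _ _ (hBSt _ (tpt_mem_borelPts _)) (hgenSt _ _)))
      (hSmul _ _ (hSmul _ _ (hrinv _ _) (hBSt _ (tpt_mem_borelPts _))) (hrinv _ _))
  have h1 : (1 : Sp j K ⟶ G) ∈ X := ⟨[], 1, borelPts_one, 1, borelPts_one, by simp [wpt_nil]⟩
  simpa using hgSt 1 h1

end Groth.L14.Chev.Cell
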