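import Groth.Agent.L14.Chev.Cell.Bruhat

/-!
Translates of the big cell and Bruhat cells cover the group.
-/

set_option autoImplicit false
universe u

open CategoryTheory CategoryTheory.Limits AlgebraicGeometry MonoidalCategory CartesianMonoidalCategory MonObj
open Groth.L14.RankOne Groth.L25 Groth.L14.Chart

set_option backward.isDefEq.respectTransparency.types false
set_option linter.style.haveILetI false
set_option linter.unusedSectionVars false
set_option maxHeartbeats 1000000

noncomputable section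

namespace Groth.L14.Chev.Cell

variable {S : Scheme.{u}} {G : Over S} [GrpObj G] {D : Red.SplitRed G}

/-- Every point is the image of a point over an algebraically closed field over an affine open of the base. -/
theorem exists_geom_chart_through {X : Over S} (x : X.left) :
    ∃ (R : Type u) (_ : CommRing R) (j : Spec (CommRingCat.of R) ⟶ S) (_ : IsOpenImmersion j)
      (K : Type u) (_ : Field K) (_ : IsAlgClosed K) (_ : Algebra R K) (t : Sp j K ⟶ X) (p : (Sp j K).left),
      t.left p = x := by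
  let s : S := X.hom x
  let i₀ := S.affineOpenCover.idx s
  let R : Type u := S.affineOpenCover.X i₀
  let j : Spec (CommRingCat.of R) ⟶ S := S.affineOpenCover.f i₀
  have hj : IsOpenImmersion j := S.affineOpenCover.map_prop i₀
  let K : Type u := AlgebraicClosure (X.left.residueField x)
  let g : Spec (CommRingCat.of K) ⟶ X.left :=
    Spec.map (CommRingCat.ofHom (algebraMap (X.left.residueField x) K)) ≫ X.left.fromSpecResidueField x
  have hg : ∀ y, g y = x := fun y => by
    simp only [g, Scheme.Hom.comp_apply]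
    exact Scheme.fromSpecResidueField_apply _ _
  have hr : Set.range (g ≫ X.hom) ⊆ Set.range j := by
    rintro _ ⟨y, rfl⟩
    rw [Scheme.Hom.comp_apply, hg]
    exact S.affineOpenCover.covers s
  let l := IsOpenImmersion.lift j (g ≫ X.hom) hr
  letI alg : Algebra R K := (Spec.preimage l).hom.toAlgebra
  have hl : Spec.map (CommRingCat.ofHom (algebraMap R K)) = l := Spec.map_preimage l
  exact ⟨R, inferInstance, j, hj, K, inferInstance, inferInstance, alg, Over.homMk g (by
    show _ = Spec.map (CommRingCat.ofHom (algebraMap R K)) ≫ j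
    rw [hl, IsOpenImmersion.lift_fac]), IsLocalRing.closedPoint K, hg _⟩

variable {nr : D.idx → (𝟙_ (Over S) ⟶ G)} {R : Type u} [CommRing R] {j : Spec (CommRingCat.of R) ⟶ S}
  [IsOpenImmersion j] {C : Type u} [CommRing C] [Algebra R C]

omit [IsOpenImmersion j] in
theorem exists_wordChar (l : List D.idx) (χ : Multiplicative D.M →* C) : ∃ χ', wordChar l χ' = χ := by
  induction l generalizing χ with
  | nil => exact ⟨χ, rfl⟩
  | cons a l ih =>
    obtain ⟨χ', hχ'⟩ := ih (reflChar a χ)
    exact ⟨χ', (congrArg (reflChar a) hχ').trans (reflChar_reflChar a χ)⟩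

/-- Moving a torus point to the right of a word. -/
theorem tpt_wpt (hn : ∀ a, ActsBy (nr a) a) (l : List D.idx) (χ : Multiplicative D.M →* C) :
    ∃ χ', (tpt D j χ ≫ D.i) * wpt j C nr l = wpt j C nr l * (tpt D j χ' ≫ D.i) := by
  obtain ⟨χ', rfl⟩ := exists_wordChar l χ
  exact ⟨χ', (wpt_tpt hn l χ').symm⟩

/-- Moving root products to the right of a word. -/
theorem rootProd_wpt (b : D.P.Base) (hn : ∀ a, ActsBy (nr a) a) (l : List D.idx) {Ψ : Set D.idx}
    {lv : D.idx → ℕ} (z : D.idx → C) :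
    ∀ L : List D.idx, (∀ c ∈ L, (RedSub.wordPerm D.P l).symm c ∈ Ψ) →
      ∃ g ∈ gen j C D.u Ψ lv 0, rootProd j D.u L z * wpt j C nr l = wpt j C nr l * g
  | [], _ => ⟨1, one_mem _, by simp [rootProd]⟩
  | c :: L, hL => by
    obtain ⟨g, hg, e⟩ := rootProd_wpt b hn l z L fun d hd => hL d (List.mem_cons_of_mem _ hd)
    obtain ⟨w, hw⟩ := wpt_root (j := j) (C := C) b hn l ((RedSub.wordPerm D.P l).symm c)
    rw [Equiv.apply_symm_apply] at hw
    let x := ((((Units.map (algebraMap R C).toMonoidHom w)⁻¹ : Cˣ) : C)) * z c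
    have hx : algebraMap R C (w : R) * x = z c := by
      rw [← _root_.mul_assoc, show algebraMap R C (w : R) = ((Units.map (algebraMap R C).toMonoidHom w : Cˣ) : C)
        from rfl, Units.mul_inv, _root_.one_mul]
    refine ⟨_, mul_mem (gp_mem_gen (hL c (List.mem_cons_self ..)) (Nat.zero_le _) x) hg, ?_⟩
    calc rootProd j D.u (c :: L) z * wpt j C nr l =
          (gp j (algebraMap R C (w : R) * x) ≫ D.u c) * (rootProd j D.u L z * wpt j C nr l) := by
          rw [hx]; simp [rootProd, _root_.mul_assoc]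
      _ = _ := by rw [e, ← _root_.mul_assoc, ← hw x, _root_.mul_assoc]

theorem exists_nr_actsBy {D : Red.SplitRed G} {nr : D.idx → (𝟙_ (Over S) ⟶ G)}
    (h : RedSub.RealisesReflections D nr) (a : D.idx) : ActsBy (nr a) a :=
  actsBy_of_refl (h a)

variable {b : D.P.Base} {n m k : ℕ} {eneg : Fin n → D.idx} {epos : Fin m → D.idx}

/-- Every point lies in a translate of the big cell. -/
theorem exists_translate (hneg : RedSub.Enumerates (RedSub.negRoots D.P b) eneg)
    (hpos : RedSub.Enumerates (RedSub.posRoots D.P b) epos) (hnr : RedSub.RealisesReflections D nr) (x : G.left) :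
    ∃ w : List D.idx, x ∈ Set.range ((toUnit _ ≫ (w.map nr).prod) * RedSub.cellMap D eneg epos).left.base := by
  classical
  have hn := exists_nr_actsBy hnr
  haveI : Finite D.idx := Finite.of_fintype _
  obtain ⟨R, _, j, _, K, _, _, _, g, p, hp⟩ := exists_geom_chart_through x
  obtain ⟨lv, hF⟩ := exists_filt_pos (D := D) b
  obtain ⟨lvn, hFn⟩ := exists_filt_neg (D := D) b
  obtain ⟨l, p₀, ⟨χ, u, hu, rfl⟩, q, hq, hg⟩ := exists_bruhat b b hF hn (lv := lv) g
  let L₁ := (List.ofFn epos).filter fun c => decide ((RedSub.wordPerm D.P l).symm c ∈ RedSub.negRoots D.P b)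
  let L₂ := (List.ofFn epos).filter fun c => !decide ((RedSub.wordPerm D.P l).symm c ∈ RedSub.negRoots D.P b)
  have hperm : (L₁ ++ L₂).Perm (List.ofFn epos) := List.filter_append_perm _ _
  obtain ⟨z, hz⟩ := (mem_gen_iff D.rootHom hF (hperm.symm.nodup (nodup_list hpos))
    (fun c => (hperm.mem_iff).trans (mem_list_iff hpos c))).1 hu
  obtain ⟨u₁, hu₁, e₁⟩ := rootProd_wpt (j := j) (C := K) b hn l (lv := lvn) z L₁
    (Ψ := RedSub.negRoots D.P b) fun c hc => by simpa [L₁] using (List.mem_filter.1 hc).2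
  obtain ⟨u₂, hu₂, e₂⟩ := rootProd_wpt (j := j) (C := K) b hn l (lv := lv) z L₂
    (Ψ := RedSub.posRoots D.P b) fun c hc =>
      (pos_or_neg D.P b _).resolve_right (by simpa [L₂] using (List.mem_filter.1 hc).2)
  obtain ⟨χ', hχ'⟩ := tpt_wpt (j := j) hn l χ
  have hu₁' := conjT_mem_gen χ' hu₁
  obtain ⟨χ'', u', hu', hB⟩ := borelPts_mul (tpt_mem_borelPts χ') (borelPts_mul (mem_borelPts_of_gen hu₂) hq)
  obtain ⟨y, hy⟩ := (mem_gen_iff D.rootHom hFn (nodup_list hneg) (mem_list_iff hneg)).1 hu₁'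
  obtain ⟨x', hx'⟩ := (mem_gen_iff D.rootHom hF (nodup_list hpos) (mem_list_iff hpos)).1 hu'
  let t : Sp j K ⟶ cellSpace D n m :=
    lift (tup n fun k => gp j (y (eneg k))) (lift (tpt D j χ'') (tup m fun k => gp j (x' (epos k))))
  have key : g = t ≫ ((toUnit _ ≫ (l.map nr).prod) * RedSub.cellMap D eneg epos) := by
    rw [MonObj.comp_mul, ← Category.assoc, toUnit_unique (t ≫ toUnit _) (toUnit _),
      show t ≫ RedSub.cellMap D eneg epos = _ from lift_cellMap χ'' y x', hy, hx', ← hB, hg, ← hz,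
      show rootProd j D.u (L₁ ++ L₂) z = rootProd j D.u L₁ z * rootProd j D.u L₂ z by
        simp [rootProd, List.map_append, List.prod_append]]
    show _ = wpt j K nr l * _
    calc (tpt D j χ ≫ D.i) * (rootProd j D.u L₁ z * rootProd j D.u L₂ z) * wpt j K nr l * q =
          (tpt D j χ ≫ D.i) * (rootProd j D.u L₁ z * (rootProd j D.u L₂ z * wpt j K nr l)) * q := by group
      _ = (tpt D j χ ≫ D.i) * ((rootProd j D.u L₁ z * wpt j K nr l) * u₂) * q := by rw [e₂]; group
      _ = ((tpt D j χ ≫ D.i) * wpt j K nr l) * u₁ * u₂ * q := by rw [e₁]; group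
      _ = _ := by rw [hχ', conjT]; group
  refine ⟨l, t.left p, ?_⟩
  rw [← hp, key, Over.comp_left, Scheme.Hom.comp_apply]

/-- Every point lies in a Bruhat cell. -/
theorem exists_bruhatCell (hpos : RedSub.Enumerates (RedSub.posRoots D.P b) epos)
    (hnr : RedSub.RealisesReflections D nr) (x : G.left) :
    ∃ (l : List D.idx) (k : ℕ) (e : Fin k → D.idx),
      RedSub.Enumerates (RedSub.negMeetNeg D.P b (RedSub.wordPerm D.P l)) e ∧
        x ∈ Set.range (RedSub.bruhatMap D nr l e epos).left.base := by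
  classical
  have hn := exists_nr_actsBy hnr
  haveI : Finite D.idx := Finite.of_fintype _
  haveI : ∀ c, IsMonHom (D.u c) := fun c => (D.rootHom c).1
  obtain ⟨R, _, j, _, K, _, _, _, g, p, hp⟩ := exists_geom_chart_through x
  obtain ⟨lv, hF⟩ := exists_filt_pos (D := D) b
  obtain ⟨lv', hF'⟩ := exists_filt_pos (D := D) (negBase D.P b)
  obtain ⟨l, p₀, ⟨χ, u, hu, rfl⟩, q, hq, hg⟩ := exists_bruhat b (negBase D.P b) hF' hn (lv := lv) g
  obtain ⟨k, e, he⟩ := exists_enum (D := D) (RedSub.negMeetNeg D.P b (RedSub.wordPerm D.P l))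
  obtain ⟨n₀, eneg, hneg⟩ := exists_enum (D := D) (RedSub.negRoots D.P b)
  let L₂ := (List.ofFn eneg).filter fun c => decide ((RedSub.wordPerm D.P l).symm c ∈ RedSub.posRoots D.P b)
  have hL₂ : ∀ c, c ∈ L₂ ↔ c ∈ RedSub.negRoots D.P b ∧
      (RedSub.wordPerm D.P l).symm c ∈ RedSub.posRoots D.P b := fun c => by
    rw [List.mem_filter, mem_list_iff hneg, decide_eq_true_iff]
  obtain ⟨lam, hlam⟩ := hasLam b
  have hdisj : ∀ c : D.idx, c ∈ RedSub.posRoots D.P b → c ∉ RedSub.negRoots D.P b := fun c h1 h2 => by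
    have := (hlam c).1 h1
    have := (hlam c).2 h2
    omega
  have hnd : (List.ofFn e ++ L₂).Nodup := List.nodup_append.2 ⟨nodup_list he, (nodup_list hneg).filter _,
    fun c hc d hd h => by
      subst h
      exact hdisj _ ((hL₂ c).1 hd).2 ((mem_list_iff he c).1 hc).2⟩
  have hmem : ∀ c, c ∈ List.ofFn e ++ L₂ ↔ c ∈ RedSub.posRoots D.P (negBase D.P b) := fun c => by
    rw [List.mem_append, mem_list_iff he, hL₂, posRoots_negBase]
    exact ⟨fun h => h.elim And.left And.left, fun h => (pos_or_neg D.P b _).symm.imp (fun h' => ⟨h, h'⟩) fun h' => ⟨h, h'⟩⟩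
  have hu' := conjT_mem_gen χ hu
  obtain ⟨z, hz⟩ := (mem_gen_iff D.rootHom hF' hnd hmem).1 hu'
  obtain ⟨u₂, hu₂, e₂⟩ := rootProd_wpt (j := j) (C := K) b hn l (lv := lv) z L₂
    (Ψ := RedSub.posRoots D.P b) fun c hc => ((hL₂ c).1 hc).2
  obtain ⟨χ', hχ'⟩ := tpt_wpt (j := j) hn l χ
  obtain ⟨χ'', u', hu'', hB⟩ := borelPts_mul (mem_borelPts_of_gen hu₂) (borelPts_mul (tpt_mem_borelPts χ') hq)
  obtain ⟨x', hx'⟩ := (mem_gen_iff D.rootHom hF (nodup_list hpos) (mem_list_iff hpos)).1 hu''
  let t : Sp j K ⟶ RedSub.pow (Red.Ga S) k ⊗ (D.T ⊗ RedSub.pow (Red.Ga S) m) :=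
    lift (tup k fun i => gp j (z (e i))) (lift (tpt D j χ'') (tup m fun i => gp j (x' (epos i))))
  refine ⟨l, k, e, he, t.left p, ?_⟩
  have key : g = t ≫ RedSub.bruhatMap D nr l e epos := by
    have hcomp : t ≫ RedSub.bruhatMap D nr l e epos = rootProd j D.u (List.ofFn e) z *
        (wpt j K nr l * ((tpt D j χ'' ≫ D.i) * rootProd j D.u (List.ofFn epos) x')) := by
      simp only [RedSub.bruhatMap, MonObj.comp_mul, ← Category.assoc, t, lift_fst, lift_snd]
      rw [comp_prodMap, comp_prodMap, rootProd_ofFn, rootProd_ofFn]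
      simp only [tup_proj, toUnit_unique (_ ≫ toUnit _) (toUnit (Sp j K))]
      rfl
    rw [hcomp, hx', ← hB, hg]
    calc (tpt D j χ ≫ D.i) * u * wpt j K nr l * q = conjT D j χ u * ((tpt D j χ ≫ D.i) * wpt j K nr l) * q := by
          rw [conjT]; group
      _ = rootProd j D.u (List.ofFn e) z * (rootProd j D.u L₂ z * wpt j K nr l) * (tpt D j χ' ≫ D.i) * q := by
          rw [hχ', ← hz]
          simp only [rootProd, List.map_append, List.prod_append, _root_.mul_assoc]
      _ = _ := by rw [e₂]; group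
  rw [← hp, key, Over.comp_left, Scheme.Hom.comp_apply]

end Groth.L14.Chev.Cell
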