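import Groth.Agent.L14.Chev.Cell.Generated

/-!
Bruhat cells are closed in the translates of the big cell.
-/

set_option autoImplicit false
universe u

open CategoryTheory CategoryTheory.Limits AlgebraicGeometry MonoidalCategory CartesianMonoidalCategory MonObj
open Groth.L14.RankOne Groth.L25 Groth.L14.Chart

set_option backward.isDefEq.respectTransparency.types false
set_option linter.style.haveILetI false
set_option linter.unusedSectionVars false
set_option maxHeartbeats 1000000

noncomputable section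

namespace Groth.L14.Chev.Cell

variable {S : Scheme.{u}} {G : Over S} [GrpObj G] {D : Red.SplitRed G} {R : Type u} [CommRing R]
  {j : Spec (CommRingCat.of R) ⟶ S} {C : Type u} [CommRing C] [Algebra R C]

theorem gv_comp {C' : Type u} [CommRing C'] [Algebra R C'] (h : C →ₐ[R] C') (x : Sp j C ⟶ Red.Ga S) :
    gv (mor j h ≫ x) = h (gv x) := by
  conv_lhs => rw [← gp_gv x, mor_gp, gv_gp]

/-- Translation of the big cell. -/
abbrev trCell (D : Red.SplitRed G) {n m : ℕ} (eneg : Fin n → D.idx) (epos : Fin m → D.idx)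
    (N : 𝟙_ (Over S) ⟶ G) : cellSpace D n m ⟶ G := (toUnit _ ≫ N) * RedSub.cellMap D eneg epos

theorem comp_trCell {n m : ℕ} (eneg : Fin n → D.idx) (epos : Fin m → D.idx) (N : 𝟙_ (Over S) ⟶ G) {X : Over S}
    (t : X ⟶ cellSpace D n m) :
    t ≫ trCell D eneg epos N = (toUnit X ≫ N) * (t ≫ RedSub.cellMap D eneg epos) := by
  rw [MonObj.comp_mul, ← Category.assoc, toUnit_unique (t ≫ toUnit _) (toUnit _)]

theorem range_trCell {b : D.P.Base} {n m n' m' : ℕ} {eneg : Fin n → D.idx} {epos : Fin m → D.idx}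
    {eneg' : Fin n' → D.idx} {epos' : Fin m' → D.idx} (N : 𝟙_ (Over S) ⟶ G)
    (hneg : RedSub.Enumerates (RedSub.negRoots D.P b) eneg) (hpos : RedSub.Enumerates (RedSub.posRoots D.P b) epos)
    (hneg' : RedSub.Enumerates (RedSub.negRoots D.P b) eneg') (hpos' : RedSub.Enumerates (RedSub.posRoots D.P b) epos') :
    Set.range (trCell D eneg epos N).left = Set.range (trCell D eneg' epos' N).left := by
  have key : ∀ {n m : ℕ} (en : Fin n → D.idx) (ep : Fin m → D.idx), Set.range (trCell D en ep N).left =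
      ((toUnit G ≫ N) * 𝟙 G).left '' Set.range (RedSub.cellMap D en ep).left := fun en ep => by
    have e : trCell D en ep N = RedSub.cellMap D en ep ≫ ((toUnit G ≫ N) * 𝟙 G) := by
      rw [MonObj.comp_mul, Category.comp_id, ← Category.assoc, comp_toUnit]
    rw [e, Over.comp_left, ← Set.range_comp]
    rfl
  rw [key, key]
  congr 1
  exact (range_cellMap_subset (b := b) hneg hpos hneg' hpos').antisymm
    (range_cellMap_subset (b := b) hneg' hpos' hneg hpos)

variable [IsOpenImmersion j]

theorem wpt_root' (b : D.P.Base) {nr : D.idx → (𝟙_ (Over S) ⟶ G)} (hn : ∀ a, ActsBy (nr a) a) :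
    ∀ (l : List D.idx) (c : D.idx), ∃ w : Rˣ, ∀ (C : Type u) [CommRing C] [Algebra R C] (x : C),
      wpt j C nr l * (gp j x ≫ D.u c) =
        (gp j (algebraMap R C (w : R) * x) ≫ D.u (RedSub.wordPerm D.P l c)) * wpt j C nr l
  | [], c => ⟨1, fun C _ _ x => by simp [wpt_nil, RedSub.wordPerm]⟩
  | a :: l, c => by
    obtain ⟨w, hw⟩ := wpt_root' b hn l c
    obtain ⟨v, hv⟩ := exists_conj_scale (j := j) b (hn a) (RedSub.wordPerm D.P l c)
    refine ⟨v * w, fun C _ _ x => ?_⟩
    rw [wpt_cons, _root_.mul_assoc, hw C x, wordPerm_cons, Units.val_mul, map_mul,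
      _root_.mul_assoc (algebraMap R C _), ← hv C]
    group

theorem append_prod {k k₂ : ℕ} (a : Fin k → (Sp j C ⟶ Red.Ga S)) (f : Fin k → D.idx) (e₂ : Fin k₂ → D.idx) :
    (List.ofFn fun i : Fin (k + k₂) => Fin.append a (fun _ => gp j (0 : C)) i ≫ D.u (Fin.append f e₂ i)).prod =
      (List.ofFn fun i => a i ≫ D.u (f i)).prod := by
  haveI : ∀ c, IsMonHom (D.u c) := fun c => (D.rootHom c).1
  rw [show (fun i : Fin (k + k₂) => Fin.append a (fun _ => gp j (0 : C)) i ≫ D.u (Fin.append f e₂ i)) =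
      Fin.append (fun i => a i ≫ D.u (f i)) (fun i => gp j (0 : C) ≫ D.u (e₂ i)) from
      funext fun i => by induction i using Fin.addCases with
        | left i => simp only [Fin.append_left]
        | right i => simp only [Fin.append_right],
    List.ofFn_fin_append, List.prod_append,
    List.prod_eq_one (l := List.ofFn fun i => gp j (0 : C) ≫ D.u (e₂ i)) fun x hx => by
      obtain ⟨i, rfl⟩ := List.mem_ofFn.1 hx
      rw [gp_zero, MonObj.one_comp],
    _root_.mul_one]

/-- Bruhat cells as subspaces of translated cells, on points. -/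
theorem bruhat_pt {nr : D.idx → (𝟙_ (Over S) ⟶ G)} {k m k₂ : ℕ} {e : Fin k → D.idx} {epos : Fin m → D.idx}
    (e₂ : Fin k₂ → D.idx) (l : List D.idx) {v : Fin k → Rˣ}
    (hv : ∀ (i : Fin k) (C : Type u) [CommRing C] [Algebra R C] (x : C),
      wpt j C nr l * (gp j x ≫ D.u ((RedSub.wordPerm D.P l).symm (e i))) =
        (gp j (algebraMap R C (v i : R) * x) ≫ D.u (e i)) * wpt j C nr l)
    (t : Sp j C ⟶ RedSub.pow (Red.Ga S) k ⊗ (D.T ⊗ RedSub.pow (Red.Ga S) m)) :
    lift (tup (k + k₂) (Fin.append (fun i => gp j (algebraMap R C ((v i)⁻¹ : Rˣ) * gv ((t ≫ fst _ _) ≫ proj _ k i)))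
        (fun _ => gp j 0))) (t ≫ snd _ _) ≫
      trCell D (Fin.append (fun i => (RedSub.wordPerm D.P l).symm (e i)) e₂) epos (l.map nr).prod =
    t ≫ RedSub.bruhatMap D nr l e epos := by
  haveI : ∀ c, IsMonHom (D.u c) := fun c => (D.rootHom c).1
  have hb : t ≫ RedSub.bruhatMap D nr l e epos =
      (List.ofFn fun i => ((t ≫ fst _ _) ≫ proj _ k i) ≫ D.u (e i)).prod *
        ((toUnit (Sp j C) ≫ (l.map nr).prod) * ((((t ≫ snd _ _) ≫ fst _ _) ≫ D.i) *
          (List.ofFn fun i => (((t ≫ snd _ _) ≫ snd _ _) ≫ proj _ m i) ≫ D.u (epos i)).prod)) := by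
    simp only [RedSub.bruhatMap, MonObj.comp_mul, ← Category.assoc,
      toUnit_unique (t ≫ toUnit _) (toUnit _)]
    rw [comp_prodMap, comp_prodMap]
  rw [hb, comp_trCell, comp_cellMap, lift_fst]
  have h3 : ∀ {Z : Over S} (f : D.T ⊗ RedSub.pow (Red.Ga S) m ⟶ Z) (x : Sp j C ⟶ RedSub.pow (Red.Ga S) (k + k₂)),
      lift x (t ≫ snd _ _) ≫ snd _ _ ≫ f = (t ≫ snd _ _) ≫ f := fun f x => lift_snd_assoc _ _ _
  rw [h3, h3]
  simp only [tup_proj]
  have key : ∀ (p : ℕ) (e' : Fin p → D.idx) (v' : Fin p → Rˣ) (y : Fin p → C),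
      (∀ i (x : C), wpt j C nr l * (gp j x ≫ D.u ((RedSub.wordPerm D.P l).symm (e' i))) =
        (gp j (algebraMap R C (v' i : R) * x) ≫ D.u (e' i)) * wpt j C nr l) →
      wpt j C nr l * (List.ofFn fun i => gp j (algebraMap R C ((v' i)⁻¹ : Rˣ) * y i) ≫
        D.u ((RedSub.wordPerm D.P l).symm (e' i))).prod =
      (List.ofFn fun i => gp j (y i) ≫ D.u (e' i)).prod * wpt j C nr l := by
    intro p
    induction p with
    | zero => intro e' v' y _; simp
    | succ p ih =>
      intro e' v' y h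
      rw [List.ofFn_succ, List.ofFn_succ, List.prod_cons, List.prod_cons, ← _root_.mul_assoc, h,
        ← _root_.mul_assoc (algebraMap R C _), ← map_mul, Units.mul_inv, map_one, _root_.one_mul,
        _root_.mul_assoc, _root_.mul_assoc,
        ← ih (fun i => e' i.succ) (fun i => v' i.succ) (fun i => y i.succ) fun i => h i.succ]
  rw [append_prod, show toUnit (Sp j C) ≫ (l.map nr).prod = wpt j C nr l from rfl, ← _root_.mul_assoc,
    key k e v _ fun i x => hv i C x]
  simp only [gp_gv]
  exact _root_.mul_assoc _ _ _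

variable {b : D.P.Base} {n m k : ℕ} {eneg : Fin n → D.idx} {epos : Fin m → D.idx} {e : Fin k → D.idx}

omit [IsOpenImmersion j] in
/-- Bruhat cells are immersed and closed in the translates of the big cell. -/
theorem bruhat_isImmersion (hneg : RedSub.Enumerates (RedSub.negRoots D.P b) eneg)
    (hpos : RedSub.Enumerates (RedSub.posRoots D.P b) epos)
    {nr : D.idx → (𝟙_ (Over S) ⟶ G)} (hnr : RedSub.RealisesReflections D nr) (l : List D.idx)
    (he : RedSub.Enumerates (RedSub.negMeetNeg D.P b (RedSub.wordPerm D.P l)) e) :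
    IsImmersion (RedSub.bruhatMap D nr l e epos).left ∧
      ∃ C : Set G.left, IsClosed C ∧ Set.range (RedSub.bruhatMap D nr l e epos).left =
        Set.range (trCell D eneg epos (l.map nr).prod).left ∩ C := by
  classical
  have hn := exists_nr_actsBy hnr
  haveI : Finite D.idx := Finite.of_fintype _
  haveI : ∀ c, IsMonHom (D.u c) := fun c => (D.rootHom c).1
  let σ := (RedSub.wordPerm D.P l).symm
  obtain ⟨k₂, e₂, he₂⟩ := exists_enum (D := D) {c | c ∈ RedSub.negRoots D.P b ∧ RedSub.wordPerm D.P l c ∉ RedSub.negRoots D.P b}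
  let E := Fin.append (fun i => σ (e i)) e₂
  have hmem : ∀ i, e i ∈ RedSub.negMeetNeg D.P b (RedSub.wordPerm D.P l) := fun i => he.2.subset (Set.mem_range_self i)
  have hmem₂ : ∀ i, e₂ i ∈ RedSub.negRoots D.P b ∧ RedSub.wordPerm D.P l (e₂ i) ∉ RedSub.negRoots D.P b :=
    fun i => he₂.2.subset (Set.mem_range_self i)
  have hE : RedSub.Enumerates (RedSub.negRoots D.P b) E := by
    refine ⟨(Fin.append_injective_iff).2 ⟨fun i i' h => he.1 (σ.injective h), he₂.1, fun i i' h => ?_⟩, ?_⟩
    · apply (hmem₂ i').2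
      rw [← h, Equiv.apply_symm_apply]
      exact (hmem i).1
    · refine Set.eq_of_subset_of_subset ?_ fun c hc => ?_
      · rintro _ ⟨i, rfl⟩
        induction i using Fin.addCases with
        | left i => simp only [E, Fin.append_left]; exact (hmem i).2
        | right i => simp only [E, Fin.append_right]; exact (hmem₂ i).1
      · by_cases h : RedSub.wordPerm D.P l c ∈ RedSub.negRoots D.P b
        · obtain ⟨i, hi⟩ : RedSub.wordPerm D.P l c ∈ Set.range e := by
            rw [he.2]; exact ⟨h, by rwa [Equiv.symm_apply_apply]⟩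
          exact ⟨Fin.castAdd k₂ i, by simp only [E, Fin.append_left, σ, hi, Equiv.symm_apply_apply]⟩
        · obtain ⟨i, hi⟩ : c ∈ Set.range e₂ := by rw [he₂.2]; exact ⟨hc, h⟩
          exact ⟨Fin.natAdd k i, by simp only [E, Fin.append_right, hi]⟩
  have hv : ∀ (R : Type u) [CommRing R] (j : Spec (CommRingCat.of R) ⟶ S) [IsOpenImmersion j], ∃ v : Fin k → Rˣ,
      ∀ (i : Fin k) (C : Type u) [CommRing C] [Algebra R C] (x : C),
        wpt j C nr l * (gp j x ≫ D.u (σ (e i))) = (gp j (algebraMap R C (v i : R) * x) ≫ D.u (e i)) * wpt j C nr l := by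
    intro R _ j _
    have : ∀ i : Fin k, ∃ w : Rˣ, ∀ (C : Type u) [CommRing C] [Algebra R C] (x : C),
        wpt j C nr l * (gp j x ≫ D.u (σ (e i))) = (gp j (algebraMap R C (w : R) * x) ≫ D.u (e i)) * wpt j C nr l := by
      intro i
      obtain ⟨w, hw⟩ := wpt_root' (j := j) b hn l (σ (e i))
      refine ⟨w, fun C _ _ x => ?_⟩
      rw [hw C x, Equiv.apply_symm_apply]
    choose v hv using this
    exact ⟨v, hv⟩
  let P := RedSub.pow (Red.Ga S) k ⊗ (D.T ⊗ RedSub.pow (Red.Ga S) m)
  let T := trCell D E epos (l.map nr).prod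
  haveI : IsOpenImmersion T.left := isOpenImmersion_translate hE hpos _
  have hsub : Set.range (RedSub.bruhatMap D nr l e epos).left ⊆ Set.range T.left := by
    rintro _ ⟨x, rfl⟩
    obtain ⟨R, _, j, _, K, _, _, t, p, rfl⟩ := exists_chart_through (X := P) x
    obtain ⟨v, hv⟩ := hv R j
    rw [← Scheme.Hom.comp_apply, ← Over.comp_left, ← bruhat_pt e₂ l hv t, Over.comp_left, Scheme.Hom.comp_apply]
    exact Set.mem_range_self _
  let ψ : P ⟶ cellSpace D (k + k₂) m := Over.homMk (IsOpenImmersion.lift T.left _ hsub) (by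
    rw [← Over.w T, IsOpenImmersion.lift_fac_assoc, Over.w])
  have hψ : ψ ≫ T = RedSub.bruhatMap D nr l e epos := Over.OverMorphism.ext (IsOpenImmersion.lift_fac _ _ _)
  haveI := (affSmooth_cell D k m).1
  haveI := (affSmooth_cell D (k + k₂) m).1
  haveI : IsClosedImmersion ψ.left := isClosedImmersion_of_crdMap ψ fun R _ j _ => by
    obtain ⟨v, hv⟩ := hv R j
    let Q := cellSpace D (k + k₂) m
    let r : Sp j (Crd j Q) ⟶ P := lift
      (tup k fun i => gp j (algebraMap R (Crd j Q) (v i : R) * gv ((univ j Q ≫ fst _ _) ≫ proj _ (k + k₂) (Fin.castAdd k₂ i))))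
      (univ j Q ≫ snd _ _)
    suffices h : (crdMap ψ j).comp (ptEquiv.symm r) = AlgHom.id R _ from fun x => ⟨_, DFunLike.congr_fun h x⟩
    refine ptEquiv.injective ?_
    rw [ptEquiv_comp, Equiv.apply_symm_apply, ptEquiv_apply, mor_id, Category.id_comp]
    have h1 : mor j (crdMap ψ j) ≫ univ j Q = univ j P ≫ ψ := by
      have := ptEquiv_comp_crdMap ψ (j := j) (R := R) (AlgHom.id R (Crd j P))
      rwa [AlgHom.id_comp, ptEquiv_apply, ptEquiv_apply, mor_id, Category.id_comp] at this
    haveI : Mono T.left := inferInstance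
    haveI : Mono T := Over.mono_of_mono_left _
    have h2 : univ j P ≫ ψ = _ := (cancel_mono T).1
      ((Category.assoc _ _ _).trans ((congrArg (univ j P ≫ ·) hψ).trans (bruhat_pt e₂ l hv (univ j P)).symm))
    refine CartesianMonoidalCategory.hom_ext _ _ ?_ ?_
    · refine pow_ext fun i => ?_
      simp only [r, Category.assoc, lift_fst_assoc, tup_proj, mor_gp, map_mul, AlgHom.commutes, ← gv_comp]
      rw [← Category.assoc (mor j _), h1, h2]
      simp only [lift_fst_assoc, tup_proj, Fin.append_left, gv_gp, ← _root_.mul_assoc, Category.assoc]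
      rw [AlgHom.commutes, ← map_mul, Units.mul_inv, map_one, _root_.one_mul, gp_gv]
    · simp only [r, Category.assoc, lift_snd]
      rw [← Category.assoc (mor j _), h1, h2, lift_snd]
  have himm : IsImmersion (ψ.left ≫ T.left) := inferInstance
  refine ⟨by rw [← hψ]; exact himm, closure (Set.range (RedSub.bruhatMap D nr l e epos).left), isClosed_closure, ?_⟩
  rw [range_trCell (l.map nr).prod hneg hpos hE hpos, ← hψ]
  refine Set.Subset.antisymm (fun x hx => ⟨?_, subset_closure hx⟩) fun x hx => ?_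
  · rw [hψ] at hx; exact hsub hx
  obtain ⟨⟨q, rfl⟩, hq⟩ := hx
  have hcl : q ∈ closure (Set.range ψ.left) := by
    rw [T.left.isOpenEmbedding.isEmbedding.closure_eq_preimage_closure_image, Set.mem_preimage]
    convert hq using 2
    rw [← Set.range_comp]
    congr 1
  rw [ψ.left.isClosedEmbedding.isClosed_range.closure_eq] at hcl
  obtain ⟨p, hp⟩ := hcl
  exact ⟨p, by rw [← hp, Over.comp_left, Scheme.Hom.comp_apply]⟩

end Groth.L14.Chev.Cell
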