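import Groth.Agent.L14.Chev.Cell.BruhatDisj
import Groth.Agent.L25.ParabolicSet

/-!
The positive root groups other than the one of a simple root are normalised by the simple root group and its opposite.
-/

set_option autoImplicit false
universe u

open CategoryTheory CategoryTheory.Limits AlgebraicGeometry MonoidalCategory CartesianMonoidalCategory MonObj
open Groth.L14.RankOne Groth.L25 Groth.L14.Chart

set_option backward.isDefEq.respectTransparency.types false
set_option linter.style.haveILetI false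
set_option linter.unusedSectionVars false
set_option maxHeartbeats 1000000

noncomputable section

namespace Groth.L14.Chev.Cell

variable {S : Scheme.{u}} {G : Over S} [GrpObj G] {D : Red.SplitRed G}

theorem neg_simple_not_pos (b : D.P.Base) {a : D.idx} (ha : a ∈ b.support) :
    D.P.reflectionPerm a a ∉ RedSub.posRoots D.P b := fun h => by
  obtain ⟨lam, hl⟩ := hasLam b
  have h1 := (hl a).1 (simple_pos D.P b ha)
  have h2 := (hl _).1 h
  rw [root_neg', map_neg] at h2
  omega

theorem neg_simple_neg (b : D.P.Base) {a : D.idx} (ha : a ∈ b.support) :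
    D.P.reflectionPerm a a ∈ RedSub.negRoots D.P b := by
  show -D.P.root _ ∈ AddSubmonoid.closure _
  rw [root_neg', neg_neg]
  exact simple_pos D.P b ha

/-- The positive roots of a reflected base. -/
theorem mem_posRoots_reflectBase (b : D.P.Base) {a : D.idx} (c : D.idx) :
    c ∈ RedSub.posRoots D.P (Groth.L25.ParabolicSet.reflectBase D.P b a) ↔
      D.P.reflectionPerm a c ∈ RedSub.posRoots D.P b := by
  classical
  have himg : D.P.root '' ((Groth.L25.ParabolicSet.reflectBase D.P b a).support : Set D.idx) =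
      D.P.reflection a '' (D.P.root '' (b.support : Set D.idx)) := by
    show D.P.root '' ((b.support.image (D.P.reflectionPerm a) : Finset D.idx) : Set D.idx) = _
    rw [Finset.coe_image, ← Set.image_comp, ← Set.image_comp]
    exact Set.image_congr fun x _ => D.P.root_reflectionPerm a x
  show D.P.root c ∈ AddSubmonoid.closure _ ↔ D.P.root _ ∈ AddSubmonoid.closure _
  rw [himg, show AddSubmonoid.closure (D.P.reflection a '' (D.P.root '' (b.support : Set D.idx))) =
    (AddSubmonoid.closure (D.P.root '' (b.support : Set D.idx))).map (D.P.reflection a).toAddEquiv.toAddMonoidHom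
      from (AddMonoidHom.map_mclosure _ _).symm]
  constructor
  · rintro ⟨x, hx, e⟩
    rw [D.P.root_reflectionPerm, ← e]
    show D.P.reflection a (D.P.reflection a x) ∈ _
    rw [D.P.reflection_same a x]
    exact hx
  · intro h
    exact ⟨_, h, (D.P.root_reflectionPerm a _).symm.trans (congrArg D.P.root (D.P.reflectionPerm_self a c))⟩

/-- A simple root may be given the lowest level. -/
theorem filt_hat (b : D.P.Base) {a : D.idx} (ha : a ∈ b.support) {lv : D.idx → ℕ}
    (hF : Filt D (RedSub.posRoots D.P b) lv) [DecidableEq D.idx] :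
    Filt D (RedSub.posRoots D.P b) (fun c => if c = a then 0 else lv c + 1) := by
  haveI : Finite D.idx := Finite.of_fintype _
  refine ⟨hF.ne, fun p hp q hq c i k hi hk h => ?_⟩
  obtain ⟨hc, h1, h2⟩ := hF.step p hp q hq c i k hi hk h
  have hca : c ≠ a := by
    rintro rfl
    obtain ⟨f, hf⟩ := Groth.L25.ParabolicSet.exists_coeff D.P b.support hp
    obtain ⟨g, hg⟩ := Groth.L25.ParabolicSet.exists_coeff D.P b.support hq
    have e : D.P.root c = ∑ x ∈ b.support, ((i : ℤ) * (f x : ℤ) + (k : ℤ) * (g x : ℤ)) • D.P.root x := by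
      rw [h, hf, hg, Finset.smul_sum, Finset.smul_sum, ← Finset.sum_add_distrib]
      refine Finset.sum_congr rfl fun x _ => ?_
      rw [add_smul, ← natCast_zsmul, ← natCast_zsmul, smul_smul, smul_smul]
    have hc1 := b.height_one_of_mem_support ha
    rw [b.height_eq_sum e, Finset.sum_add_distrib, ← Finset.mul_sum, ← Finset.mul_sum, ← b.height_eq_sum hf,
      ← b.height_eq_sum hg] at hc1
    have hp' : 0 < b.height p := (Groth.L25.ParabolicSet.isPos_iff_mem D.P b p).2 hp
    have hq' : 0 < b.height q := (Groth.L25.ParabolicSet.isPos_iff_mem D.P b q).2 hq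
    nlinarith [mul_le_mul_of_nonneg_right (show (1 : ℤ) ≤ i by omega) hp'.le,
      mul_le_mul_of_nonneg_right (show (1 : ℤ) ≤ k by omega) hq'.le]
  refine ⟨hc, ?_, ?_⟩ <;> simp only [if_neg hca] <;> split <;> omega

variable {R : Type u} [CommRing R] (j : Spec (CommRingCat.of R) ⟶ S) (C : Type u) [CommRing C] [Algebra R C]

variable (D) in
/-- The group generated by the positive root points of the roots different from one root. -/
def hat (b : D.P.Base) (a : D.idx) : Subgroup (Sp j C ⟶ G) :=
  Subgroup.closure {g | ∃ c, (c ∈ RedSub.posRoots D.P b ∧ c ≠ a) ∧ ∃ x : C, g = gp j x ≫ D.u c}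

variable {j C}

theorem gp_mem_hat {b : D.P.Base} {a c : D.idx} (hc : c ∈ RedSub.posRoots D.P b) (hca : c ≠ a) (x : C) :
    gp j x ≫ D.u c ∈ hat D j C b a := Subgroup.subset_closure ⟨c, ⟨hc, hca⟩, x, rfl⟩

theorem hat_le_gen (b : D.P.Base) (a : D.idx) (lv : D.idx → ℕ) :
    hat D j C b a ≤ gen j C D.u (RedSub.posRoots D.P b) lv 0 := by
  rw [hat, Subgroup.closure_le]
  rintro _ ⟨c, ⟨hc, -⟩, x, rfl⟩
  exact gp_mem_gen hc (Nat.zero_le _) x

theorem rootProd_mem_hat {b : D.P.Base} {a : D.idx} {L : List D.idx}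
    (hL : ∀ c ∈ L, c ∈ RedSub.posRoots D.P b ∧ c ≠ a) (x : D.idx → C) : rootProd j D.u L x ∈ hat D j C b a :=
  list_prod_mem fun g hg => by
    obtain ⟨c, hc, rfl⟩ := List.mem_map.1 hg
    exact gp_mem_hat (hL c hc).1 (hL c hc).2 _

variable [IsOpenImmersion j]

theorem gp_conj_hat_aux (b : D.P.Base) {a : D.idx} (ha : a ∈ b.support) {h : Sp j C ⟶ G} (hh : h ∈ hat D j C b a)
    {g : Sp j C ⟶ G} {lv : D.idx → ℕ} (hF : Filt D (RedSub.posRoots D.P b) lv)
    (hg : g ∈ gen j C D.u (RedSub.posRoots D.P b) lv 0) : g * h * g⁻¹ ∈ hat D j C b a := by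
  classical
  have hF' := filt_hat b ha hF
  have hle : hat D j C b a ≤ gen j C D.u (RedSub.posRoots D.P b) (fun c => if c = a then 0 else lv c + 1) 1 := by
    rw [hat, Subgroup.closure_le]
    rintro _ ⟨c, ⟨hc, hca⟩, x, rfl⟩
    exact gp_mem_gen hc (by simp [hca]) x
  have hge : gen j C D.u (RedSub.posRoots D.P b) (fun c => if c = a then 0 else lv c + 1) 1 ≤ hat D j C b a := by
    rw [gen, Subgroup.closure_le]
    rintro _ ⟨c, hc, hn, x, rfl⟩
    exact gp_mem_hat hc (fun e => by simp [e] at hn) x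
  have hg' : g ∈ gen j C D.u (RedSub.posRoots D.P b) (fun c => if c = a then 0 else lv c + 1) 0 := by
    refine (Subgroup.closure_le _).2 ?_ hg
    rintro _ ⟨c, hc, -, x, rfl⟩
    exact gp_mem_gen hc (Nat.zero_le _) x
  exact hge (conj_mem_gen D.rootHom hF' hg' h (hle hh)).1

/-- The hat group is normalised by the root group of the simple root. -/
theorem gp_conj_hat (b : D.P.Base) {a : D.idx} (ha : a ∈ b.support) {h : Sp j C ⟶ G} (hh : h ∈ hat D j C b a)
    (x : C) : (gp j x ≫ D.u a) * h * (gp j x ≫ D.u a)⁻¹ ∈ hat D j C b a := by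
  haveI : Finite D.idx := Finite.of_fintype _
  obtain ⟨lv, hF⟩ := exists_filt_pos (D := D) b
  exact gp_conj_hat_aux b ha hh hF (gp_mem_gen (simple_pos D.P b ha) (Nat.zero_le _) x)

/-- The hat group is normalised by the opposite root group. -/
theorem gp_conj_hat' (b : D.P.Base) {a : D.idx} (ha : a ∈ b.support) {h : Sp j C ⟶ G} (hh : h ∈ hat D j C b a)
    (x : C) : (gp j x ≫ D.u (D.P.reflectionPerm a a)) * h * (gp j x ≫ D.u (D.P.reflectionPerm a a))⁻¹ ∈
      hat D j C b a := by
  classical
  haveI : Finite D.idx := Finite.of_fintype _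
  let b' := Groth.L25.ParabolicSet.reflectBase D.P b a
  set a' := D.P.reflectionPerm a a with ha'
  have ha'mem : a' ∈ b'.support := Finset.mem_image_of_mem _ ha
  have hiff : ∀ c : D.idx, (c ∈ RedSub.posRoots D.P b' ∧ c ≠ a') ↔ (c ∈ RedSub.posRoots D.P b ∧ c ≠ a) := by
    intro c
    rw [mem_posRoots_reflectBase]
    constructor
    · rintro ⟨h1, h2⟩
      have h3 : D.P.reflectionPerm a c ≠ a := fun e => h2 ((D.P.reflectionPerm_self a c).symm.trans (congrArg _ e))
      have h4 := refl_simple_pos D.P b ha h1 h3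
      rw [D.P.reflectionPerm_self] at h4
      exact ⟨h4, fun e => neg_simple_not_pos b ha (by subst e; exact h1)⟩
    · rintro ⟨h1, h2⟩
      exact ⟨refl_simple_pos D.P b ha h1 h2, fun e => neg_simple_not_pos b ha (by subst e; exact h1)⟩
  have heq : hat D j C b' a' = hat D j C b a := by
    simp only [hat, hiff]
  rw [← heq] at hh ⊢
  exact gp_conj_hat b' ha'mem hh x

theorem conjT_mem_hat (b : D.P.Base) (a : D.idx) {h : Sp j C ⟶ G} (hh : h ∈ hat D j C b a)
    (χ : Multiplicative D.M →* C) : conjT D j χ h ∈ hat D j C b a := by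
  rw [conjT]
  induction hh using Subgroup.closure_induction with
  | mem g hg =>
    obtain ⟨c, hc, x, rfl⟩ := hg
    rw [conj_root j D.rootHom]
    exact gp_mem_hat hc.1 hc.2 _
  | one => simp
  | mul g g' _ _ hg hg' =>
    rw [show (tpt D j χ ≫ D.i) * (g * g') * (tpt D j χ ≫ D.i)⁻¹ = ((tpt D j χ ≫ D.i) * g * (tpt D j χ ≫ D.i)⁻¹) *
      ((tpt D j χ ≫ D.i) * g' * (tpt D j χ ≫ D.i)⁻¹) by group]
    exact mul_mem hg hg'
  | inv g _ hg =>
    rw [show (tpt D j χ ≫ D.i) * g⁻¹ * (tpt D j χ ≫ D.i)⁻¹ = ((tpt D j χ ≫ D.i) * g * (tpt D j χ ≫ D.i)⁻¹)⁻¹ by group]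
    exact inv_mem hg

end Groth.L14.Chev.Cell
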