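import Groth.Agent.L14.Chev.Listed
import Mathlib.Algebra.Polynomial.Laurent

/-!
A point has at most one expression as a product of negative root points, a torus point and positive root points.
-/

set_option autoImplicit false
universe u

open CategoryTheory CategoryTheory.Limits AlgebraicGeometry MonoidalCategory CartesianMonoidalCategory MonObj
open Groth.L14.RankOne Groth.L25 Groth.L14.Chart
open Polynomial (toLaurent toLaurentAlg X)
open LaurentPolynomial (T invert)

set_option backward.isDefEq.respectTransparency.types false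
set_option linter.style.haveILetI false

noncomputable section

namespace Groth.L14.Chev.Cell

variable {S : Scheme.{u}} {G : Over S} [GrpObj G] {D : Red.SplitRed G}
  {R : Type u} [CommRing R] {j : Spec (CommRingCat.of R) ⟶ S}
  {C : Type u} [CommRing C] [Algebra R C]

omit [GrpObj G] in
theorem pt_eq_of_injective [IsAffineHom G.hom] {C' : Type u} [CommRing C'] [Algebra R C'] (h : C →ₐ[R] C')
    (hh : Function.Injective h) {p q : Sp j C ⟶ G} (e : mor j h ≫ p = mor j h ≫ q) : p = q := by
  refine ptEquiv.symm.injective (AlgHom.ext fun a => hh ?_)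
  have e' := congrArg (fun s => ptEquiv.symm s a) e
  simpa only [ptEquiv_symm_comp, AlgHom.comp_apply] using e'

/-- Constant polynomials. -/
abbrev polC : C →ₐ[R] Polynomial C := IsScalarTower.toAlgHom R C (Polynomial C)

/-- Constant Laurent polynomials. -/
abbrev lauC : C →ₐ[R] LaurentPolynomial C := IsScalarTower.toAlgHom R C (LaurentPolynomial C)

/-- Polynomials as Laurent polynomials. -/
abbrev toLau : Polynomial C →ₐ[R] LaurentPolynomial C := (toLaurentAlg (R := C)).restrictScalars R

/-- Polynomials as Laurent polynomials in the inverse variable. -/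
abbrev toLauInv : Polynomial C →ₐ[R] LaurentPolynomial C :=
  ((invert (R := C)).toAlgHom.restrictScalars R).comp toLau

/-- Evaluation at a point. -/
abbrev evalAt (r : C) : Polynomial C →ₐ[R] C := (Polynomial.aeval r).restrictScalars R

theorem toLau_injective : Function.Injective (toLau : Polynomial C →ₐ[R] LaurentPolynomial C) :=
  Polynomial.toLaurent_injective

/-- Coordinates scaled by powers of the variable. -/
def grade (mu : D.M →+ ℤ) (x : D.idx → C) : D.idx → Polynomial C :=
  fun c => Polynomial.C (x c) * X ^ (mu (D.P.root c)).natAbs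

variable (C) in
/-- The character given by a functional. -/
def chiLam (mu : D.M →+ ℤ) : Multiplicative D.M →* LaurentPolynomial C where
  toFun m := T (mu m.toAdd)
  map_one' := by simp [LaurentPolynomial.T_zero]
  map_mul' a b := by
    show T (mu (a.toAdd + b.toAdd)) = T (mu a.toAdd) * T (mu b.toAdd)
    rw [map_add, LaurentPolynomial.T_add]

omit [Algebra R C] in
theorem polC_eq (r : C) : (algebraMap C (Polynomial C)) r = Polynomial.C r := rfl

theorem toLau_grade (mu : D.M →+ ℤ) (x : D.idx → C) (c : D.idx) :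
    toLau (R := R) (grade mu x c) = LaurentPolynomial.C (x c) * T ((mu (D.P.root c)).natAbs : ℤ) := by
  show toLaurent (grade mu x c) = _
  simp [grade]

theorem toLauInv_grade (mu : D.M →+ ℤ) (x : D.idx → C) (c : D.idx) :
    toLauInv (R := R) (grade mu x c) = LaurentPolynomial.C (x c) * T (-((mu (D.P.root c)).natAbs : ℤ)) := by
  show invert (toLau (R := R) (grade mu x c)) = _
  rw [toLau_grade, map_mul, LaurentPolynomial.invert_C, LaurentPolynomial.invert_T]

theorem evalAt_zero_grade (mu : D.M →+ ℤ) (x : D.idx → C) (c : D.idx) (h : mu (D.P.root c) ≠ 0) :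
    evalAt (R := R) 0 (grade mu x c) = 0 := by
  simp [evalAt, grade, h]

theorem evalAt_one_grade (mu : D.M →+ ℤ) (x : D.idx → C) (c : D.idx) : evalAt (R := R) 1 (grade mu x c) = x c := by
  simp [evalAt, grade]

theorem eq_const_of_toLaurent_eq {f g : Polynomial C} (h : toLaurent f = invert (toLaurent g)) :
    f = Polynomial.C (f.coeff 0) ∧ g = Polynomial.C (g.coeff 0) ∧ f.coeff 0 = g.coeff 0 := by
  have key : ∀ {p q : Polynomial C}, toLaurent p = invert (toLaurent q) → ∀ n : ℕ, p.coeff n = if n = 0 then q.coeff 0 else 0 := by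
    intro p q hpq n
    have hco : ∀ (r : Polynomial C) (k : ℕ), (toLaurent r).coeff (k : ℤ) = r.coeff k := fun r k => by
      rw [Polynomial.toLaurent_apply]
      exact Finsupp.mapDomain_apply Nat.cast_injective _ k
    have h2 : (toLaurent p).coeff (n : ℤ) = (toLaurent q).coeff (-(n : ℤ)) := by
      rw [hpq, LaurentPolynomial.invert_apply]
    rw [hco] at h2
    rcases n with _ | n
    · simpa [hco q 0] using h2.trans (by rw [Nat.cast_zero, neg_zero]; exact hco q 0)
    · rw [if_neg (Nat.succ_ne_zero n), h2, Polynomial.toLaurent_apply]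
      refine Finsupp.mapDomain_of_notMem_range _ _ ?_
      rintro ⟨k, hk⟩
      change (k : ℤ) = _ at hk
      omega
  have h' : toLaurent g = invert (toLaurent f) := by rw [h, LaurentPolynomial.involutive_invert.eq_iff.2 rfl]
  refine ⟨Polynomial.ext fun n => ?_, Polynomial.ext fun n => ?_, by simpa using key h 0⟩
  · rw [key h n, Polynomial.coeff_C]
    split_ifs with hn
    · simpa using (key h 0).symm
    · rfl
  · rw [key h' n, Polynomial.coeff_C]
    split_ifs with hn
    · simpa using (key h' 0).symm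
    · rfl

variable {v : D.idx → (Red.Ga S ⟶ G)}
  (hv : ∀ c, Red.IsRootHom D.i (D.split.hom.hom.hom ≫ Red.chi S (D.P.root c)) (v c))
  {mu : D.M →+ ℤ}

variable (j v) in
theorem mor_polC_tpt (χ : Multiplicative D.M →* C) :
    mor j (lauC (R := R) (C := C)) ≫ tpt D j χ = mor j (toLau (R := R)) ≫ mor j polC ≫ tpt D j χ := by
  rw [← Category.assoc, ← mor_comp]
  congr 2
  exact AlgHom.ext fun r => (Polynomial.toLaurent_C r).symm

include hv in
theorem conj_chiLam_pos {l : List D.idx} (hl : ∀ c ∈ l, 0 < mu (D.P.root c)) (x : D.idx → C) :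
    (tpt D j (chiLam C mu) ≫ D.i) * (mor j (lauC (R := R)) ≫ rootProd j v l x) * (tpt D j (chiLam C mu) ≫ D.i)⁻¹ =
      mor j (toLau (R := R)) ≫ rootProd j v l (grade mu x) := by
  rw [mor_rootProd, mor_rootProd, conj_rootProd j hv]
  unfold rootProd
  refine congrArg List.prod (List.map_congr_left fun c hc => ?_)
  beta_reduce
  rw [toLau_grade, Int.natAbs_of_nonneg (hl c hc).le]
  congr 2
  exact mul_comm _ _

include hv in
theorem conj_chiLam_neg {l : List D.idx} (hl : ∀ c ∈ l, mu (D.P.root c) < 0) (x : D.idx → C) :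
    (tpt D j (chiLam C mu) ≫ D.i) * (mor j (lauC (R := R)) ≫ rootProd j v l x) * (tpt D j (chiLam C mu) ≫ D.i)⁻¹ =
      mor j (toLauInv (R := R)) ≫ rootProd j v l (grade mu x) := by
  rw [mor_rootProd, mor_rootProd, conj_rootProd j hv]
  unfold rootProd
  refine congrArg List.prod (List.map_congr_left fun c hc => ?_)
  beta_reduce
  rw [toLauInv_grade, Int.ofNat_natAbs_of_nonpos (hl c hc).le, neg_neg]
  congr 2
  exact mul_comm _ _

variable [IsOpenImmersion j]

include hv in
/-- Ordered products of root points along roots positive for a functional determine their coordinates. -/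
theorem rootProd_injective_of_pos {l : List D.idx} (hnd : l.Nodup) (hl : ∀ c ∈ l, 0 < mu (D.P.root c))
    {x y : D.idx → C} (h : rootProd j v l x = rootProd j v l y) : ∀ c ∈ l, x c = y c := by
  haveI := reductive_affine D
  have h1 : rootProd j v l (grade mu x) = rootProd j v l (grade mu y) :=
    pt_eq_of_injective _ (toLau_injective (R := R)) (by rw [← conj_chiLam_pos hv hl, ← conj_chiLam_pos hv hl, h])
  intro c hc
  let n := (mu (D.P.root c)).natAbs
  let J : Ideal (Polynomial C) := Ideal.span {X ^ (n + 1)}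
  let q : Polynomial C →ₐ[R] Polynomial C ⧸ J := Ideal.Quotient.mkₐ R J
  let I : Ideal (Polynomial C ⧸ J) := Ideal.span {q X}
  have hI : IsNilpotent I := ⟨n + 1, by
    rw [Ideal.span_singleton_pow, ← map_pow, Ideal.zero_eq_bot, Ideal.span_singleton_eq_bot]
    exact Ideal.Quotient.eq_zero_iff_mem.2 (Ideal.mem_span_singleton_self _)⟩
  have hm : ∀ (z : D.idx → C), ∀ d ∈ l, q (grade mu z d) ∈ I := fun z d hd => by
    rw [grade, map_mul, map_pow]
    exact Ideal.mul_mem_left _ _ (Ideal.pow_mem_of_mem _ (Ideal.mem_span_singleton_self _) _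
      (Int.natAbs_pos.2 (hl d hd).ne'))
  have h2 := congrArg (fun p => mor j q ≫ p) h1
  simp only [mor_rootProd] at h2
  have h3 := Ideal.Quotient.eq.1 (rootProd_injective_on hv hnd hI (hm x) (hm y) h2 c hc)
  rw [grade, grade, ← sub_mul, Ideal.mem_span_singleton, Polynomial.X_pow_dvd_iff] at h3
  have h4 := h3 n (Nat.lt_succ_self _)
  rw [← map_sub, Polynomial.coeff_C_mul, Polynomial.coeff_X_pow, if_pos rfl, _root_.mul_one] at h4
  exact sub_eq_zero.1 h4

include hv in
theorem rootProd_injective_of_neg {l : List D.idx} (hnd : l.Nodup) (hl : ∀ c ∈ l, mu (D.P.root c) < 0)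
    {x y : D.idx → C} (h : rootProd j v l x = rootProd j v l y) : ∀ c ∈ l, x c = y c :=
  rootProd_injective_of_pos hv (mu := -mu) hnd (fun c hc => by simpa using hl c hc) h

include hv in
/-- The big cell map is injective on points. -/
theorem cell_injective {lneg lpos : List D.idx} (hn : lneg.Nodup) (hp : lpos.Nodup)
    (hln : ∀ c ∈ lneg, mu (D.P.root c) < 0) (hlp : ∀ c ∈ lpos, 0 < mu (D.P.root c))
    {χ χ' : Multiplicative D.M →* C} {y y' x x' : D.idx → C}
    (h : rootProd j v lneg y * ((tpt D j χ ≫ D.i) * rootProd j v lpos x) =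
      rootProd j v lneg y' * ((tpt D j χ' ≫ D.i) * rootProd j v lpos x')) :
    χ = χ' ∧ (∀ c ∈ lneg, y c = y' c) ∧ ∀ c ∈ lpos, x c = x' c := by
  haveI := reductive_affine D
  haveI := isMonHom_i (D := D)
  haveI : ∀ c, IsMonHom (v c) := fun c => (hv c).1
  have h' : (rootProd j v lneg y')⁻¹ * rootProd j v lneg y =
      (tpt D j χ' ≫ D.i) * (rootProd j v lpos x' * (rootProd j v lpos x)⁻¹) * (tpt D j χ ≫ D.i)⁻¹ := by
    calc (rootProd j v lneg y')⁻¹ * rootProd j v lneg y
        = (rootProd j v lneg y')⁻¹ * (rootProd j v lneg y * ((tpt D j χ ≫ D.i) * rootProd j v lpos x)) *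
          (rootProd j v lpos x)⁻¹ * (tpt D j χ ≫ D.i)⁻¹ := by group
      _ = _ := by rw [h]; group
  let Z := tpt D j (chiLam C mu) ≫ D.i
  let gp' : Sp j (Polynomial C) ⟶ G := (mor j polC ≫ tpt D j χ' ≫ D.i) *
    (rootProd j v lpos (grade mu x') * (rootProd j v lpos (grade mu x))⁻¹) * (mor j polC ≫ tpt D j χ ≫ D.i)⁻¹
  let gm : Sp j (Polynomial C) ⟶ G :=
    (rootProd j v lneg (grade mu y'))⁻¹ * rootProd j v lneg (grade mu y)
  have hc : ∀ ψ : Multiplicative D.M →* C, Z * (mor j lauC ≫ tpt D j ψ ≫ D.i) * Z⁻¹ =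
      mor j (toLau (R := R)) ≫ mor j polC ≫ tpt D j ψ ≫ D.i := fun ψ => by
    rw [reassoc_of% mor_polC_tpt j ψ]
    have e : ∀ t : Sp j (LaurentPolynomial C) ⟶ D.T, Z * (t ≫ D.i) * Z⁻¹ = t ≫ D.i := fun t => by
      obtain ⟨τ, rfl⟩ := exists_tpt j t
      rw [mul_inv_eq_iff_eq_mul, ← MonObj.mul_comp, ← MonObj.mul_comp, ← tpt_mul, ← tpt_mul, mul_comm]
    simpa only [Category.assoc] using e (mor j (toLau (R := R)) ≫ mor j polC ≫ tpt D j ψ)
  have e1 : mor j (toLau (R := R)) ≫ gp' = mor j (toLauInv (R := R)) ≫ gm := by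
    simp only [gp', gm, MonObj.comp_mul, GrpObj.comp_inv, ← conj_chiLam_pos hv hlp, ← conj_chiLam_neg hv hln, ← hc]
    have := congrArg (fun s => Z * (mor j (lauC (R := R)) ≫ s) * Z⁻¹) h'
    simp only [MonObj.comp_mul, GrpObj.comp_inv] at this
    refine Eq.trans ?_ (this.symm.trans ?_)
    · simp only [Z]; group
    · simp only [Z]; group
  have e2 : ∀ a, ptEquiv.symm gp' a = Polynomial.C ((ptEquiv.symm gm a).coeff 0) ∧
      ptEquiv.symm gm a = Polynomial.C ((ptEquiv.symm gm a).coeff 0) := fun a => by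
    have e3 : toLaurent (ptEquiv.symm gp' a) = invert (toLaurent (ptEquiv.symm gm a)) := by
      have e3 := congrArg (fun s => ptEquiv.symm s a) e1
      simp only [ptEquiv_symm_comp] at e3
      exact e3
    obtain ⟨h1, h2, h3⟩ := eq_const_of_toLaurent_eq e3
    exact ⟨by rw [← h3]; exact h1, h2⟩
  have hm0 : mor j (evalAt (R := R) (0 : C)) ≫ gm = 1 := by
    simp only [gm, MonObj.comp_mul, GrpObj.comp_inv, mor_rootProd]
    rw [rootProd_eq_one j fun c hc => evalAt_zero_grade mu y' c (hln c hc).ne,
      rootProd_eq_one j fun c hc => evalAt_zero_grade mu y c (hln c hc).ne, inv_one, _root_.one_mul]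
  have e4 : gp' = 1 ∧ gm = 1 := by
    have e5 : ∀ p : Sp j (Polynomial C) ⟶ G, (∀ a, ptEquiv.symm p a = Polynomial.C ((ptEquiv.symm gm a).coeff 0)) →
        p = 1 := fun p hp' => by
      have : p = mor j polC ≫ mor j (evalAt (R := R) (0 : C)) ≫ gm := by
        refine ptEquiv.symm.injective (AlgHom.ext fun a => ?_)
        rw [hp' a, ptEquiv_symm_comp, ptEquiv_symm_comp]
        simp [evalAt, polC, Polynomial.coeff_zero_eq_aeval_zero]
      rw [this, hm0, MonObj.comp_one]
    exact ⟨e5 gp' fun a => (e2 a).1, e5 gm fun a => (e2 a).2⟩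
  have hev : ∀ (r : C) (ψ : Multiplicative D.M →* C),
      mor j (evalAt (R := R) r) ≫ mor j polC ≫ tpt D j ψ ≫ D.i = tpt D j ψ ≫ D.i := fun r ψ => by
    rw [← Category.assoc, ← mor_comp, show (evalAt (R := R) r).comp polC = AlgHom.id R C from
      AlgHom.ext fun s => by simp [evalAt, polC], mor_id, Category.id_comp]
  have hχ : χ = χ' := by
    have hthis := congrArg (fun s => mor j (evalAt (R := R) (0 : C)) ≫ s) e4.1
    simp only [gp', MonObj.comp_mul, GrpObj.comp_inv, hev, mor_rootProd, MonObj.comp_one] at hthis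
    rw [rootProd_eq_one j fun c hc => evalAt_zero_grade mu x' c (hlp c hc).ne',
      rootProd_eq_one j fun c hc => evalAt_zero_grade mu x c (hlp c hc).ne', inv_one, _root_.mul_one,
      _root_.mul_one, mul_inv_eq_one] at hthis
    haveI := D.maximalTorus.2.1
    haveI : Mono D.i := Over.mono_of_mono_left _
    exact (tpt_injective j ((cancel_mono D.i).1 hthis.symm)).trans rfl
  refine ⟨hχ, ?_, ?_⟩
  · have := congrArg (fun s => mor j (evalAt (R := R) (1 : C)) ≫ s) e4.2
    simp only [gm, MonObj.comp_mul, GrpObj.comp_inv, mor_rootProd, MonObj.comp_one, evalAt_one_grade,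
      inv_mul_eq_one] at this
    exact rootProd_injective_of_neg hv hn hln this.symm
  · have := congrArg (fun s => mor j (evalAt (R := R) (1 : C)) ≫ s) e4.1
    simp only [gp', MonObj.comp_mul, GrpObj.comp_inv, hev, mor_rootProd, MonObj.comp_one, evalAt_one_grade,
      ← hχ] at this
    rw [mul_inv_eq_one, mul_eq_left, mul_inv_eq_one] at this
    exact rootProd_injective_of_pos hv hp hlp this.symm

end Groth.L14.Chev.Cell
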