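import Groth.Agent.L14.Chev.Cell.Regular
import Mathlib.LinearAlgebra.Dual.Lemmas
import Mathlib.RingTheory.Finiteness.Basic

/-!
Functionals positive on a finite set without positive relations.
-/

set_option autoImplicit false
universe u

set_option linter.unusedSectionVars false

noncomputable section

namespace Groth.L14.Chev.Cell

variable {M : Type*} [AddCommGroup M] [Module.Finite ℤ M] [Module.Free ℤ M]

theorem exists_addHom_ne {x : M} (hx : x ≠ 0) : ∃ g : M →+ ℤ, 0 < g x := by
  obtain ⟨g, hg⟩ : ∃ g : Module.Dual ℤ M, g x ≠ 0 := by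
    by_contra! h
    exact hx ((Module.forall_dual_apply_eq_zero_iff ℤ x).1 h)
  rcases lt_or_gt_of_ne hg with h | h
  · exact ⟨-g.toAddMonoidHom, by simpa using h⟩
  · exact ⟨g.toAddMonoidHom, h⟩

/-- A finite family without relations with non-negative coefficients has a functional positive on it. -/
theorem exists_pos_of_no_rel {ι : Type*} (s : Finset ι) (v : ι → M)
    (h : ∀ n : ι → ℕ, ∑ i ∈ s, n i • v i = 0 → ∀ i ∈ s, n i = 0) : ∃ f : M →+ ℤ, ∀ i ∈ s, 0 < f (v i) := by
  classical
  induction s using Finset.induction_on generalizing v with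
  | empty => exact ⟨0, fun i hi => absurd hi (Finset.notMem_empty i)⟩
  | insert a s ha ih =>
    have hva : v a ≠ 0 := fun h0 => by
      have := h (Pi.single a 1) (Finset.sum_eq_zero fun i _ => by
        by_cases hia : i = a
        · rw [hia, h0, nsmul_zero]
        · rw [Pi.single_eq_of_ne hia, zero_smul]) a (Finset.mem_insert_self a s)
      simp at this
    obtain ⟨f, hf⟩ := ih v fun n hn i hi => by
      have := h (Function.update n a 0) (by
        rw [Finset.sum_insert ha, Function.update_self, zero_smul, zero_add]
        refine Eq.trans (Finset.sum_congr rfl fun j hj => ?_) hn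
        rw [Function.update_of_ne (fun e => ha (by rwa [e] at hj))]) i (Finset.mem_insert_of_mem hi)
      rwa [Function.update_of_ne (fun e => ha (by rwa [e] at hi))] at this
    rcases lt_trichotomy (f (v a)) 0 with hneg | hzero | hpos
    · -- project along the new vector
      let w : ι → M := fun i => (f (v i)) • v a + (-f (v a)) • v i
      obtain ⟨g, hg⟩ := ih w fun n hn i hi => by
        let N : ι → ℕ := Function.update (fun j => n j * (-f (v a)).natAbs) a (∑ j ∈ s, n j * (f (v j)).natAbs)
        have hN : ∑ j ∈ insert a s, N j • v j = 0 := by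
          rw [Finset.sum_insert ha]
          have e1 : ∀ j ∈ s, N j = n j * (-f (v a)).natAbs := fun j hj =>
            Function.update_of_ne (fun e => ha (by rwa [e] at hj)) _ _
          rw [Finset.sum_congr rfl fun j hj => by rw [e1 j hj], show N a = _ from Function.update_self _ _ _,
            Finset.sum_smul, ← Finset.sum_add_distrib]
          refine Eq.trans (Finset.sum_congr rfl fun j hj => ?_) hn
          simp only [w, ← natCast_zsmul (G := M), smul_add, smul_smul, Nat.cast_mul,
            Int.natAbs_of_nonneg (hf j hj).le, Int.natAbs_of_nonneg (neg_pos.2 hneg).le]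
        have := h N hN i (Finset.mem_insert_of_mem hi)
        rw [show N i = n i * (-f (v a)).natAbs from Function.update_of_ne (fun e => ha (by rwa [e] at hi)) _ _,
          Nat.mul_eq_zero] at this
        exact this.resolve_right (Int.natAbs_ne_zero.2 (neg_ne_zero.2 hneg.ne))
      have hgw : ∀ i ∈ s, 0 < f (v i) * g (v a) + -f (v a) * g (v i) := fun i hi => by
        have := hg i hi
        simpa [w] using this
      -- choose the weights
      by_cases hs : s.Nonempty
      · obtain ⟨i₀, hi₀, hmax⟩ := s.exists_max_image (fun i => (-(g (v i)) : ℚ) / f (v i)) hs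
        have hA : 0 < f (v i₀) := hf i₀ hi₀
        refine ⟨(2 * f (v i₀) * -f (v a)) • g + (g (v a) * f (v i₀) - g (v i₀) * -f (v a)) • f, fun i hi => ?_⟩
        simp only [AddMonoidHom.add_apply, AddMonoidHom.smul_apply, smul_eq_mul]
        rcases Finset.mem_insert.1 hi with rfl | hi
        · nlinarith [hgw i₀ hi₀, neg_pos.2 hneg]
        · have hB : 0 < f (v i) := hf i hi
          have h1 := hmax i hi
          rw [div_le_div_iff₀ (by exact_mod_cast hB) (by exact_mod_cast hA)] at h1
          have h2 : -g (v i) * f (v i₀) ≤ -g (v i₀) * f (v i) := by exact_mod_cast h1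
          nlinarith [hgw i₀ hi₀, neg_pos.2 hneg, mul_nonneg (neg_pos.2 hneg).le (sub_nonneg.2 h2)]
      · obtain ⟨g', hg'⟩ := exists_addHom_ne hva
        refine ⟨g', fun i hi => ?_⟩
        rcases Finset.mem_insert.1 hi with rfl | hi
        · exact hg'
        · exact absurd ⟨i, hi⟩ hs
    · obtain ⟨g, hg⟩ := exists_addHom_ne hva
      refine ⟨((s.sum fun i => |g (v i)|) + 1) • f + g, fun i hi => ?_⟩
      simp only [AddMonoidHom.add_apply, AddMonoidHom.smul_apply, smul_eq_mul]
      rcases Finset.mem_insert.1 hi with rfl | hi
      · rw [hzero, mul_zero, zero_add]; exact hg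
      · have h1 := Finset.single_le_sum (f := fun j => |g (v j)|) (fun j _ => abs_nonneg _) hi
        have h2 : 1 ≤ f (v i) := hf i hi
        have h3 := neg_abs_le (g (v i))
        have h4 := le_mul_of_one_le_right (a := (∑ j ∈ s, |g (v j)|) + 1)
          (by linarith [Finset.sum_nonneg fun j (_ : j ∈ s) => abs_nonneg (g (v j))]) h2
        linarith
    · exact ⟨f, fun i hi => (Finset.mem_insert.1 hi).elim (fun e => e ▸ hpos) (hf i)⟩

end Groth.L14.Chev.Cell
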