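import Groth.Agent.L14.Chev.Cell.Span

/-!
Roots positive for an ordering of the character group.
-/

set_option autoImplicit false
universe u

open CategoryTheory CategoryTheory.Limits AlgebraicGeometry MonoidalCategory CartesianMonoidalCategory MonObj
open Groth.L14.RankOne Groth.L25 Groth.L14.Chart

set_option backward.isDefEq.respectTransparency.types false
set_option linter.style.haveILetI false
set_option linter.unusedSectionVars false

noncomputable section

namespace Groth.L14.Chev.Cell

variable {S : Scheme.{u}} {G : Over S} [GrpObj G] {D : Red.SplitRed G} [LinearOrder D.M] [IsOrderedAddMonoid D.M]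
  {N : ℕ} {e : Fin N → D.idx} (he : Function.Injective e)
  (hrange : ∀ a : D.idx, a ∈ Set.range e ↔ 0 < D.P.root a) (hmono : StrictMono (fun k => D.P.root (e k)))

/-- The position of a root in the increasing enumeration, counted from one. -/
def ordLv (e : Fin N → D.idx) : D.idx → ℕ := Function.extend e (fun k => (k : ℕ) + 1) 0

include he in
theorem ordLv_apply (k : Fin N) : ordLv e (e k) = k + 1 := he.extend_apply _ _ k

include hrange in
theorem exists_mu : ∃ mu : D.M →+ ℤ, ∀ k, 0 < mu (D.P.root (e k)) := by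
  obtain ⟨f, hf⟩ := exists_pos_of_no_rel Finset.univ (fun k => D.P.root (e k)) fun n hn i _ => by
    have hpos : ∀ k, 0 < D.P.root (e k) := fun k => (hrange _).1 ⟨k, rfl⟩
    have := (Finset.sum_eq_zero_iff_of_nonneg fun k _ => nsmul_nonneg (hpos k).le (n k)).1 hn i (Finset.mem_univ i)
    by_contra h0
    exact (nsmul_pos_iff h0).2 (hpos i) |>.ne' this
  exact ⟨f, fun k => hf k (Finset.mem_univ k)⟩

include he hrange hmono in
theorem filt_ordLv : Filt D (Set.range e) (ordLv e) := by
  refine ⟨fun a ha b hb i k hi hk h => ?_, fun a ha b hb c i k hi hk h => ?_⟩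
  · have h1 := (nsmul_pos_iff (show i ≠ 0 by omega)).2 ((hrange a).1 ha)
    have h2 := nsmul_nonneg ((hrange b).1 hb).le k
    exact (add_pos_of_pos_of_nonneg h1 h2).ne' h
  have ha' := (hrange a).1 ha
  have hb' := (hrange b).1 hb
  have hia : D.P.root a ≤ i • D.P.root a := le_self_nsmul ha'.le (by omega)
  have hkb : D.P.root b ≤ k • D.P.root b := le_self_nsmul hb'.le (by omega)
  have hac : D.P.root a < D.P.root c := h ▸ lt_of_lt_of_le (lt_add_of_pos_right _ hb') (add_le_add hia hkb)
  have hbc : D.P.root b < D.P.root c := h ▸ lt_of_lt_of_le (lt_add_of_pos_left _ ha') (add_le_add hia hkb)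
  obtain ⟨p, rfl⟩ := ha
  obtain ⟨q, rfl⟩ := hb
  obtain ⟨r, rfl⟩ := (hrange c).2 (ha'.trans hac)
  refine ⟨⟨r, rfl⟩, ?_, ?_⟩ <;> rw [ordLv_apply he, ordLv_apply he, Nat.add_lt_add_iff_right, ← Fin.lt_def]
  · exact hmono.lt_iff_lt.1 hac
  · exact hmono.lt_iff_lt.1 hbc

variable (e) in
/-- The tail of the enumeration. -/
def tailEnum (i m : ℕ) (h : i + m = N) (k : Fin m) : D.idx := e (Fin.cast h (Fin.natAdd i k))

include he in
theorem tailEnum_injective {i m : ℕ} (h : i + m = N) : Function.Injective (tailEnum e i m h) := fun a b hab => by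
  have := congrArg Fin.val (he hab)
  exact Fin.ext (by simpa using this)

include he in
theorem mem_tail_iff {i m : ℕ} (h : i + m = N) (c : D.idx) :
    c ∈ Set.range (tailEnum e i m h) ↔ c ∈ Set.range e ∧ i + 1 ≤ ordLv e c := by
  constructor
  · rintro ⟨k, rfl⟩
    refine ⟨⟨_, rfl⟩, ?_⟩
    rw [tailEnum, ordLv_apply he]
    simp
  · rintro ⟨⟨k, rfl⟩, hk⟩
    rw [ordLv_apply he] at hk
    exact ⟨⟨(k : ℕ) - i, by omega⟩, congrArg e (Fin.ext (by simp; omega))⟩

end Groth.L14.Chev.Cell
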