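import Groth.Agent.L14.Chev.Cell.Reflect
import Groth.Agent.L14.Chev.Cell.BorelFibre

/-!
The rank one relation on geometric fibres: opposite root points meet the translate of the root group times the torus.
-/

set_option autoImplicit false
universe u

open CategoryTheory CategoryTheory.Limits AlgebraicGeometry MonoidalCategory CartesianMonoidalCategory MonObj
open Groth.L14.RankOne Groth.L25 Groth.L14.Chart
open Groth.L08.Borel (ptOf exists_pt_mem exists_pt_lift)

set_option backward.isDefEq.respectTransparency.types false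
set_option linter.style.haveILetI false
set_option linter.unusedSectionVars false
set_option maxHeartbeats 1000000

noncomputable section

namespace Groth.L14.Chev.Cell

variable {S : Scheme.{u}} {G : Over S} [GrpObj G] {D : Red.SplitRed G} {b : D.P.Base}
  {R : Type u} [CommRing R] {j : Spec (CommRingCat.of R) ⟶ S} [IsOpenImmersion j]
  {K : Type u} [Field K] [IsAlgClosed K] [Algebra R K]

/-- A functional killing exactly a root and its opposite, primitive or zero. -/
theorem exists_fun_root (b : D.P.Base) (c : D.idx) : ∃ f : D.M →+ ℤ, (f = 0 ∨ Function.Surjective f) ∧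
    f (D.P.root c) = 0 ∧ ∀ d, d ≠ c → D.P.root d ≠ -D.P.root c → f (D.P.root d) ≠ 0 := by
  classical
  haveI : Finite D.idx := Finite.of_fintype _
  obtain ⟨f₀, hf₀c, hf₀⟩ := exists_functional_avoid (c := D.P.root c)
    ((Finset.univ.filter fun d => d ≠ c ∧ D.P.root d ≠ -D.P.root c).image D.P.root) fun d hd => by
      obtain ⟨d', hd', rfl⟩ := Finset.mem_image.1 hd
      obtain ⟨-, h1, h2⟩ := Finset.mem_filter.1 hd'
      exact fun p r hp e => (eq_or_neg_of_dep D.P b hp e).elim h1 h2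
  obtain ⟨f, hfp, hf⟩ := exists_primitive f₀
  exact ⟨f, hfp, (hf _).2 hf₀c, fun d h1 h2 h =>
    hf₀ _ (Finset.mem_image.2 ⟨d, Finset.mem_filter.2 ⟨Finset.mem_univ _, h1, h2⟩, rfl⟩) ((hf _).1 h)⟩

theorem rootProd_congr {C : Type u} [CommRing C] [Algebra R C] {l : List D.idx} {x y : D.idx → C}
    (h : ∀ c ∈ l, x c = y c) : rootProd j D.u l x = rootProd j D.u l y := by
  simp only [rootProd]
  exact congrArg List.prod (List.map_congr_left fun d hd => by rw [h d hd])

theorem rootProd_eq_single {C : Type u} [CommRing C] [Algebra R C] {l : List D.idx} (hl : l.Nodup) {c : D.idx}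
    (hc : c ∈ l) {x : D.idx → C} (hx : ∀ d ∈ l, d ≠ c → x d = 0) :
    rootProd j D.u l x = gp j (x c) ≫ D.u c := by
  classical
  haveI : ∀ c, IsMonHom (D.u c) := fun c => (D.rootHom c).1
  rw [rootProd_congr (j := j) (y := Pi.single c (x c)) fun d hd => ?_,
    rootProd_single j hl hc fun d hd => Pi.single_eq_of_ne hd _, Pi.single_eq_same]
  by_cases h : d = c
  · subst h; rw [Pi.single_eq_same]
  · rw [Pi.single_eq_of_ne h, hx d hd h]

/-- An opposite root point is a root point times the reflection times a torus point times a root point. -/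
theorem exists_swap (b : D.P.Base) {c : D.idx} (hc : c ∈ RedSub.posRoots D.P b) {ν : 𝟙_ (Over S) ⟶ G}
    (hν : ActsBy ν c) [ConnectedSpace (Red.bc (qK j K) G).left] {y : K} (hy : y ≠ 0) :
    ∃ (x z : K) (χ : Multiplicative D.M →* K), gp j y ≫ D.u (D.P.reflectionPerm c c) =
      (gp j x ≫ D.u c) * (toUnit (Sp j K) ≫ ν) * (tpt D j χ ≫ D.i) * (gp j z ≫ D.u c) := by
  classical
  haveI := reductive_affine D
  haveI := reductive_smooth D
  haveI := isMonHom_i (D := D)
  haveI : ∀ c, IsMonHom (D.u c) := fun c => (D.rootHom c).1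
  haveI : Finite D.idx := Finite.of_fintype _
  haveI := D.maximalTorus.2.1
  set c' := D.P.reflectionPerm c c with hc'
  have hroot : D.P.root c' = -D.P.root c := Groth.L24.RootD.root_neg c
  have hc'n : c' ∈ RedSub.negRoots D.P b := by
    show -D.P.root c' ∈ AddSubmonoid.closure (D.P.root '' (b.support : Set D.idx))
    rw [hroot, neg_neg]; exact hc
  obtain ⟨n, eneg, hneg⟩ := exists_enum (D := D) (RedSub.negRoots D.P b)
  obtain ⟨m, epos, hpos⟩ := exists_enum (D := D) (RedSub.posRoots D.P b)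
  haveI := isOpenImmersion_cellMap hneg hpos
  haveI := isClosedImmersion_borelMap hpos
  obtain ⟨lam, hl⟩ := hasLam b
  obtain ⟨f, hfp, hfc, hfd⟩ := exists_fun_root b c
  obtain ⟨r, φ, a, hφ, hker, ha⟩ : ∃ (r : ℕ) (φ : D.M →+ (Fin r → ℤ)) (a : (Fin r → ℤ) →+ ℤ),
      Function.Surjective φ ∧ (∀ x, f x = 0 → φ x = 0) ∧ ∀ x, a (φ x) = f x := by
    rcases hfp with h | h
    · exact ⟨0, 0, 0, fun v => ⟨0, Subsingleton.elim _ _⟩, fun x _ => rfl, fun x => by simp [h]⟩
    · exact ⟨1, AddMonoidHom.mk' (fun x _ => f x) (fun a c => funext fun _ => map_add f a c),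
        Pi.evalAddMonoidHom (fun _ => ℤ) 0,
        fun v => (h (v 0)).imp fun x hx => funext fun i => by rw [Subsingleton.elim i 0]; exact hx,
        fun x hx => funext fun _ => hx, fun x => rfl⟩
  let GK := Red.bc (qK j K) G
  haveI : IsAffineHom GK.hom := MorphismProperty.pullback_snd _ _ ‹IsAffineHom G.hom›
  haveI : IsAffine GK.left := isAffine_of_isAffineHom GK.hom
  haveI : Smooth GK.hom := MorphismProperty.pullback_snd _ _ ‹Smooth G.hom›
  haveI : ConnectedSpace GK.left := ‹ConnectedSpace (Red.bc (qK j K) G).left›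
  let T' := Red.DS S (Fin r → ℤ)
  let emb : T' ⟶ G := Red.DSmap S φ ≫ D.split.inv.hom.hom ≫ D.i
  haveI : IsMonHom emb := inferInstanceAs (IsMonHom (Red.DSmap S φ ≫ D.split.inv.hom.hom ≫ D.i))
  haveI : Mono emb := by
    haveI : Mono (Red.DSmap S φ) := SplitSub.mono_DSmap φ hφ
    haveI : IsIso D.split.inv.hom.hom := ⟨D.split.hom.hom.hom, split_inv_hom, split_hom_inv⟩
    exact mono_comp _ _
  let embK : Red.bc (qK j K) T' ⟶ GK := (Over.pullback (qK j K)).map emb
  haveI : IsMonHom embK := isMonHom_bcMap (qK j K) emb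
  haveI : Mono embK := inferInstanceAs (Mono ((Over.pullback (qK j K)).map emb))
  have hT' : Red.IsTorus (Red.bc (qK j K) T') := Locus.isTorus_bc (Groth.L01.Unip.isTorus_DS S r) (qK j K)
  obtain ⟨Z, _, z, hz⟩ := Groth.L08.Borel.exists_centralizer_torus embK hT'
  obtain ⟨hzcl, hZaff, hZsm, hZcon, -, hcen⟩ := Groth.L08.Borel.centralizer_props hT' hz
  haveI := hzcl; haveI := hZaff; haveI := hZsm; haveI := hZcon; haveI := hz.1
  haveI := ConnIrred.irreducibleSpace Z
  -- fixed points belong to the centraliser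
  have hmem : ∀ g : Sp j K ⟶ G, (∀ (C' : Type u) [CommRing C'] [Algebra R C'] (h : K →ₐ[R] C') (u : C'ˣ),
      conjT D j (unitChar f u) (mor j h ≫ g) = mor j h ≫ g) → ∃ w, ptBC j K (w ≫ z) = g := by
    intro g hfix
    obtain ⟨w, hw⟩ : ∃ w, w ≫ z = NilAction.ofBase (qK j K) (unitTo j K ≫ g) := by
      refine (hz.2.2 _ _).2 fun X' x h => toBase_injective' (qK j K) ?_
      rw [NilAction.toBase_mul, NilAction.toBase_mul, show NilAction.toBase (qK j K) (h ≫ embK) =
        NilAction.toBase (qK j K) h ≫ emb from toBase_comp_map (qK j K) h emb]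
      let y : Over.mk (X'.hom ≫ qK j K) ⟶ Sp j K := Over.homMk X'.hom rfl
      have e1 : NilAction.toBase (qK j K) (x ≫ NilAction.ofBase (qK j K) (unitTo j K ≫ g)) = y ≫ g := by
        apply Over.OverMorphism.ext
        simp only [NilAction.toBase, NilAction.ofBase, Over.comp_left, Over.homMk_left, Category.assoc,
          pullback.lift_fst, unitTo, y]
        rw [show (x.left : X'.left ⟶ _) = X'.hom from (Category.comp_id _).symm.trans (Over.w x)]
        simp only [Category.id_comp]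
      rw [e1]
      exact commutes_of_fixed hfp g hfix hker y (NilAction.toBase (qK j K) h)
    exact ⟨w, by rw [hw]; exact (ptBC j K).apply_symm_apply g⟩
  have hfix_root : ∀ d, f (D.P.root d) = 0 → ∀ x : K, ∃ w, ptBC j K (w ≫ z) = gp j x ≫ D.u d := fun d hd x => by
    refine hmem _ fun C' _ _ h u => ?_
    rw [conjT, ← Category.assoc, mor_gp, conj_root j D.rootHom]
    simp [unitChar, hd]
  obtain ⟨wν, hwν⟩ := hmem (toUnit (Sp j K) ≫ ν) fun C' _ _ h u => by
    rw [conjT, ← Category.assoc, toUnit_unique (mor j h ≫ toUnit _) (toUnit _)]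
    have hr : reflChar c (unitChar f u) = unitChar f u := MonoidHom.ext fun k => by
      show ((u ^ f (D.P.reflection c k.toAdd) : C'ˣ) : C') = ((u ^ f k.toAdd : C'ˣ) : C')
      rw [RootPairing.reflection_apply, map_sub, map_zsmul, hfc, smul_zero, sub_zero]
    have h1 := hν R j C' (unitChar f u)
    rw [hr, mul_inv_eq_iff_eq_mul] at h1
    rw [mul_inv_eq_iff_eq_mul, h1]
  obtain ⟨wu, hwu⟩ := hfix_root c' (by rw [hroot, map_neg, hfc, neg_zero]) 1
  -- points of the centraliser in the cell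
  have hdec : ∀ w : 𝟙_ (Over (Spec (CommRingCat.of K))) ⟶ Z,
      (ptBC j K (w ≫ z)).left (IsLocalRing.closedPoint K) ∈ Set.range (RedSub.cellMap D eneg epos).left →
        ∃ (y₀ x₀ : K) (χ : Multiplicative D.M →* K),
          ptBC j K (w ≫ z) = (gp j y₀ ≫ D.u c') * ((tpt D j χ ≫ D.i) * (gp j x₀ ≫ D.u c)) := by
    intro w hw
    obtain ⟨t, ht⟩ := exists_cell_of_range hneg hpos _ hw
    obtain ⟨χ, yy, xx, e, -⟩ := exists_coords t hneg.1 hpos.1
    rw [ht] at e
    have hfix : ∀ u : Kˣ, conjT D j (unitChar f u) (ptBC j K (w ≫ z)) = ptBC j K (w ≫ z) := fun u => by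
      let τ : Multiplicative (Fin r → ℤ) →* K :=
        { toFun := fun v => ((u ^ a v.toAdd : Kˣ) : K)
          map_one' := by simp
          map_mul' := fun v v' => by simp [toAdd_mul, map_add, zpow_add] }
      let s₀ : Sp j K ⟶ T' := DSPts.pt ((Scheme.ΓSpecIso (CommRingCat.of K)).inv.hom.toMonoidHom.comp τ)
      have hs₀ : s₀ ≫ emb = tpt D j (unitChar f u) ≫ D.i := by
        rw [show emb = Red.DSmap S φ ≫ D.split.inv.hom.hom ≫ D.i from rfl, tpt, ← Category.assoc s₀,
          ← Category.assoc _ D.split.inv.hom.hom D.i]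
        congr 2
        refine DSPts.char_injective (MonoidHom.ext fun v => ?_)
        rw [SplitSub.char_DSmap, DSPts.char_pt, DSPts.char_pt]
        exact congrArg (fun k => (Scheme.ΓSpecIso (CommRingCat.of K)).inv ((u ^ k : Kˣ) : K)) (ha v.toAdd)
      have h1 := congrArg (ptHom j K G) (hcen _ w ((ptBC j K).symm s₀))
      rw [map_mul, map_mul] at h1
      simp only [ptHom, MonoidHom.coe_mk, OneHom.coe_mk, embK] at h1
      rw [ptBC_comp (x := (ptBC j K).symm s₀), Equiv.apply_symm_apply, hs₀] at h1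
      rw [conjT, mul_inv_eq_iff_eq_mul]
      exact h1.symm
    rw [e] at hfix
    have hzero : ∀ d, d ≠ c → d ≠ c' →
        (d ∈ List.ofFn eneg → yy d = 0) ∧ (d ∈ List.ofFn epos → xx d = 0) := fun d h1 h2 => by
      obtain ⟨u, hu⟩ := exists_unit_zpow_ne_one (K := K)
        (hfd d h1 fun h => h2 (D.P.root.injective (h.trans hroot.symm)))
      have h := hfix u
      rw [conjT_cell] at h
      obtain ⟨-, hy', hx'⟩ := cell_injective D.rootHom (mu := lam) (nodup_list hneg) (nodup_list hpos)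
        (fun e he => (hl e).2 ((mem_list_iff hneg e).1 he)) (fun e he => (hl e).1 ((mem_list_iff hpos e).1 he)) h
      refine ⟨fun hd => ?_, fun hd => ?_⟩
      · by_contra h0
        exact hu (mul_right_cancel₀ h0 ((hy' d hd).trans (_root_.one_mul _).symm))
      · by_contra h0
        exact hu (mul_right_cancel₀ h0 ((hx' d hd).trans (_root_.one_mul _).symm))
    refine ⟨yy c', xx c, χ, ?_⟩
    rw [e, rootProd_eq_single (nodup_list hneg) ((mem_list_iff hneg c').2 hc'n) fun d hd h =>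
        (hzero d (fun hdc => ?_) h).1 hd,
      rootProd_eq_single (nodup_list hpos) ((mem_list_iff hpos c).2 hc) fun d hd h =>
        (hzero d h (fun hdc => ?_)).2 hd]
    · have h1 := (hl c').2 hc'n
      have h2 := (hl d).1 ((mem_list_iff hpos d).1 hd)
      subst hdc; omega
    · have h1 := (hl c).1 hc
      have h2 := (hl d).2 ((mem_list_iff hneg d).1 hd)
      subst hdc; omega
  have hbor : ∀ (χ : Multiplicative D.M →* K) (x₀ : K), ∃ t : Sp j K ⟶ D.T ⊗ RedSub.pow (Red.Ga S) m,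
      t ≫ RedSub.borelMap D epos = (tpt D j χ ≫ D.i) * (gp j x₀ ≫ D.u c) := fun χ x₀ => by
    refine ⟨_, (lift_borelMap χ (Pi.single c x₀)).trans ?_⟩
    rw [rootProd_single j (x := Pi.single c x₀) (nodup_list hpos) ((mem_list_iff hpos c).2 hc)
      fun d hd => Pi.single_eq_of_ne hd _, Pi.single_eq_same]
  -- the open set
  let π : Z.left ⟶ G.left := z.left ≫ pullback.fst G.hom (qK j K)
  have hπ : ∀ w, π (ptOf w) = (ptBC j K (w ≫ z)).left (IsLocalRing.closedPoint K) := fun w => by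
    rw [ptBC_closedPoint, show π (ptOf w) = (pullback.fst G.hom (qK j K)) (z.left (ptOf w)) from
      Scheme.Hom.comp_apply _ _ _]
    rfl
  let W : Set Z.left := π ⁻¹' Set.range (RedSub.cellMap D eneg epos).left
  have hW : IsOpen W := (RedSub.cellMap D eneg epos).left.isOpenEmbedding.isOpen_range.preimage (Scheme.Hom.continuous _)
  let N : Set Z.left := (π ⁻¹' Set.range (RedSub.borelMap D epos).left)ᶜ
  have hN : IsOpen N := ((RedSub.borelMap D epos).left.isClosedEmbedding.isClosed_range.preimage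
    (Scheme.Hom.continuous _)).isOpen_compl
  let tr : Z ⟶ Z := (toUnit Z ≫ wν⁻¹) * 𝟙 Z
  have htr : ∀ w : 𝟙_ (Over (Spec (CommRingCat.of K))) ⟶ Z, w ≫ tr = wν⁻¹ * w := fun w => by
    rw [MonObj.comp_mul, ← Category.assoc, toUnit_unique (w ≫ toUnit Z) (𝟙 _), Category.id_comp, Category.comp_id]
  have hW1 : ptOf (1 : 𝟙_ (Over (Spec (CommRingCat.of K))) ⟶ Z) ∈ W := by
    show π (ptOf _) ∈ Set.range (RedSub.cellMap D eneg epos).left
    have h := lift_cellMap (j := j) (eneg := eneg) (epos := epos) (1 : Multiplicative D.M →* K) 0 0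
    rw [tpt_one, MonObj.one_comp, rootProd_eq_one j (x := (0 : D.idx → K)) fun _ _ => rfl,
      rootProd_eq_one j (x := (0 : D.idx → K)) fun _ _ => rfl, _root_.one_mul, _root_.one_mul] at h
    rw [hπ, MonObj.one_comp, show ptBC j K (1 : _ ⟶ Red.bc (qK j K) G) = 1 from map_one (ptHom j K G), ← h,
      Over.comp_left, Scheme.Hom.comp_apply]
    exact Set.mem_range_self _
  have hWt : ptOf wν ∈ tr.left ⁻¹' W := by
    show tr.left (wν.left (IsLocalRing.closedPoint K)) ∈ W
    rw [← Scheme.Hom.comp_apply, ← Over.comp_left, htr, inv_mul_cancel]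
    exact hW1
  have hNu : ptOf wu ∈ N := by
    intro hmem'
    rw [Set.mem_preimage, hπ, hwu] at hmem'
    haveI : IsReduced (Sp j K).left := inferInstanceAs (IsReduced (Spec (CommRingCat.of K)))
    obtain ⟨t, ht⟩ := Groth.L19.AlgGrpBasic.exists_lift_of_range (RedSub.borelMap D epos) (gp j (1 : K) ≫ D.u c') (by
      rintro _ ⟨p, rfl⟩
      rw [show p = IsLocalRing.closedPoint K from Subsingleton.elim (α := PrimeSpectrum K) _ _]
      exact hmem')
    obtain ⟨χ, xx, e, -⟩ := exists_borel_coords t hpos.1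
    rw [ht] at e
    have e2 : rootProd j D.u (List.ofFn eneg) (Pi.single c' (1 : K)) *
        ((tpt D j 1 ≫ D.i) * rootProd j D.u (List.ofFn epos) (0 : D.idx → K)) =
        rootProd j D.u (List.ofFn eneg) (0 : D.idx → K) * ((tpt D j χ ≫ D.i) * rootProd j D.u (List.ofFn epos) xx) := by
      rw [rootProd_single j (x := Pi.single c' (1 : K)) (nodup_list hneg) ((mem_list_iff hneg c').2 hc'n)
        fun d hd => Pi.single_eq_of_ne hd _, Pi.single_eq_same, tpt_one, MonObj.one_comp,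
        rootProd_eq_one j (x := (0 : D.idx → K)) fun _ _ => rfl,
        rootProd_eq_one j (x := (0 : D.idx → K)) fun _ _ => rfl, _root_.one_mul, _root_.mul_one, e, _root_.one_mul]
    have := (cell_injective D.rootHom (mu := lam) (nodup_list hneg) (nodup_list hpos)
      (fun e he => (hl e).2 ((mem_list_iff hneg e).1 he)) (fun e he => (hl e).1 ((mem_list_iff hpos e).1 he))
      e2).2.1 c' ((mem_list_iff hneg c').2 hc'n)
    rw [Pi.single_eq_same] at this
    exact one_ne_zero this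
  obtain ⟨p₁, hp₁⟩ := nonempty_preirreducible_inter (hW.inter (hW.preimage (Scheme.Hom.continuous tr.left))) hN
    (nonempty_preirreducible_inter hW (hW.preimage (Scheme.Hom.continuous _)) ⟨_, hW1⟩ ⟨_, hWt⟩) ⟨_, hNu⟩
  obtain ⟨w, ⟨hw1, hw2⟩, hw3⟩ := exists_pt_mem (X := Z)
    ((hW.inter (hW.preimage (Scheme.Hom.continuous tr.left))).inter hN).isLocallyClosed ⟨p₁, hp₁⟩
  obtain ⟨y₀, x₀, χ₀, e₀⟩ := hdec w (by rw [← hπ]; exact hw1)
  have hy₀ : y₀ ≠ 0 := fun h => hw3 (by
    show π (ptOf _) ∈ Set.range (RedSub.borelMap D epos).left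
    obtain ⟨t, ht⟩ := hbor χ₀ x₀
    rw [hπ, e₀, h, gp_zero, MonObj.one_comp, _root_.one_mul, ← ht, Over.comp_left, Scheme.Hom.comp_apply]
    exact Set.mem_range_self _)
  obtain ⟨y₁, x₁, χ₁, e₁⟩ := hdec (wν⁻¹ * w) (by
    rw [← hπ, show ptOf (wν⁻¹ * w) = tr.left (ptOf w) by rw [← htr]; rfl]
    exact hw2)
  obtain ⟨s, hs⟩ := exists_conj_scale (j := j) b hν c'
  rw [hc', D.P.reflectionPerm_self] at hs
  -- the relation for one non-zero scalar
  let V := toUnit (Sp j K) ≫ ν
  have hg : ptBC j K ((wν⁻¹ * w) ≫ z) = V⁻¹ * ptBC j K (w ≫ z) := by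
    rw [MonObj.mul_comp, GrpObj.inv_comp,
      show ptBC j K ((wν ≫ z)⁻¹ * w ≫ z) = (ptHom j K G (wν ≫ z))⁻¹ * ptHom j K G (w ≫ z) by
        rw [← map_inv, ← map_mul]; rfl,
      show ptHom j K G (wν ≫ z) = V from hwν]
    rfl
  rw [hg, e₀, inv_mul_eq_iff_eq_mul] at e₁
  have hV : V * (gp j y₁ ≫ D.u c') = (gp j (algebraMap R K (s : R) * y₁) ≫ D.u c) * V := by
    simp only [V]
    rw [← hs K y₁, ← hc']
    group
  let d := χ₀ (Multiplicative.ofAdd (D.P.root c)) * (x₁ - x₀)
  let χi : Multiplicative D.M →* K := χ₀.comp invMonoidHom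
  have hi : tpt D j χi ≫ D.i = (tpt D j χ₀ ≫ D.i)⁻¹ := by
    rw [eq_inv_iff_mul_eq_one, ← MonObj.mul_comp, ← tpt_mul, show χi * χ₀ = 1 from MonoidHom.ext fun k => by
      show χ₀ k⁻¹ * χ₀ k = 1
      rw [← map_mul, inv_mul_cancel, map_one], tpt_one, MonObj.one_comp]
  have hbase : gp j y₀ ≫ D.u c' = (gp j (algebraMap R K (s : R) * y₁) ≫ D.u c) * V * (tpt D j (χ₁ * χi) ≫ D.i) *
      (gp j d ≫ D.u c) := by
    calc gp j y₀ ≫ D.u c' = (gp j y₀ ≫ D.u c') * ((tpt D j χ₀ ≫ D.i) * (gp j x₀ ≫ D.u c)) *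
          (gp j x₀ ≫ D.u c)⁻¹ * (tpt D j χ₀ ≫ D.i)⁻¹ := by group
      _ = (V * (gp j y₁ ≫ D.u c')) * (tpt D j χ₁ ≫ D.i) * ((gp j x₁ ≫ D.u c) * (gp j x₀ ≫ D.u c)⁻¹) *
          (tpt D j χ₀ ≫ D.i)⁻¹ := by rw [e₁]; group
      _ = _ := by
        have hsub : (gp j x₁ ≫ D.u c) * (gp j x₀ ≫ D.u c)⁻¹ = gp j (x₁ - x₀) ≫ D.u c := by
          haveI : IsMonHom (D.u c) := (D.rootHom c).1
          rw [mul_inv_eq_iff_eq_mul, ← MonObj.mul_comp, ← gp_add, sub_add_cancel]
        rw [hV, hsub, tpt_mul, MonObj.mul_comp,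
          hi, show gp j d ≫ D.u c = (tpt D j χ₀ ≫ D.i) * (gp j (x₁ - x₀) ≫ D.u c) * (tpt D j χ₀ ≫ D.i)⁻¹ from
            (conj_root j D.rootHom χ₀ c (x₁ - x₀)).symm]
        group
  -- scaling
  obtain ⟨τ, hτ⟩ := exists_char_eq (D := D) c' (div_ne_zero hy hy₀)
  let τi : Multiplicative D.M →* K := τ.comp invMonoidHom
  have hτi : tpt D j τi ≫ D.i = (tpt D j τ ≫ D.i)⁻¹ := by
    rw [eq_inv_iff_mul_eq_one, ← MonObj.mul_comp, ← tpt_mul, show τi * τ = 1 from MonoidHom.ext fun k => by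
      show τ k⁻¹ * τ k = 1
      rw [← map_mul, inv_mul_cancel, map_one], tpt_one, MonObj.one_comp]
  refine ⟨τ (Multiplicative.ofAdd (D.P.root c)) * (algebraMap R K (s : R) * y₁),
    τ (Multiplicative.ofAdd (D.P.root c)) * d, reflChar c τ * (χ₁ * χi) * τi, ?_⟩
  have hmid : (tpt D j τ ≫ D.i) * V = V * (tpt D j (reflChar c τ) ≫ D.i) := by
    have h := hν R j K (reflChar c τ)
    rw [reflChar_reflChar] at h
    simp only [V]
    rw [← h]
    group
  have e2 : tpt D j (reflChar c τ * (χ₁ * χi) * τi) ≫ D.i =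
      (tpt D j (reflChar c τ) ≫ D.i) * (tpt D j (χ₁ * χi) ≫ D.i) * (tpt D j τ ≫ D.i)⁻¹ := by
    rw [tpt_mul j (reflChar c τ * (χ₁ * χi)) τi, tpt_mul j (reflChar c τ) (χ₁ * χi), MonObj.mul_comp,
      MonObj.mul_comp, hτi]
  rw [show gp j y ≫ D.u c' = (tpt D j τ ≫ D.i) * (gp j y₀ ≫ D.u c') * (tpt D j τ ≫ D.i)⁻¹ by
      rw [conj_root j D.rootHom, hτ, div_mul_cancel₀ _ hy₀], hbase, e2,
    ← conj_root j D.rootHom τ c d, ← conj_root j D.rootHom τ c (algebraMap R K (s : R) * y₁)]
  calc _ = ((tpt D j τ ≫ D.i) * (gp j (algebraMap R K (s : R) * y₁) ≫ D.u c) * (tpt D j τ ≫ D.i)⁻¹) *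
        ((tpt D j τ ≫ D.i) * V) * (tpt D j (χ₁ * χi) ≫ D.i) * (tpt D j τ ≫ D.i)⁻¹ *
        ((tpt D j τ ≫ D.i) * (gp j d ≫ D.u c) * (tpt D j τ ≫ D.i)⁻¹) := by group
    _ = _ := by rw [hmid]; group; rfl

end Groth.L14.Chev.Cell
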