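import Groth.Agent.L14.Chev.Cell.HatSimple
import Groth.Agent.L14.Chev.Cell.Generated

/-!
Products of simple root sections translate the big cell over the whole group.
-/

set_option autoImplicit false
universe u

open CategoryTheory CategoryTheory.Limits AlgebraicGeometry MonoidalCategory CartesianMonoidalCategory MonObj
open Groth.L14.RankOne Groth.L25 Groth.L14.Chart

set_option backward.isDefEq.respectTransparency.types false
set_option linter.style.haveILetI false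
set_option linter.unusedSectionVars false
set_option maxHeartbeats 1000000

noncomputable section

namespace Groth.L14.Chev.Cell

variable {S : Scheme.{u}} {G : Over S} [GrpObj G] {D : Red.SplitRed G}
  {R : Type u} [CommRing R] {j : Spec (CommRingCat.of R) ⟶ S} [IsOpenImmersion j]
  {K : Type u} [Field K] [IsAlgClosed K] [Algebra R K]

variable (j K D) in
/-- Points of the form opposite root point, torus point, root point. -/
def Cell₁ (a : D.idx) : Set (Sp j K ⟶ G) :=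
  {g | ∃ (m r : K) (χ : Multiplicative D.M →* K),
    g = (gp j m ≫ D.u (D.P.reflectionPerm a a)) * (tpt D j χ ≫ D.i) * (gp j r ≫ D.u a)}

theorem cell₁_mul {a : D.idx} {g : Sp j K ⟶ G} (hg : g ∈ Cell₁ D j K a) (χ : Multiplicative D.M →* K) (r : K) :
    g * ((tpt D j χ ≫ D.i) * (gp j r ≫ D.u a)) ∈ Cell₁ D j K a := by
  haveI : IsMonHom (D.u a) := (D.rootHom a).1
  haveI := isMonHom_i (D := D)
  obtain ⟨m, r', ψ, rfl⟩ := hg
  refine ⟨m, (χ.comp invMonoidHom) (Multiplicative.ofAdd (D.P.root a)) * r' + r, ψ * χ, ?_⟩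
  rw [gp_add, MonObj.mul_comp, ← conj_root j D.rootHom, tpt_inv, tpt_mul, MonObj.mul_comp]
  group

theorem mul_cell₁ {a : D.idx} {g : Sp j K ⟶ G} (hg : g ∈ Cell₁ D j K a) (m : K) :
    (gp j m ≫ D.u (D.P.reflectionPerm a a)) * g ∈ Cell₁ D j K a := by
  haveI : IsMonHom (D.u (D.P.reflectionPerm a a)) := (D.rootHom _).1
  obtain ⟨m', r', ψ, rfl⟩ := hg
  refine ⟨m + m', r', ψ, ?_⟩
  rw [gp_add, MonObj.mul_comp]
  simp only [_root_.mul_assoc]

theorem one_mem_cell₁ (a : D.idx) : (1 : Sp j K ⟶ G) ∈ Cell₁ D j K a := by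
  haveI : ∀ c, IsMonHom (D.u c) := fun c => (D.rootHom c).1
  haveI := isMonHom_i (D := D)
  exact ⟨0, 0, 1, by simp [gp_zero, tpt_one, MonObj.one_comp]⟩

theorem tpt_cell₁ {a : D.idx} (χ : Multiplicative D.M →* K) {g : Sp j K ⟶ G} (hg : g ∈ Cell₁ D j K a) :
    (tpt D j χ ≫ D.i) * g ∈ Cell₁ D j K a := by
  haveI := isMonHom_i (D := D)
  obtain ⟨m, r, ψ, rfl⟩ := hg
  refine ⟨χ (Multiplicative.ofAdd (D.P.root (D.P.reflectionPerm a a))) * m, r, χ * ψ, ?_⟩
  rw [← conj_root j D.rootHom, tpt_mul, MonObj.mul_comp]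
  group

/-- The points of the rank one group lie in the cell or in its translate. -/
theorem rankOne_cases (b : D.P.Base) {a : D.idx} (ha : a ∈ b.support) (p r s : K) {e : K} (he : e ≠ 0) :
    (gp j p ≫ D.u (D.P.reflectionPerm a a)) * (gp j r ≫ D.u a) * (gp j s ≫ D.u (D.P.reflectionPerm a a)) ∈
        Cell₁ D j K a ∨
      ∃ w ∈ Cell₁ D j K a,
        (gp j p ≫ D.u (D.P.reflectionPerm a a)) * (gp j r ≫ D.u a) * (gp j s ≫ D.u (D.P.reflectionPerm a a)) =
          (gp j e ≫ D.u a) * w := by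
  classical
  haveI : ∀ c, IsMonHom (D.u c) := fun c => (D.rootHom c).1
  haveI := isMonHom_i (D := D)
  haveI : Finite D.idx := Finite.of_fintype _
  haveI := connectedSpace_fibre D (qK j K)
  have hapos := simple_pos D.P b ha
  choose nr hnr using D.refl
  have hn : ∀ a, ActsBy (nr a) a := fun a => actsBy_of_refl (hnr a)
  set a' := D.P.reflectionPerm a a with ha'
  let V := toUnit (Sp j K) ≫ nr a
  have hV : ∀ χ : Multiplicative D.M →* K,
      V * (tpt D j χ ≫ D.i) = (tpt D j (reflChar a χ) ≫ D.i) * V := fun χ => by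
    have := hn a R j K χ
    rw [mul_inv_eq_iff_eq_mul] at this
    exact this
  by_cases hs : s = 0
  · left
    rw [hs, gp_zero, MonObj.one_comp, _root_.mul_one]
    exact ⟨p, r, 1, by rw [tpt_one, MonObj.one_comp, _root_.mul_one]⟩
  -- a fixed relation
  obtain ⟨x₀, z₀, τ₀, h₀⟩ := exists_swap (j := j) b hapos (hn a) (y := (1 : K)) one_ne_zero
  have hx₀ : x₀ ≠ 0 := by
    intro h
    rw [h, gp_zero, MonObj.one_comp, _root_.one_mul] at h₀
    obtain ⟨lv, hF⟩ := exists_filt_pos (D := D) b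
    obtain ⟨lvn, hFn⟩ := exists_filt_neg (D := D) b
    have hw : wpt j K nr [a] = V := by rw [wpt_cons, wpt_nil, _root_.mul_one]
    have h1 := wordPerm_eq_of_mem (j := j) (K := K) hF hn [a] [] hFn (v := gp j (-1 : K) ≫ D.u a')
      (gp_mem_gen (neg_simple_neg b ha) (Nat.zero_le _) _) (by
        rw [wpt_nil, inv_one, _root_.one_mul, hw, gp_neg, GrpObj.inv_comp, h₀]
        rw [show (V * (tpt D j τ₀ ≫ D.i) * (gp j z₀ ≫ D.u a))⁻¹ * V =
          ((tpt D j τ₀ ≫ D.i) * (gp j z₀ ≫ D.u a))⁻¹ by group]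
        exact borelPts_inv (borelPts_mul (tpt_mem_borelPts _) (gp_mem_borelPts hapos _)))
    have h2 := congrArg (fun σ : Equiv.Perm D.idx => σ a) h1
    simp [RedSub.wordPerm] at h2
    exact neg_simple_not_pos b ha (h2.symm ▸ hapos)
  have hN : ∀ c : K, c ≠ 0 → (gp j c ≫ D.u a) * V ∈ Cell₁ D j K a := by
    intro c hc
    obtain ⟨τ, hτ⟩ := exists_char_eq (D := D) a (div_ne_zero hc hx₀)
    have e1 : (gp j x₀ ≫ D.u a) * V = (gp j (1 : K) ≫ D.u a') * ((gp j z₀ ≫ D.u a)⁻¹ * (tpt D j τ₀ ≫ D.i)⁻¹) := by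
      rw [h₀]; simp only [V]; group
    have h2 : (gp j x₀ ≫ D.u a) * V ∈ Cell₁ D j K a := by
      rw [e1]
      refine ⟨1, τ₀ (Multiplicative.ofAdd (D.P.root a)) * -z₀, τ₀.comp invMonoidHom, ?_⟩
      rw [show (gp j z₀ ≫ D.u a)⁻¹ = gp j (-z₀) ≫ D.u a by rw [gp_neg, GrpObj.inv_comp], tpt_inv,
        ← conj_root j D.rootHom]
      simp only [a']
      group
    have h3 := cell₁_mul (tpt_cell₁ τ h2) (reflChar a (τ.comp invMonoidHom)) 0
    rw [gp_zero, MonObj.one_comp, _root_.mul_one] at h3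
    have h4 : (tpt D j τ ≫ D.i) * ((gp j x₀ ≫ D.u a) * V) * (tpt D j (reflChar a (τ.comp invMonoidHom)) ≫ D.i) =
        (gp j c ≫ D.u a) * V := by
      rw [_root_.mul_assoc, _root_.mul_assoc, hV, reflChar_reflChar, tpt_inv,
        show gp j c ≫ D.u a = (tpt D j τ ≫ D.i) * (gp j x₀ ≫ D.u a) * (tpt D j τ ≫ D.i)⁻¹ by
          rw [conj_root j D.rootHom, hτ, div_mul_cancel₀ _ hx₀]]
      group
    rwa [h4] at h3
  obtain ⟨x₁, z₁, τ₁, h₁⟩ := exists_swap (j := j) b hapos (hn a) hs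
  by_cases hc : r + x₁ = 0
  · right
    obtain ⟨w, hw⟩ := exists_conj_scale (j := j) b (hn a) a
    have hK : IsUnit (algebraMap R K (w : R)) := (Units.isUnit w).map _
    refine ⟨((gp j (-e) ≫ D.u a) * V) * ((gp j (p / algebraMap R K (w : R)) ≫ D.u a) * (tpt D j τ₁ ≫ D.i) *
      (gp j z₁ ≫ D.u a)), ?_, ?_⟩
    · obtain ⟨m, r', ψ, hm⟩ := hN (-e) (neg_ne_zero.2 he)
      rw [hm]
      refine ⟨m, (τ₁.comp invMonoidHom) (Multiplicative.ofAdd (D.P.root a)) * (r' + p / algebraMap R K (w : R)) + z₁,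
        ψ * τ₁, ?_⟩
      rw [gp_add, MonObj.mul_comp, ← conj_root j D.rootHom, tpt_inv, gp_add, MonObj.mul_comp, tpt_mul,
        MonObj.mul_comp]
      group
    · rw [show r = -x₁ from eq_neg_of_add_eq_zero_left hc, h₁, gp_neg, GrpObj.inv_comp,
        show p = algebraMap R K (w : R) * (p / algebraMap R K (w : R)) from (mul_div_cancel₀ _ hK.ne_zero).symm,
        ← hw K, gp_neg, GrpObj.inv_comp, ← mul_div_assoc, mul_div_cancel_left₀ _ hK.ne_zero]
      simp only [V]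
      group
  · left
    have e2 : (gp j p ≫ D.u a') * (gp j r ≫ D.u a) * (gp j s ≫ D.u a') =
        (gp j p ≫ D.u a') * (((gp j (r + x₁) ≫ D.u a) * V) * ((tpt D j τ₁ ≫ D.i) * (gp j z₁ ≫ D.u a))) := by
      rw [h₁, gp_add, MonObj.mul_comp]
      simp only [V]
      group
    rw [e2]
    exact mul_cell₁ (cell₁_mul (hN _ hc) _ _) _

variable (j K D) in
/-- Points of the big cell. -/
def CellPts (b : D.P.Base) (lvn lv : D.idx → ℕ) : Set (Sp j K ⟶ G) :=
  {g | ∃ y ∈ gen j K D.u (RedSub.negRoots D.P b) lvn 0, ∃ q ∈ borelPts D b j K lv, g = y * q}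

variable {b : D.P.Base} {lvn lv : D.idx → ℕ}

theorem cellPts_mul {g : Sp j K ⟶ G} (hg : g ∈ CellPts D j K b lvn lv) {q : Sp j K ⟶ G}
    (hq : q ∈ borelPts D b j K lv) : g * q ∈ CellPts D j K b lvn lv := by
  obtain ⟨y, hy, q', hq', rfl⟩ := hg
  exact ⟨y, hy, q' * q, borelPts_mul hq' hq, _root_.mul_assoc _ _ _⟩

theorem mem_cellPts_iff {n m : ℕ} {eneg : Fin n → D.idx} {epos : Fin m → D.idx}
    (hneg : RedSub.Enumerates (RedSub.negRoots D.P b) eneg) (hpos : RedSub.Enumerates (RedSub.posRoots D.P b) epos)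
    (hFn : Filt D (RedSub.negRoots D.P b) lvn) (hF : Filt D (RedSub.posRoots D.P b) lv) {g : Sp j K ⟶ G} :
    g ∈ CellPts D j K b lvn lv ↔ ∃ t : Sp j K ⟶ cellSpace D n m, t ≫ RedSub.cellMap D eneg epos = g := by
  constructor
  · rintro ⟨y, hy, q, ⟨χ, u, hu, rfl⟩, rfl⟩
    obtain ⟨y', rfl⟩ := (mem_gen_iff D.rootHom hFn (nodup_list hneg) (mem_list_iff hneg)).1 hy
    obtain ⟨x', rfl⟩ := (mem_gen_iff D.rootHom hF (nodup_list hpos) (mem_list_iff hpos)).1 hu
    exact ⟨_, lift_cellMap χ y' x'⟩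
  · rintro ⟨t, rfl⟩
    obtain ⟨χ, y, x, e, -⟩ := exists_coords t hneg.1 hpos.1
    exact ⟨_, rootProd_mem_gen D.rootHom (fun c hc _ => ⟨(mem_list_iff hneg c).1 hc, Nat.zero_le _⟩), _,
      ⟨χ, _, rootProd_mem_gen D.rootHom (fun c hc _ => ⟨(mem_list_iff hpos c).1 hc, Nat.zero_le _⟩), rfl⟩, e⟩

/-- Root products split off the simple root. -/
theorem exists_hat_split {a : D.idx} (ha : a ∈ b.support) (hF : Filt D (RedSub.posRoots D.P b) lv) {u : Sp j K ⟶ G}
    (hu : u ∈ gen j K D.u (RedSub.posRoots D.P b) lv 0) :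
    ∃ h ∈ hat D j K b a, ∃ r : K, u = h * (gp j r ≫ D.u a) := by
  classical
  haveI : Finite D.idx := Finite.of_fintype _
  obtain ⟨m, epos, hpos⟩ := exists_enum (D := D) (RedSub.posRoots D.P b)
  let L₁ := (List.ofFn epos).erase a
  have hL₁ : ∀ c, c ∈ L₁ ↔ c ≠ a ∧ c ∈ RedSub.posRoots D.P b := fun c => by
    rw [(nodup_list hpos).mem_erase_iff, mem_list_iff hpos]
  have hnd : (L₁ ++ [a]).Nodup := List.nodup_append.2 ⟨(nodup_list hpos).erase a, List.nodup_singleton a,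
    fun c hc d hd e => ((hL₁ c).1 hc).1 (e.trans (List.mem_singleton.1 hd))⟩
  have hL : ∀ c, c ∈ L₁ ++ [a] ↔ c ∈ RedSub.posRoots D.P b := fun c => by
    rw [List.mem_append, List.mem_singleton, hL₁]
    by_cases hca : c = a
    · subst hca; exact ⟨fun _ => simple_pos D.P b ha, fun _ => Or.inr rfl⟩
    · simp [hca]
  obtain ⟨z, rfl⟩ := (mem_gen_iff D.rootHom hF hnd hL).1 hu
  exact ⟨_, rootProd_mem_hat (fun c hc => ((hL₁ c).1 hc).symm) z, z a, by
    simp [rootProd, List.map_append, List.prod_append]⟩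

theorem neg_simple_mem_negBase {a : D.idx} (ha : a ∈ b.support) :
    D.P.reflectionPerm a a ∈ (negBase D.P b).support := by
  rw [mem_negBase_support, show D.P.reflectionPerm (D.P.reflectionPerm a a) (D.P.reflectionPerm a a) = a from
    D.P.root.injective (by rw [root_neg', root_neg', neg_neg])]
  exact ha

/-- The big cell times an opposite simple root point lies in the big cell or in its translate. -/
theorem cellPts_mul_negSimple {a : D.idx} (ha : a ∈ b.support) (hFn : Filt D (RedSub.negRoots D.P b) lvn)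
    (hF : Filt D (RedSub.posRoots D.P b) lv) {g : Sp j K ⟶ G} (hg : g ∈ CellPts D j K b lvn lv) (s : K) {e : K}
    (he : e ≠ 0) :
    g * (gp j s ≫ D.u (D.P.reflectionPerm a a)) ∈ CellPts D j K b lvn lv ∨
      ∃ w ∈ CellPts D j K b lvn lv, g * (gp j s ≫ D.u (D.P.reflectionPerm a a)) = (gp j e ≫ D.u a) * w := by
  haveI : ∀ c, IsMonHom (D.u c) := fun c => (D.rootHom c).1
  haveI := isMonHom_i (D := D)
  haveI : Finite D.idx := Finite.of_fintype _
  set a' := D.P.reflectionPerm a a with ha'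
  have hb' : RedSub.posRoots D.P (negBase D.P b) = RedSub.negRoots D.P b := posRoots_negBase D.P b
  have haa : D.P.reflectionPerm a' a' = a := D.P.root.injective (by rw [root_neg', root_neg', neg_neg])
  obtain ⟨y, hy, q, ⟨χ, u, hu, rfl⟩, rfl⟩ := hg
  -- move the torus to the left
  have hy' := conjT_mem_gen (χ.comp invMonoidHom) hy
  obtain ⟨h₂, hh₂, p, hp⟩ := exists_hat_split (b := negBase D.P b) (lv := lvn) (neg_simple_mem_negBase ha)
    (by rw [hb']; exact hFn) (u := conjT D j (χ.comp invMonoidHom) y) (by rw [hb']; exact hy')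
  obtain ⟨h₁, hh₁, r, rfl⟩ := exists_hat_split ha hF hu
  have hh₁' := gp_conj_hat' b ha hh₁ p
  set k₁ := (gp j p ≫ D.u a') * h₁ * (gp j p ≫ D.u a')⁻¹ with hk₁
  have eg : y * ((tpt D j χ ≫ D.i) * (h₁ * (gp j r ≫ D.u a))) * (gp j s ≫ D.u a') =
      (tpt D j χ ≫ D.i) * h₂ * k₁ * ((gp j p ≫ D.u a') * (gp j r ≫ D.u a) * (gp j s ≫ D.u a')) := by
    rw [show y = (tpt D j χ ≫ D.i) * conjT D j (χ.comp invMonoidHom) y * (tpt D j χ ≫ D.i)⁻¹ by
      simp only [conjT, tpt_inv]; group, hp, hk₁]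
    simp only [a']
    group
  -- absorb into the cell
  have habs : ∀ (φ : Multiplicative D.M →* K) (h₂ : Sp j K ⟶ G), h₂ ∈ hat D j K (negBase D.P b) a' →
      ∀ k₁ ∈ hat D j K b a, ∀ w ∈ Cell₁ D j K a, (tpt D j φ ≫ D.i) * h₂ * k₁ * w ∈ CellPts D j K b lvn lv := by
    intro φ h₂ hh₂ k₁ hk₁ w hw
    obtain ⟨m, r', ψ, rfl⟩ := hw
    have hk₁' := hat_le_gen b a lv (gp_conj_hat' b ha hk₁ (-m))
    have hh₂' := hat_le_gen (negBase D.P b) a' lvn hh₂
    rw [hb'] at hh₂'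
    refine ⟨conjT D j φ (h₂ * (gp j m ≫ D.u a')),
      conjT_mem_gen φ (mul_mem hh₂' (gp_mem_gen (neg_simple_neg b ha) (Nat.zero_le _) m)),
      (tpt D j φ ≫ D.i) * ((gp j (-m) ≫ D.u a') * k₁ * (gp j (-m) ≫ D.u a')⁻¹) *
        ((tpt D j ψ ≫ D.i) * (gp j r' ≫ D.u a)),
      borelPts_mul (borelPts_mul (tpt_mem_borelPts φ) (mem_borelPts_of_gen hk₁'))
        (borelPts_mul (tpt_mem_borelPts ψ) (gp_mem_borelPts (simple_pos D.P b ha) r')), ?_⟩
    simp only [conjT, gp_neg, GrpObj.inv_comp, _root_.inv_inv, a']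
    group
  rw [eg]
  have hχ0 : χ (Multiplicative.ofAdd (D.P.root a)) ≠ 0 := IsUnit.ne_zero ((Group.isUnit _).map χ)
  set e' := e / χ (Multiplicative.ofAdd (D.P.root a)) with he'
  rcases rankOne_cases (j := j) b ha p r s (div_ne_zero he hχ0) with hM | ⟨w, hw, hM⟩
  · exact Or.inl (habs χ h₂ hh₂ k₁ hh₁' _ hM)
  · right
    rw [← he'] at hM
    have hh₂' : (gp j (-e') ≫ D.u a) * h₂ * (gp j (-e') ≫ D.u a)⁻¹ ∈ hat D j K (negBase D.P b) a' := by
      have := gp_conj_hat' (negBase D.P b) (neg_simple_mem_negBase ha) hh₂ (-e')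
      rwa [haa] at this
    refine ⟨_, habs χ _ hh₂' _ (gp_conj_hat b ha hh₁' (-e')) w hw, ?_⟩
    rw [hM, show gp j e ≫ D.u a = (tpt D j χ ≫ D.i) * (gp j e' ≫ D.u a) * (tpt D j χ ≫ D.i)⁻¹ by
      rw [conj_root j D.rootHom, he', mul_div_cancel₀ _ hχ0]]
    simp only [gp_neg, GrpObj.inv_comp, _root_.inv_inv]
    group

end Groth.L14.Chev.Cell
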