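import Groth.Agent.L14.Chev.Cell.Borel
import Groth.Agent.L14.Chev.Cell.BorelGroup
import Groth.Agent.L14.Chev.Cell.Lam

/-!
Ordered products of root groups along a set of roots positive for a functional.
-/

set_option autoImplicit false
universe u

open CategoryTheory CategoryTheory.Limits AlgebraicGeometry MonoidalCategory CartesianMonoidalCategory MonObj
open Groth.L14.RankOne Groth.L25 Groth.L14.Chart

set_option backward.isDefEq.respectTransparency.types false
set_option linter.style.haveILetI false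
set_option linter.unusedSectionVars false
set_option maxHeartbeats 1000000

noncomputable section

namespace Groth.L14.Chev.Cell

variable {S : Scheme.{u}} {G : Over S} [GrpObj G] {D : Red.SplitRed G}

variable (D) in
/-- The ordered product of root groups along an enumeration. -/
abbrev spanMap {k : ℕ} (e : Fin k → D.idx) : RedSub.pow (Red.Ga S) k ⟶ G :=
  RedSub.prodMap (Red.Ga S) k fun i => D.u (e i)

variable {k : ℕ} {e : Fin k → D.idx} (he : Function.Injective e)

section Points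

variable {R : Type u} [CommRing R] {j : Spec (CommRingCat.of R) ⟶ S} {C : Type u} [CommRing C] [Algebra R C]

theorem tup_spanMap (x : D.idx → C) :
    (tup k fun i => gp j (x (e i))) ≫ spanMap D e = rootProd j D.u (List.ofFn e) x := by
  rw [spanMap, comp_prodMap, rootProd_ofFn]
  simp only [tup_proj]

include he in
theorem exists_span_coords (t : Sp j C ⟶ RedSub.pow (Red.Ga S) k) :
    ∃ x : D.idx → C, t ≫ spanMap D e = rootProd j D.u (List.ofFn e) x ∧
      ∀ i, t ≫ proj (Red.Ga S) k i = gp j (x (e i)) := by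
  refine ⟨coordsOf e fun i => gv (t ≫ proj _ k i), ?_, fun i => by rw [coordsOf_apply he, gp_gv]⟩
  rw [spanMap, comp_prodMap, ofFn_prod_eq_rootProd j he]

variable [IsOpenImmersion j]

/-- Conjugation inside a filtered group does not change the part of lowest level. -/
theorem exists_conj_coord {Ψ : Set D.idx} {lv : D.idx → ℕ} (hF : Filt D Ψ lv) {l : List D.idx} (hnd : l.Nodup)
    (hl : ∀ c, c ∈ l ↔ c ∈ Ψ) {c : D.idx} {n : ℕ} (hc : c ∈ Ψ) (hn : n ≤ lv c) {r g : Sp j C ⟶ G}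
    (hr : r ∈ gen j C D.u Ψ lv (n + 1)) (hg : g ∈ gen j C D.u Ψ lv 0) (y : C) :
    ∃ x : D.idx → C, (∀ d, x d ≠ 0 → n + 1 ≤ lv d) ∧
      g * ((gp j y ≫ D.u c) * r) * g⁻¹ = (gp j y ≫ D.u c) * rootProd j D.u l x := by
  obtain ⟨h', hh', e''⟩ := gp_commute_mod D.rootHom hF hc hn y hg
  obtain ⟨x, hx, ex⟩ := exists_rootProd D.rootHom hF hnd hl
    (g := (gp j y ≫ D.u c)⁻¹ * (g * ((gp j y ≫ D.u c) * r) * g⁻¹)) (n := n + 1) (by
      rw [show (gp j y ≫ D.u c)⁻¹ * (g * ((gp j y ≫ D.u c) * r) * g⁻¹) =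
          ((gp j y ≫ D.u c)⁻¹ * (g * (gp j y ≫ D.u c))) * r * g⁻¹ by group,
        show g * (gp j y ≫ D.u c) = (gp j y ≫ D.u c) * g * h'⁻¹ by rw [e'']; group]
      rw [show (gp j y ≫ D.u c)⁻¹ * ((gp j y ≫ D.u c) * g * h'⁻¹) * r * g⁻¹ = g * (h'⁻¹ * r) * g⁻¹ by group]
      exact (conj_mem_gen D.rootHom hF hg _ (mul_mem (inv_mem hh') hr)).1)
  exact ⟨x, hx, by rw [ex, mul_inv_cancel_left]⟩

/-- A root point lying in a higher level vanishes. -/
theorem eq_zero_of_mem_gen {Ψ : Set D.idx} {lv : D.idx → ℕ} (hF : Filt D Ψ lv) {l : List D.idx} (hnd : l.Nodup)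
    (hl : ∀ c, c ∈ l ↔ c ∈ Ψ) {mu : D.M →+ ℤ} (hmu : ∀ c ∈ Ψ, 0 < mu (D.P.root c)) {c : D.idx} (hc : c ∈ Ψ)
    {n : ℕ} (hn : lv c < n) {a : C} (h : gp j a ≫ D.u c ∈ gen j C D.u Ψ lv n) : a = 0 := by
  classical
  haveI : ∀ c, IsMonHom (D.u c) := fun c => (D.rootHom c).1
  obtain ⟨z, hz, ez⟩ := exists_rootProd D.rootHom hF hnd hl h
  have e1 : rootProd j D.u l (Pi.single c a : D.idx → C) = gp j a ≫ D.u c := by
    rw [rootProd_single j hnd ((hl c).2 hc) fun d hd => Pi.single_eq_of_ne hd _, Pi.single_eq_same]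
  rw [← e1] at ez
  have e := rootProd_injective_of_pos D.rootHom hnd (fun d hd => hmu d ((hl d).1 hd)) ez c ((hl c).2 hc)
  rw [Pi.single_eq_same] at e
  by_contra ha
  exact absurd (hz c (e ▸ ha)) (by omega)

end Points

section Global

variable {mu : D.M →+ ℤ} (hmu : ∀ i, 0 < mu (D.P.root (e i)))

include he hmu in
theorem spanMap_injective {R : Type u} [CommRing R] {j : Spec (CommRingCat.of R) ⟶ S} [IsOpenImmersion j]
    {C : Type u} [CommRing C] [Algebra R C] {t t' : Sp j C ⟶ RedSub.pow (Red.Ga S) k}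
    (h : t ≫ spanMap D e = t' ≫ spanMap D e) : t = t' := by
  obtain ⟨x, hx, hx'⟩ := exists_span_coords he t
  obtain ⟨y, hy, hy'⟩ := exists_span_coords he t'
  rw [hx, hy] at h
  refine pow_ext fun i => ?_
  rw [hx', hy', rootProd_injective_of_pos D.rootHom (mu := mu) (List.nodup_ofFn.2 he) (fun c hc => by
    obtain ⟨i, rfl⟩ := List.mem_ofFn.1 hc; exact hmu i) h _ (List.mem_ofFn.2 ⟨i, rfl⟩)]

include he hmu in
theorem mono_spanMap : Mono (spanMap D e) :=
  ⟨fun p q h => hom_ext_open fun R _ j _ C _ _ t => spanMap_injective he hmu (by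
    rw [Category.assoc, Category.assoc, h])⟩

include he hmu in
/-- A morphism lands in a product of root groups as soon as its local points lie in the generated group. -/
theorem exists_span_lift {Ψ : Set D.idx} {lv : D.idx → ℕ} (hF : Filt D Ψ lv) {n : ℕ}
    (hΨ : ∀ c, c ∈ Set.range e ↔ c ∈ Ψ ∧ n ≤ lv c) {Z : Over S} [IsAffineHom Z.hom] (f : Z ⟶ G)
    (hf : ∀ (R : Type u) [CommRing R] (j : Spec (CommRingCat.of R) ⟶ S) [IsOpenImmersion j],
      univ j Z ≫ f ∈ gen j (Crd j Z) D.u Ψ lv n) :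
    ∃ w : Z ⟶ RedSub.pow (Red.Ga S) k, w ≫ spanMap D e = f := by
  classical
  haveI := mono_spanMap he hmu
  refine exists_lift_of_univ _ _ fun R _ j _ => ?_
  haveI : ∀ c, IsMonHom (D.u c) := fun c => (D.rootHom c).1
  let Ψ' : Set D.idx := {c | c ∈ Ψ ∧ n ≤ lv c}
  have hF' : Filt D Ψ' lv := ⟨fun a ha b hb => hF.ne a ha.1 b hb.1, fun a ha b hb c i k hi hk h => by
    obtain ⟨hc, h1, h2⟩ := hF.step a ha.1 b hb.1 c i k hi hk h
    exact ⟨⟨hc, ha.2.trans h1.le⟩, h1, h2⟩⟩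
  have hle : gen j (Crd j Z) D.u Ψ lv n ≤ gen j (Crd j Z) D.u Ψ' lv 0 := by
    rw [gen, Subgroup.closure_le]
    rintro _ ⟨c, hc, hn, x, rfl⟩
    exact gp_mem_gen (Ψ := Ψ') ⟨hc, hn⟩ (Nat.zero_le _) x
  obtain ⟨x, hx⟩ := (mem_gen_iff D.rootHom hF' (List.nodup_ofFn.2 he) (fun c => by
    rw [List.mem_ofFn, ← Set.mem_range (f := e), hΨ]; rfl)).1 (hle (hf R j))
  exact ⟨_, (tup_spanMap x).trans hx⟩

theorem affSmooth_span : AffSmooth (RedSub.pow (Red.Ga S) k) := affSmooth_ga.pow k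

omit he hmu in
theorem tup_comp {X : Over S} (y : Fin k → (X ⟶ Red.Ga S)) :
    tup k y ≫ spanMap D e = (List.ofFn fun i => y i ≫ D.u (e i)).prod := by
  rw [spanMap, comp_prodMap]
  simp only [tup_proj]

omit he hmu in
theorem comp_span {X : Over S} (t : X ⟶ RedSub.pow (Red.Ga S) k) :
    t ≫ spanMap D e = (List.ofFn fun i => (t ≫ proj _ k i) ≫ D.u (e i)).prod :=
  comp_prodMap _ t

end Global

end Groth.L14.Chev.Cell
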