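import Groth.Agent.L14.Chev.Cell.Limit
import Groth.Agent.L14.Chev.Cell.Isolate
import Groth.Agent.L14.Chev.Cell.Normalizer
import Groth.Agent.L14.Chev.Pinned

/-!
A homomorphism of the additive group which is equivariant for a root is a multiple of the root homomorphism.
-/

set_option autoImplicit false
universe u

open CategoryTheory CategoryTheory.Limits AlgebraicGeometry MonoidalCategory CartesianMonoidalCategory MonObj
open Groth.L14.RankOne Groth.L25 Groth.L14.Chart

set_option backward.isDefEq.respectTransparency.types false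
set_option linter.style.haveILetI false
set_option linter.unusedSectionVars false
set_option maxHeartbeats 1000000

noncomputable section

namespace Groth.L14.Chev.Cell

variable {S : Scheme.{u}} {G : Over S} [GrpObj G] {D : Red.SplitRed G} {b : D.P.Base}
  {n m : ℕ} {eneg : Fin n → D.idx} {epos : Fin m → D.idx}
  {R : Type u} [CommRing R] {j : Spec (CommRingCat.of R) ⟶ S} [IsOpenImmersion j]

/-- Multiplication of the variable by a character. -/
def scaleHom (R : Type u) [CommRing R] (c : D.M) :
    Polynomial R →ₐ[R] MonoidAlgebra (Polynomial R) (Multiplicative D.M) :=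
  Polynomial.aeval (MonoidAlgebra.single (Multiplicative.ofAdd c) Polynomial.X)

theorem coeff_scaleHom {c : D.M} (hc : c ≠ 0) (q : Polynomial R) (i : ℕ) :
    ((scaleHom (D := D) R c q).coeff (Multiplicative.ofAdd (i • c))).coeff i = q.coeff i := by
  classical
  haveI : IsAddTorsionFree D.M := .of_isTorsionFree ℤ _
  induction q using Polynomial.induction_on' with
  | add p q hp hq =>
    rw [map_add]
    rw [ofAdd_nsmul] at hp hq
    simp [hp, hq]
  | monomial k a =>
    rw [scaleHom, Polynomial.aeval_monomial, MonoidAlgebra.single_pow, MonoidAlgebra.coe_algebraMap, Function.comp_apply,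
      MonoidAlgebra.single_mul_single, _root_.one_mul, ← ofAdd_nsmul, MonoidAlgebra.coeff_single, Finsupp.single_apply,
      Polynomial.coeff_monomial]
    by_cases hk : k = i
    · subst hk
      simp [Polynomial.algebraMap_apply]
    · rw [if_neg hk, if_neg fun h => hk (Int.natCast_inj.1 (smul_left_injective ℤ hc
        (show (k : ℤ) • c = (i : ℤ) • c by rw [natCast_zsmul, natCast_zsmul]; exact Multiplicative.ofAdd.injective h)))]
      simp

variable (hneg : RedSub.Enumerates (RedSub.negRoots D.P b) eneg)
  (hpos : RedSub.Enumerates (RedSub.posRoots D.P b) epos)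

include hneg hpos in
theorem range_subset_cell {c : D.idx} {p : Red.Ga S ⟶ G}
    (hp : Red.IsRootHom D.i (D.split.hom.hom.hom ≫ Red.chi S (D.P.root c)) p) :
    Set.range (gp j (Polynomial.X : Polynomial R) ≫ p).left ⊆ Set.range (RedSub.cellMap D eneg epos).left := by
  classical
  haveI := hp.1
  haveI := isMonHom_i (D := D)
  haveI : ∀ c, IsMonHom (D.u c) := fun c => (D.rootHom c).1
  let v := Function.update D.u c p
  have hv : ∀ d, Red.IsRootHom D.i (D.split.hom.hom.hom ≫ Red.chi S (D.P.root d)) (v d) := fun d => by
    by_cases h : d = c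
    · subst h; simpa [v] using hp
    · simpa [v, h] using D.rootHom d
  rintro _ ⟨x, rfl⟩
  let K := AlgebraicClosure ((Spec (CommRingCat.of (Polynomial R))).residueField x)
  let hx : Spec (CommRingCat.of K) ⟶ Spec (CommRingCat.of (Polynomial R)) :=
    Red.geomPt (S := Spec (CommRingCat.of (Polynomial R))) x
  let φ : Polynomial R →+* K := (Spec.preimage hx).hom
  letI : Algebra R K := (φ.comp Polynomial.C).toAlgebra
  let φa : Polynomial R →ₐ[R] K := { φ with commutes' := fun r => rfl }
  let z : K := φa Polynomial.X
  have hxpt : (gp j (Polynomial.X : Polynomial R) ≫ p).left x = (gp j z ≫ p).left (IsLocalRing.closedPoint K) := by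
    rw [show gp j z ≫ p = mor j φa ≫ gp j (Polynomial.X : Polynomial R) ≫ p by rw [← Category.assoc, mor_gp],
      Over.comp_left, Scheme.Hom.comp_apply]
    refine congrArg (fun y => p.left ((gp j (Polynomial.X : Polynomial R)).left y)) ?_
    show x = (Spec.map (CommRingCat.ofHom φ)) (IsLocalRing.closedPoint K)
    rw [show CommRingCat.ofHom φ = Spec.preimage hx from rfl, Spec.map_preimage]
    have hs : hx (IsLocalRing.closedPoint K) ∈
        Set.range ((Spec (CommRingCat.of (Polynomial R))).fromSpecResidueField x) :=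
      ⟨_, (Scheme.Hom.comp_apply _ _ _).symm⟩
    rw [Scheme.range_fromSpecResidueField, Set.mem_singleton_iff] at hs
    exact hs.symm
  rw [hxpt]
  haveI := isOpenImmersion_cellMap hneg hpos
  have hzero : (1 : Sp j K ⟶ G).left (IsLocalRing.closedPoint K) ∈ Set.range (RedSub.cellMap D eneg epos).left := by
    have h := lift_cellMap (j := j) (eneg := eneg) (epos := epos) (1 : Multiplicative D.M →* K) 0 0
    rw [tpt_one, MonObj.one_comp, rootProd_eq_one j (x := (0 : D.idx → K)) fun _ _ => rfl,
      rootProd_eq_one j (x := (0 : D.idx → K)) fun _ _ => rfl, _root_.one_mul, _root_.one_mul] at h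
    rw [← h, Over.comp_left, Scheme.Hom.comp_apply]
    exact Set.mem_range_self _
  by_cases hz : z = 0
  · rw [hz, gp_zero, MonObj.one_comp]
    exact hzero
  -- a non-zero scalar whose point lies in the cell
  let O : Set (PrimeSpectrum (Polynomial K)) := (gp j (Polynomial.X : Polynomial K) ≫ p).left ⁻¹' Set.range (RedSub.cellMap D eneg epos).left
  have hO : IsOpen O := (RedSub.cellMap D eneg epos).left.isOpenEmbedding.isOpen_range.preimage
    (Scheme.Hom.continuous _)
  have hev : ∀ w : K, (gp j w ≫ p).left (IsLocalRing.closedPoint K) ∈ Set.range (RedSub.cellMap D eneg epos).left ↔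
      PrimeSpectrum.comap (Polynomial.aeval (R := K) w).toRingHom (IsLocalRing.closedPoint K) ∈ O := fun w => by
    let e : Polynomial K →ₐ[R] K := (Polynomial.aeval (R := K) w).restrictScalars R
    rw [show gp j w ≫ p = mor j e ≫ gp j (Polynomial.X : Polynomial K) ≫ p by
      rw [← Category.assoc, mor_gp]; simp [e], Over.comp_left, Scheme.Hom.comp_apply]
    rfl
  obtain ⟨q, hq, hqO⟩ := (PrimeSpectrum.isTopologicalBasis_basic_opens.exists_subset_of_mem_open
    ((hev 0).1 (by rw [gp_zero, MonObj.one_comp]; exact hzero)) hO)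
  obtain ⟨q, rfl⟩ := hq
  have hq0 : q ≠ 0 := fun h => by
    have := hqO.1
    rw [h] at this
    simp at this
  obtain ⟨w, hw, hqw⟩ := exists_root_avoiding hq0
  have hwO : (gp j w ≫ p).left (IsLocalRing.closedPoint K) ∈ Set.range (RedSub.cellMap D eneg epos).left := by
    refine (hev w).2 (hqO.2 ?_)
    show (Polynomial.aeval (R := K) w) q ∉ (IsLocalRing.closedPoint K).asIdeal
    rw [Polynomial.coe_aeval_eq_eval]
    intro h
    exact hqw (by
      have : (IsLocalRing.closedPoint K).asIdeal = (⊥ : Ideal K) := IsLocalRing.maximalIdeal_eq_bot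
      rwa [this, Ideal.mem_bot] at h)
  obtain ⟨t, ht⟩ := exists_cell_of_range hneg hpos _ hwO
  obtain ⟨χ₀, y, x', e, -⟩ := exists_coords t hneg.1 hpos.1
  rw [ht] at e
  obtain ⟨χ, hχ⟩ := exists_char_eq (D := D) c (div_ne_zero hz hw)
  have hzw : gp j z ≫ p = conjT D j χ (gp j w ≫ p) := by
    have h := conj_root j hv χ c w
    rw [show v c = p from Function.update_self _ _ _, hχ, div_mul_cancel₀ _ hw] at h
    exact h.symm
  rw [hzw, e, conjT_cell, ← lift_cellMap, Over.comp_left, Scheme.Hom.comp_apply]
  exact Set.mem_range_self _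

include hneg hpos in
/-- An equivariant homomorphism for a root is a multiple of the root homomorphism. -/
theorem exists_scale_of_cell {c : D.idx} {p : Red.Ga S ⟶ G}
    (hp : Red.IsRootHom D.i (D.split.hom.hom.hom ≫ Red.chi S (D.P.root c)) p) :
    ∃ a : R, ∀ (C : Type u) [CommRing C] [Algebra R C] (x : C),
      gp j x ≫ p = gp j (algebraMap R C a * x) ≫ D.u c := by
  classical
  haveI := hp.1
  haveI := isMonHom_i (D := D)
  haveI : ∀ c, IsMonHom (D.u c) := fun c => (D.rootHom c).1
  haveI : IsAddTorsionFree D.M := .of_isTorsionFree ℤ _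
  haveI := isOpenImmersion_cellMap hneg hpos
  obtain ⟨lam, hl⟩ := hasLam b
  let v := Function.update D.u c p
  have hv : ∀ d, Red.IsRootHom D.i (D.split.hom.hom.hom ≫ Red.chi S (D.P.root d)) (v d) := fun d => by
    by_cases h : d = c
    · subst h; simpa [v] using hp
    · simpa [v, h] using D.rootHom d
  let g := gp j (Polynomial.X : Polynomial R) ≫ p
  let t : Sp j (Polynomial R) ⟶ cellSpace D n m :=
    Over.homMk (IsOpenImmersion.lift _ g.left (range_subset_cell hneg hpos hp)) (by
      rw [← Over.w (RedSub.cellMap D eneg epos), IsOpenImmersion.lift_fac_assoc, Over.w])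
  have ht : t ≫ RedSub.cellMap D eneg epos = g := Over.OverMorphism.ext (IsOpenImmersion.lift_fac _ _ _)
  obtain ⟨χ, y, x, e, -⟩ := exists_coords t hneg.1 hpos.1
  rw [ht] at e
  let A := MonoidAlgebra (Polynomial R) (Multiplicative D.M)
  let inc : Polynomial R →ₐ[R] A := IsScalarTower.toAlgHom R (Polynomial R) A
  let σ : Multiplicative D.M →* A := MonoidAlgebra.of (Polynomial R) (Multiplicative D.M)
  let h' := scaleHom (D := D) R (D.P.root c)
  have heq : mor j h' ≫ g = conjT D j σ (mor j inc ≫ g) := by
    have h := conj_root j hv σ c (inc Polynomial.X)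
    rw [show v c = p from Function.update_self _ _ _] at h
    simp only [conjT, g, ← Category.assoc, mor_gp]
    rw [h]
    congr 2
    show Polynomial.aeval _ Polynomial.X = _
    rw [Polynomial.aeval_X]
    show _ = MonoidAlgebra.single _ 1 * MonoidAlgebra.single 1 Polynomial.X
    rw [MonoidAlgebra.single_mul_single, _root_.one_mul, _root_.mul_one]
  rw [e] at heq
  simp only [MonObj.comp_mul, mor_rootProd, ← Category.assoc (mor j h') (tpt D j χ),
    ← Category.assoc (mor j inc) (tpt D j χ), mor_tpt] at heq
  rw [conjT_cell] at heq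
  obtain ⟨hχ, hy, hx⟩ := cell_injective D.rootHom (mu := lam) (nodup_list hneg) (nodup_list hpos)
    (fun e he => (hl e).2 ((mem_list_iff hneg e).1 he)) (fun e he => (hl e).1 ((mem_list_iff hpos e).1 he)) heq
  have key : ∀ (d : D.M) (q : Polynomial R), h' q = σ (Multiplicative.ofAdd d) * inc q →
      ∀ i, q.coeff i ≠ 0 → i • D.P.root c = d := fun d q hq i hi => by
    by_contra hne
    refine hi ?_
    rw [← coeff_scaleHom (D := D) (D.P.ne_zero c) q i]
    show ((h' q).coeff _).coeff i = 0
    rw [hq]
    show ((MonoidAlgebra.single (Multiplicative.ofAdd d) 1 * MonoidAlgebra.single 1 q).coeff _).coeff i = 0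
    rw [MonoidAlgebra.single_mul_single, _root_.mul_one, _root_.one_mul, MonoidAlgebra.coeff_single,
      Finsupp.single_apply, if_neg fun h => hne (Multiplicative.ofAdd.injective h).symm, Polynomial.coeff_zero]
  have hχ1 : χ = 1 := by
    have h0 : (Polynomial.aeval (R := R) (0 : R) : Polynomial R →* R).comp χ = 1 := by
      have h := congrArg (fun s => mor j (Polynomial.aeval (R := R) (0 : R)) ≫ s) e
      simp only [g, MonObj.comp_mul, mor_rootProd, ← Category.assoc, mor_tpt, mor_gp, Polynomial.aeval_X, gp_zero,
        MonObj.one_comp] at h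
      have h1 : rootProd j D.u (List.ofFn eneg) (0 : D.idx → R) *
          ((tpt D j (1 : Multiplicative D.M →* R) ≫ D.i) * rootProd j D.u (List.ofFn epos) (0 : D.idx → R)) = 1 := by
        rw [rootProd_eq_one j (x := (0 : D.idx → R)) fun _ _ => rfl,
          rootProd_eq_one j (x := (0 : D.idx → R)) fun _ _ => rfl, tpt_one, MonObj.one_comp,
          _root_.one_mul, _root_.one_mul]
      exact ((cell_injective D.rootHom (mu := lam) (nodup_list hneg) (nodup_list hpos)
        (fun e he => (hl e).2 ((mem_list_iff hneg e).1 he)) (fun e he => (hl e).1 ((mem_list_iff hpos e).1 he))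
        (h1.trans h)).1).symm
    refine MonoidHom.ext fun k => ?_
    have hk : h' (χ k) = σ (Multiplicative.ofAdd 0) * inc (χ k) := by
      rw [ofAdd_zero, map_one, _root_.one_mul]
      exact DFunLike.congr_fun hχ k
    have hc0 : χ k = Polynomial.C ((χ k).coeff 0) := Polynomial.ext fun i => by
      rw [Polynomial.coeff_C]
      split_ifs with h
      · rw [h]
      · by_contra hi
        exact h ((nsmul_eq_zero_iff_left (D.P.ne_zero c)).1 (key 0 (χ k) hk i hi))
    have := DFunLike.congr_fun h0 k
    simp only [MonoidHom.comp_apply, MonoidHom.coe_coe, MonoidHom.one_apply, Polynomial.coe_aeval_eq_eval,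
      ← Polynomial.coeff_zero_eq_eval_zero] at this
    rw [hc0, this, map_one]
    rfl
  have hcoord : ∀ d (q : Polynomial R), h' q = σ (Multiplicative.ofAdd (D.P.root d)) * inc q →
      (d ≠ c → q = 0) ∧ (d = c → q = Polynomial.C (q.coeff 1) * Polynomial.X) := fun d q hq => by
    have h1 : ∀ i, q.coeff i ≠ 0 → d = c ∧ i = 1 := fun i hi => by
      have h2 := key _ q hq i hi
      have hi1 : (i : ℤ) • D.P.root c = (1 : ℤ) • D.P.root d := by rw [natCast_zsmul, h2, one_smul]
      have hi0 : (i : ℤ) ≠ 0 := fun h => D.P.ne_zero d (by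
        rw [← h2, show i = 0 by exact_mod_cast h, zero_smul])
      rcases eq_or_neg_of_dep D.P b hi0 hi1 with rfl | h3
      · exact ⟨rfl, by exact_mod_cast smul_left_injective ℤ (D.P.ne_zero c) hi1⟩
      · rw [h3, smul_neg, ← neg_smul] at hi1
        have := smul_left_injective ℤ (D.P.ne_zero d) hi1
        omega
    exact ⟨fun hd => Polynomial.ext fun i => by
        by_contra hi
        exact hd (h1 i (by simpa using hi)).1,
      fun hd => Polynomial.ext fun i => by
        rw [Polynomial.coeff_C_mul_X]
        split_ifs with h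
        · rw [h]
        · by_contra hi
          exact h (h1 i hi).2⟩
  have hsingle : ∀ (l : List D.idx) (w : D.idx → Polynomial R), l.Nodup → c ∈ l →
      (∀ d ∈ l, h' (w d) = σ (Multiplicative.ofAdd (D.P.root d)) * inc (w d)) →
        rootProd j D.u l w = gp j (algebraMap R (Polynomial R) ((w c).coeff 1) * Polynomial.X) ≫ D.u c := by
    intro l w hl_nd hcl hw
    have hwl : rootProd j D.u l w = rootProd j D.u l (fun d => if d ∈ l then w d else 0) := by
      simp only [rootProd]
      exact congrArg List.prod (List.map_congr_left fun d hd => by rw [if_pos hd])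
    rw [hwl, rootProd_single j hl_nd hcl fun d hd => ?_]
    · congr 2
      rw [if_pos hcl, Polynomial.algebraMap_eq]
      exact (hcoord c _ (hw c hcl)).2 rfl
    · split_ifs with hdl
      · exact (hcoord d _ (hw d hdl)).1 hd
      · rfl
  have hg : ∃ a : R, g = gp j (algebraMap R (Polynomial R) a * Polynomial.X) ≫ D.u c := by
    rw [e, hχ1, tpt_one, MonObj.one_comp, _root_.one_mul]
    rcases pos_or_neg D.P b c with hc | hc
    · refine ⟨(x c).coeff 1, ?_⟩
      have h1 : rootProd j D.u (List.ofFn eneg) y = 1 := rootProd_eq_one j fun d hd =>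
        (hcoord d _ (hy d hd)).1 fun h => by
          have h2 := (hl c).1 hc
          have h3 := (hl d).2 ((mem_list_iff hneg d).1 hd)
          subst h; omega
      rw [h1, _root_.one_mul]
      exact hsingle _ _ (nodup_list hpos) ((mem_list_iff hpos c).2 hc) hx
    · refine ⟨(y c).coeff 1, ?_⟩
      have h1 : rootProd j D.u (List.ofFn epos) x = 1 := rootProd_eq_one j fun d hd =>
        (hcoord d _ (hx d hd)).1 fun h => by
          have h2 := (hl c).2 hc
          have h3 := (hl d).1 ((mem_list_iff hpos d).1 hd)
          subst h; omega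
      rw [h1, _root_.mul_one]
      exact hsingle _ _ (nodup_list hneg) ((mem_list_iff hneg c).2 hc) hy
  obtain ⟨a, ha⟩ := hg
  refine ⟨a, fun C _ _ z => ?_⟩
  have := congrArg (fun s => mor j (Polynomial.aeval z : Polynomial R →ₐ[R] C) ≫ s) ha
  simpa only [g, ← Category.assoc, mor_gp, Polynomial.aeval_X, map_mul, AlgHom.commutes] using this

end Groth.L14.Chev.Cell
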