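import Groth.Agent.L14.Chev.Cell.Weight

/-!
A homomorphism of the additive group which is equivariant through a map of character groups is a monomial in one root
homomorphism.
-/

set_option autoImplicit false
universe u

open CategoryTheory CategoryTheory.Limits AlgebraicGeometry MonoidalCategory CartesianMonoidalCategory MonObj
open Groth.L14.RankOne Groth.L25 Groth.L14.Chart

set_option backward.isDefEq.respectTransparency.types false
set_option linter.style.haveILetI false
set_option linter.unusedSectionVars false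
set_option maxHeartbeats 1000000

noncomputable section

namespace Groth.L14.Chev.Cell

variable {S : Scheme.{u}} {G : Over S} [GrpObj G] {D : Red.SplitRed G} {b : D.P.Base}
  {G₀ : Over S} [GrpObj G₀] {D₀ : Red.SplitRed G₀}
  {n m : ℕ} {eneg : Fin n → D.idx} {epos : Fin m → D.idx}
  {R : Type u} [CommRing R] {j : Spec (CommRingCat.of R) ⟶ S} [IsOpenImmersion j]

/-- A morphism of the additive group scaled by a root of another split group through a map of character groups. -/
def Equivariant (j : Spec (CommRingCat.of R) ⟶ S) [IsOpenImmersion j] (f : D.M →+ D₀.M) (a : D₀.idx)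
    (p : Red.Ga S ⟶ G) : Prop :=
  ∀ (C : Type u) [CommRing C] [Algebra R C] (χ : Multiplicative D₀.M →* C) (x : C),
    conjT D j (χ.comp (AddMonoidHom.toMultiplicative f)) (gp j x ≫ p) =
      gp j (χ (Multiplicative.ofAdd (D₀.P.root a)) * x) ≫ p

variable {f : D.M →+ D₀.M}

variable (hneg : RedSub.Enumerates (RedSub.negRoots D.P b) eneg)
  (hpos : RedSub.Enumerates (RedSub.posRoots D.P b) epos)

include hneg hpos in
theorem range_subset_cell' {a : D₀.idx} {p : Red.Ga S ⟶ G} [IsMonHom p] (hp : Equivariant j f a p) :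
    Set.range (gp j (Polynomial.X : Polynomial R) ≫ p).left ⊆ Set.range (RedSub.cellMap D eneg epos).left := by
  classical
  haveI := isMonHom_i (D := D)
  haveI : ∀ c, IsMonHom (D.u c) := fun c => (D.rootHom c).1
  rintro _ ⟨x, rfl⟩
  let K := AlgebraicClosure ((Spec (CommRingCat.of (Polynomial R))).residueField x)
  let hx : Spec (CommRingCat.of K) ⟶ Spec (CommRingCat.of (Polynomial R)) :=
    Red.geomPt (S := Spec (CommRingCat.of (Polynomial R))) x
  let φ : Polynomial R →+* K := (Spec.preimage hx).hom
  letI : Algebra R K := (φ.comp Polynomial.C).toAlgebra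
  let φa : Polynomial R →ₐ[R] K := { φ with commutes' := fun r => rfl }
  let z : K := φa Polynomial.X
  have hxpt : (gp j (Polynomial.X : Polynomial R) ≫ p).left x = (gp j z ≫ p).left (IsLocalRing.closedPoint K) := by
    rw [show gp j z ≫ p = mor j φa ≫ gp j (Polynomial.X : Polynomial R) ≫ p by rw [← Category.assoc, mor_gp],
      Over.comp_left, Scheme.Hom.comp_apply]
    refine congrArg (fun y => p.left ((gp j (Polynomial.X : Polynomial R)).left y)) ?_
    show x = (Spec.map (CommRingCat.ofHom φ)) (IsLocalRing.closedPoint K)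
    rw [show CommRingCat.ofHom φ = Spec.preimage hx from rfl, Spec.map_preimage]
    have hs : hx (IsLocalRing.closedPoint K) ∈
        Set.range ((Spec (CommRingCat.of (Polynomial R))).fromSpecResidueField x) :=
      ⟨_, (Scheme.Hom.comp_apply _ _ _).symm⟩
    rw [Scheme.range_fromSpecResidueField, Set.mem_singleton_iff] at hs
    exact hs.symm
  rw [hxpt]
  haveI := isOpenImmersion_cellMap hneg hpos
  have hzero : (1 : Sp j K ⟶ G).left (IsLocalRing.closedPoint K) ∈ Set.range (RedSub.cellMap D eneg epos).left := by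
    have h := lift_cellMap (j := j) (eneg := eneg) (epos := epos) (1 : Multiplicative D.M →* K) 0 0
    rw [tpt_one, MonObj.one_comp, rootProd_eq_one j (x := (0 : D.idx → K)) fun _ _ => rfl,
      rootProd_eq_one j (x := (0 : D.idx → K)) fun _ _ => rfl, _root_.one_mul, _root_.one_mul] at h
    rw [← h, Over.comp_left, Scheme.Hom.comp_apply]
    exact Set.mem_range_self _
  by_cases hz : z = 0
  · rw [hz, gp_zero, MonObj.one_comp]
    exact hzero
  -- a non-zero scalar whose point lies in the cell
  let O : Set (PrimeSpectrum (Polynomial K)) := (gp j (Polynomial.X : Polynomial K) ≫ p).left ⁻¹' Set.range (RedSub.cellMap D eneg epos).left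
  have hO : IsOpen O := (RedSub.cellMap D eneg epos).left.isOpenEmbedding.isOpen_range.preimage
    (Scheme.Hom.continuous _)
  have hev : ∀ w : K, (gp j w ≫ p).left (IsLocalRing.closedPoint K) ∈ Set.range (RedSub.cellMap D eneg epos).left ↔
      PrimeSpectrum.comap (Polynomial.aeval (R := K) w).toRingHom (IsLocalRing.closedPoint K) ∈ O := fun w => by
    let e : Polynomial K →ₐ[R] K := (Polynomial.aeval (R := K) w).restrictScalars R
    rw [show gp j w ≫ p = mor j e ≫ gp j (Polynomial.X : Polynomial K) ≫ p by
      rw [← Category.assoc, mor_gp]; simp [e], Over.comp_left, Scheme.Hom.comp_apply]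
    rfl
  obtain ⟨q, hq, hqO⟩ := (PrimeSpectrum.isTopologicalBasis_basic_opens.exists_subset_of_mem_open
    ((hev 0).1 (by rw [gp_zero, MonObj.one_comp]; exact hzero)) hO)
  obtain ⟨q, rfl⟩ := hq
  have hq0 : q ≠ 0 := fun h => by
    have := hqO.1
    rw [h] at this
    simp at this
  obtain ⟨w, hw, hqw⟩ := exists_root_avoiding hq0
  have hwO : (gp j w ≫ p).left (IsLocalRing.closedPoint K) ∈ Set.range (RedSub.cellMap D eneg epos).left := by
    refine (hev w).2 (hqO.2 ?_)
    show (Polynomial.aeval (R := K) w) q ∉ (IsLocalRing.closedPoint K).asIdeal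
    rw [Polynomial.coe_aeval_eq_eval]
    intro h
    exact hqw (by
      have : (IsLocalRing.closedPoint K).asIdeal = (⊥ : Ideal K) := IsLocalRing.maximalIdeal_eq_bot
      rwa [this, Ideal.mem_bot] at h)
  obtain ⟨t, ht⟩ := exists_cell_of_range hneg hpos _ hwO
  obtain ⟨χ₀, y, x', e, -⟩ := exists_coords t hneg.1 hpos.1
  rw [ht] at e
  obtain ⟨χ', hχ⟩ := exists_char_eq (D := D₀) a (div_ne_zero hz hw)
  obtain ⟨χ, hzw⟩ : ∃ χ : Multiplicative D.M →* K, gp j z ≫ p = conjT D j χ (gp j w ≫ p) :=
    ⟨_, by rw [hp K χ' w, hχ, div_mul_cancel₀ _ hw]⟩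
  rw [hzw, e, conjT_cell, ← lift_cellMap, Over.comp_left, Scheme.Hom.comp_apply]
  exact Set.mem_range_self _

include hneg hpos in
/-- An equivariant homomorphism is trivial or a monomial in the root homomorphism of a root above the given one. -/
theorem exists_monomial_of_cell [IsDomain R] (hf : Function.Injective f) {a : D₀.idx} {p : Red.Ga S ⟶ G} [IsMonHom p]
    (hp : Equivariant j f a p) :
    (∀ (C : Type u) [CommRing C] [Algebra R C] (x : C), gp j x ≫ p = 1) ∨
      ∃ (d : D.idx) (i : ℕ) (r : R), 0 < i ∧ r ≠ 0 ∧ f (D.P.root d) = i • D₀.P.root a ∧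
        ∀ (C : Type u) [CommRing C] [Algebra R C] (x : C), gp j x ≫ p = gp j (algebraMap R C r * x ^ i) ≫ D.u d := by
  classical
  haveI := isMonHom_i (D := D)
  haveI : ∀ c, IsMonHom (D.u c) := fun c => (D.rootHom c).1
  haveI : IsAddTorsionFree D.M := .of_isTorsionFree ℤ _
  haveI : IsAddTorsionFree D₀.M := .of_isTorsionFree ℤ _
  haveI := isOpenImmersion_cellMap hneg hpos
  obtain ⟨lam, hl⟩ := hasLam b
  let g := gp j (Polynomial.X : Polynomial R) ≫ p
  let t : Sp j (Polynomial R) ⟶ cellSpace D n m :=
    Over.homMk (IsOpenImmersion.lift _ g.left (range_subset_cell' hneg hpos hp)) (by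
      rw [← Over.w (RedSub.cellMap D eneg epos), IsOpenImmersion.lift_fac_assoc, Over.w])
  have ht : t ≫ RedSub.cellMap D eneg epos = g := Over.OverMorphism.ext (IsOpenImmersion.lift_fac _ _ _)
  obtain ⟨χ, y, x, e, -⟩ := exists_coords t hneg.1 hpos.1
  rw [ht] at e
  let A := MonoidAlgebra (Polynomial R) (Multiplicative D₀.M)
  let inc : Polynomial R →ₐ[R] A := IsScalarTower.toAlgHom R (Polynomial R) A
  let σ : Multiplicative D₀.M →* A := MonoidAlgebra.of (Polynomial R) (Multiplicative D₀.M)
  let h' := scaleHom (D := D₀) R (D₀.P.root a)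
  have heq : mor j h' ≫ g = conjT D j (σ.comp (AddMonoidHom.toMultiplicative f)) (mor j inc ≫ g) := by
    have h := hp A σ (inc Polynomial.X)
    simp only [g, ← Category.assoc, mor_gp]
    rw [h]
    congr 2
    show Polynomial.aeval _ Polynomial.X = _
    rw [Polynomial.aeval_X]
    show _ = MonoidAlgebra.single _ 1 * MonoidAlgebra.single 1 Polynomial.X
    rw [MonoidAlgebra.single_mul_single, _root_.one_mul, _root_.mul_one]
  rw [e] at heq
  simp only [MonObj.comp_mul, mor_rootProd, ← Category.assoc (mor j h') (tpt D j χ),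
    ← Category.assoc (mor j inc) (tpt D j χ), mor_tpt] at heq
  rw [conjT_cell] at heq
  obtain ⟨hχ, hy, hx⟩ := cell_injective D.rootHom (mu := lam) (nodup_list hneg) (nodup_list hpos)
    (fun e he => (hl e).2 ((mem_list_iff hneg e).1 he)) (fun e he => (hl e).1 ((mem_list_iff hpos e).1 he)) heq
  have key : ∀ (d : D₀.M) (q : Polynomial R), h' q = σ (Multiplicative.ofAdd d) * inc q →
      ∀ i, q.coeff i ≠ 0 → i • D₀.P.root a = d := fun d q hq i hi => by
    by_contra hne
    refine hi ?_
    rw [← coeff_scaleHom (D := D₀) (D₀.P.ne_zero a) q i]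
    show ((h' q).coeff _).coeff i = 0
    rw [hq]
    show ((MonoidAlgebra.single (Multiplicative.ofAdd d) 1 * MonoidAlgebra.single 1 q).coeff _).coeff i = 0
    rw [MonoidAlgebra.single_mul_single, _root_.mul_one, _root_.one_mul, MonoidAlgebra.coeff_single,
      Finsupp.single_apply, if_neg fun h => hne (Multiplicative.ofAdd.injective h).symm, Polynomial.coeff_zero]
  have hχ1 : χ = 1 := by
    have h0 : (Polynomial.aeval (R := R) (0 : R) : Polynomial R →* R).comp χ = 1 := by
      have h := congrArg (fun s => mor j (Polynomial.aeval (R := R) (0 : R)) ≫ s) e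
      simp only [g, MonObj.comp_mul, mor_rootProd, ← Category.assoc, mor_tpt, mor_gp, Polynomial.aeval_X, gp_zero,
        MonObj.one_comp] at h
      have h1 : rootProd j D.u (List.ofFn eneg) (0 : D.idx → R) *
          ((tpt D j (1 : Multiplicative D.M →* R) ≫ D.i) * rootProd j D.u (List.ofFn epos) (0 : D.idx → R)) = 1 := by
        rw [rootProd_eq_one j (x := (0 : D.idx → R)) fun _ _ => rfl,
          rootProd_eq_one j (x := (0 : D.idx → R)) fun _ _ => rfl, tpt_one, MonObj.one_comp,
          _root_.one_mul, _root_.one_mul]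
      exact ((cell_injective D.rootHom (mu := lam) (nodup_list hneg) (nodup_list hpos)
        (fun e he => (hl e).2 ((mem_list_iff hneg e).1 he)) (fun e he => (hl e).1 ((mem_list_iff hpos e).1 he))
        (h1.trans h)).1).symm
    refine MonoidHom.ext fun k => ?_
    have hk : h' (χ k) = σ (Multiplicative.ofAdd 0) * inc (χ k) := by
      rw [ofAdd_zero, map_one, _root_.one_mul]
      exact DFunLike.congr_fun hχ k
    have hc0 : χ k = Polynomial.C ((χ k).coeff 0) := Polynomial.ext fun i => by
      rw [Polynomial.coeff_C]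
      split_ifs with h
      · rw [h]
      · by_contra hi
        exact h ((nsmul_eq_zero_iff_left (D₀.P.ne_zero a)).1 (key 0 (χ k) hk i hi))
    have := DFunLike.congr_fun h0 k
    simp only [MonoidHom.comp_apply, MonoidHom.coe_coe, MonoidHom.one_apply, Polynomial.coe_aeval_eq_eval,
      ← Polynomial.coeff_zero_eq_eval_zero] at this
    rw [hc0, this, map_one]
    rfl
  -- all the non-zero coefficients sit at one root and in one degree
  let w : D.idx → Polynomial R := fun d =>
    if d ∈ List.ofFn epos then x d else if d ∈ List.ofFn eneg then y d else 0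
  have hdisj : ∀ d, d ∈ List.ofFn epos → d ∈ List.ofFn eneg → False := fun d h1 h2 => by
    have h3 := (hl d).1 ((mem_list_iff hpos d).1 h1)
    have h4 := (hl d).2 ((mem_list_iff hneg d).1 h2)
    omega
  have hwx : ∀ d ∈ List.ofFn epos, x d = w d := fun d hd => (if_pos hd).symm
  have hwy : ∀ d ∈ List.ofFn eneg, y d = w d := fun d hd => by
    simp only [w]
    rw [if_neg fun h => hdisj d h hd, if_pos hd]
  have hw : ∀ d, h' (w d) = σ (Multiplicative.ofAdd (f (D.P.root d))) * inc (w d) := fun d => by
    simp only [w]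
    split_ifs with h1 h2
    · exact hx d h1
    · exact hy d h2
    · simp
  have hsame : ∀ d d' i i', (w d).coeff i ≠ 0 → (w d').coeff i' ≠ 0 → d = d' ∧ i = i' ∧ 0 < i := by
    intro d d' i i' hi hi'
    have h1 := key _ _ (hw d) i hi
    have h2 := key _ _ (hw d') i' hi'
    have hi0 : i ≠ 0 := fun h => D.P.ne_zero d (hf (by rw [← h1, h, zero_smul, map_zero]))
    have hi'0 : i' ≠ 0 := fun h => D.P.ne_zero d' (hf (by rw [← h2, h, zero_smul, map_zero]))
    have h3 : (i : ℤ) • D.P.root d' = (i' : ℤ) • D.P.root d := hf (by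
      rw [map_zsmul, map_zsmul, ← h1, ← h2, ← natCast_zsmul, ← natCast_zsmul, smul_smul, smul_smul, mul_comm])
    haveI : IsAddTorsionFree D.M := .of_isTorsionFree ℤ _
    rcases eq_or_neg_of_dep D.P b (Int.natCast_ne_zero.2 hi0) h3 with rfl | h4
    · exact ⟨rfl, by exact_mod_cast smul_left_injective ℤ (D.P.ne_zero _) h3, Nat.pos_of_ne_zero hi0⟩
    · rw [h4, smul_neg, ← neg_smul] at h3
      have := smul_left_injective ℤ (D.P.ne_zero d) h3
      omega
  have hg : g = rootProd j D.u (List.ofFn eneg) w * rootProd j D.u (List.ofFn epos) w := by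
    rw [e, hχ1, tpt_one, MonObj.one_comp, _root_.one_mul]
    congr 1 <;> simp only [rootProd]
    · exact congrArg List.prod (List.map_congr_left fun d hd => by rw [hwy d hd])
    · exact congrArg List.prod (List.map_congr_left fun d hd => by rw [hwx d hd])
  by_cases hall : ∀ d, w d = 0
  · left
    intro C _ _ z
    have h1 : g = 1 := by
      rw [hg, rootProd_eq_one j fun d _ => hall d, rootProd_eq_one j fun d _ => hall d, _root_.one_mul]
    have := congrArg (fun s => mor j (Polynomial.aeval z : Polynomial R →ₐ[R] C) ≫ s) h1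
    simpa only [g, MonObj.comp_one, ← Category.assoc, mor_gp, Polynomial.aeval_X] using this
  · right
    push Not at hall
    obtain ⟨d, hd⟩ := hall
    obtain ⟨i, hi⟩ : ∃ i, (w d).coeff i ≠ 0 := by
      by_contra hno
      push Not at hno
      exact hd (Polynomial.ext fun i => by rw [hno i, Polynomial.coeff_zero])
    have hmono : w d = Polynomial.C ((w d).coeff i) * Polynomial.X ^ i := Polynomial.ext fun i' => by
      rw [Polynomial.coeff_C_mul_X_pow]
      split_ifs with h
      · rw [h]
      · by_contra hi'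
        exact h (hsame d d i i' hi hi').2.1.symm
    have hother : ∀ d', d' ≠ d → w d' = 0 := fun d' hd' => Polynomial.ext fun i' => by
      by_contra hi'
      exact hd' (hsame d' d i' i (by simpa using hi') hi).1
    have hgd : g = gp j (algebraMap R (Polynomial R) ((w d).coeff i) * Polynomial.X ^ i) ≫ D.u d := by
      rw [hg, Polynomial.algebraMap_eq, ← hmono]
      rcases pos_or_neg D.P b d with hc | hc
      · have hm := (mem_list_iff hpos d).2 hc
        rw [rootProd_eq_one j (l := List.ofFn eneg) fun d' hd' => hother d' fun h => hdisj d hm (h ▸ hd'),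
          rootProd_single j (nodup_list hpos) hm fun d' hd' => hother d' hd', _root_.one_mul]
      · have hm := (mem_list_iff hneg d).2 hc
        rw [rootProd_eq_one j (l := List.ofFn epos) fun d' hd' => hother d' fun h => hdisj d (h ▸ hd') hm,
          rootProd_single j (nodup_list hneg) hm fun d' hd' => hother d' hd', _root_.mul_one]
    refine ⟨d, i, (w d).coeff i, (hsame d d i i hi hi).2.2, hi, (key _ _ (hw d) i hi).symm, fun C _ _ z => ?_⟩
    have := congrArg (fun s => mor j (Polynomial.aeval z : Polynomial R →ₐ[R] C) ≫ s) hgd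
    simpa only [g, ← Category.assoc, mor_gp, Polynomial.aeval_X, map_mul, map_pow, AlgHom.commutes] using this

end Groth.L14.Chev.Cell
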